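import Mathlib
import Cfsg.Agent.Lib.RankOneInvol.Twist
import Cfsg.Agent.Lib.TwoGroups.ControlledTransfer
import Cfsg.Agent.S1134

/-!
Rank-one set-up whose regular subgroup is an abelian 2-group: `C_D(t)` is abelian, the point
stabiliser maps onto it, and the transfer onto it is the power map by the degree.
-/

set_option autoImplicit false
set_option linter.style.haveILetI false
set_option linter.unusedSectionVars false

namespace CfsgLib.SylTwoAbel

open CfsgLib.RankOneInvol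
open MulAction (stabilizer)

universe u v

/-- An odd element centralising the involutions of an abelian 2-group it normalises centralises it. -/
theorem commute_of_fix_invols {G : Type u} [Group G] {P : Subgroup G} (hP : IsPGroup 2 P)
    (hc : ∀ x ∈ P, ∀ y ∈ P, x * y = y * x) {d : G} (hd : Odd (orderOf d))
    (hn : ∀ x ∈ P, d * x * d⁻¹ ∈ P) (hfix : ∀ x ∈ P, x * x = 1 → d * x = x * d) :
    ∀ x ∈ P, d * x = x * d := by
  suffices h : ∀ k : ℕ, ∀ x ∈ P, x ^ 2 ^ k = 1 → d * x = x * d by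
    intro x hx
    obtain ⟨k, hk⟩ := hP ⟨x, hx⟩
    exact h k x hx (by simpa using congrArg Subtype.val hk)
  intro k
  induction k with
  | zero =>
    intro x _ hx
    rw [pow_zero, pow_one] at hx
    rw [hx, mul_one, one_mul]
  | succ k ih =>
    intro x hx hxk
    have hx2 : d * (x * x) = x * x * d := ih _ (P.mul_mem hx hx) (by
      rw [← pow_two, ← pow_mul, ← pow_succ']; exact hxk)
    set y := d * x * d⁻¹ with hy
    have hyP : y ∈ P := hn x hx
    set z := x⁻¹ * y with hz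
    have hzP : z ∈ P := P.mul_mem (P.inv_mem hx) hyP
    have hcxy : Commute x⁻¹ y := hc _ (P.inv_mem hx) _ hyP
    have hzz : z * z = 1 := by
      have h1 : y * y = x * x := by
        rw [hy, show d * x * d⁻¹ * (d * x * d⁻¹) = d * (x * x) * d⁻¹ by group, hx2,
          mul_inv_cancel_right]
      calc z * z = x⁻¹ * (y * x⁻¹) * y := by rw [hz]; group
        _ = x⁻¹ * (x⁻¹ * y) * y := by rw [hcxy.eq]
        _ = x⁻¹ * x⁻¹ * (y * y) := by group
        _ = 1 := by rw [h1]; group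
    have hdz : Commute d z := hfix z hzP hzz
    have hiter : ∀ j : ℕ, d ^ j * x * (d ^ j)⁻¹ = x * z ^ j := by
      intro j
      induction j with
      | zero => simp
      | succ j ihj =>
        calc d ^ (j + 1) * x * (d ^ (j + 1))⁻¹ = d * (d ^ j * x * (d ^ j)⁻¹) * d⁻¹ := by
              rw [pow_succ']; group
          _ = d * (x * z ^ j) * d⁻¹ := by rw [ihj]
          _ = (d * x * d⁻¹) * (d * z ^ j * d⁻¹) := by group
          _ = y * z ^ j := by rw [← hy, (hdz.pow_right j).eq, mul_inv_cancel_right]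
          _ = x * z ^ (j + 1) := by
              rw [pow_succ', ← mul_assoc x z, show x * z = y from mul_inv_cancel_left x y]
    obtain ⟨i, hi⟩ := hd
    have h1 := hiter (orderOf d)
    rw [pow_orderOf_eq_one, one_mul, inv_one, mul_one, hi, pow_succ, pow_mul, pow_two, hzz,
      one_pow, one_mul] at h1
    have hz1 : z = 1 := left_eq_mul.1 h1
    rw [hz, inv_mul_eq_one] at hz1
    exact (mul_inv_eq_iff_eq_mul.1 hz1.symm)

/-- The standing hypotheses. -/
structure Ctx (G : Type u) {Ω : Type v} [Group G] [MulAction G Ω] (a : Ω) (t : G)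
    (Q : Subgroup G) : Prop where
  setup : Cfsg.IsRankOneSetup G Ω a t Q
  faith : ∀ g : G, (∀ x : Ω, g • x = x) → g = 1
  comm : ∀ x ∈ Q, ∀ y ∈ Q, x * y = y * x
  two : IsPGroup 2 Q
  four : ∃ x ∈ Q, ∃ y ∈ Q, x ≠ 1 ∧ y ≠ 1 ∧ x ≠ y ∧ x * x = 1 ∧ y * y = 1

/-- `C_D(t)`. -/
abbrev fixTwo (G : Type u) [Group G] {Ω : Type v} [MulAction G Ω] (a : Ω) (t : G) : Subgroup G :=
  twoPt G a t ⊓ Subgroup.centralizer {t}

variable {G : Type u} [Group G] {Ω : Type v} [MulAction G Ω] {a : Ω} {t : G} {Q : Subgroup G}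

theorem mem_fixTwo (ht : t * t = 1) {d : G} :
    d ∈ fixTwo G a t ↔ d ∈ twoPt G a t ∧ t * d * t = d := by
  rw [Subgroup.mem_inf, Subgroup.mem_centralizer_singleton_iff]
  refine and_congr_right fun _ => ⟨fun h => ?_, fun h => ?_⟩
  · rw [← h, mul_assoc, ht, mul_one]
  · calc d * t = t * d * t * t := by rw [h]
      _ = t * d := by rw [mul_assoc, ht, mul_one]

variable (C : Ctx G a t Q)
include C

theorem Ctx.faithful : FaithfulSMul G Ω :=
  ⟨fun {g h} e => inv_mul_eq_one.1 (C.faith (h⁻¹ * g) fun x => by rw [mul_smul, e x, inv_smul_smul]) |>.symm⟩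

theorem Ctx.h2 :
    ∃ x y : G, x ≠ 1 ∧ y ≠ 1 ∧ x ≠ y ∧ x * x = 1 ∧ y * y = 1 ∧ x * y = y * x := by
  obtain ⟨x, hx, y, hy, h1, h2, h3, h4, h5⟩ := C.four
  exact ⟨x, y, h1, h2, h3, h4, h5, C.comm x hx y hy⟩

theorem Ctx.invol_mem_iff {s : G} :
    s ∈ Cfsg.involutionsIn (stabilizer G a : Set G) ↔ s ∈ Q ∧ s ≠ 1 ∧ s * s = 1 := by
  rw [mem_invols]
  exact ⟨fun h => ⟨inv_mem_Q_of_fixed C.setup h.2.2 h.1, h.2⟩,
    fun h => ⟨Q_smul C.setup h.1, h.2⟩⟩

variable [Finite G]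

/-- An element of `D` centralising the involutions of `Q` is trivial. -/
theorem Ctx.eq_one_of_centralizes {d : G} (hd : d ∈ twoPt G a t)
    (h : ∀ s ∈ Q, s * s = 1 → d * s = s * d) : d = 1 := by
  have hS := C.setup
  have hcQ : ∀ x ∈ Q, d * x = x * d := commute_of_fix_invols C.two C.comm (odd_twoPt hS hd)
    (fun x hx => Q_conj hS (mem_twoPt.1 hd).1 hx) h
  refine C.faith d fun x => ?_
  by_cases hx : x = a
  · rw [hx]; exact (mem_twoPt.1 hd).1
  obtain ⟨q, hq, rfl⟩ := Q_trans hS hx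
  rw [← mul_smul, hcQ q hq, mul_smul, (mem_twoPt.1 hd).2]

/-- `C_D(t)` is cyclic. -/
theorem Ctx.exists_gen_fixTwo : ∃ v0 ∈ fixTwo G a t, fixTwo G a t = Subgroup.zpowers v0 := by
  have hS := C.setup
  obtain ⟨s0, r0, h0⟩ := exists_paired_right hS (isSwap_t hS)
  obtain ⟨-, -, v0, hv0, hv0t, hv⟩ := invSet_structure hS C.h2
  have hv0V : v0 ∈ fixTwo G a t := (mem_fixTwo hS.mul_self).2 ⟨hv0, hv0t⟩
  refine ⟨v0, hv0V, le_antisymm (fun w hw => ?_) (Subgroup.zpowers_le.2 hv0V)⟩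
  obtain ⟨hwD, hwt⟩ := (mem_fixTwo hS.mul_self).1 hw
  obtain ⟨n, hn⟩ := hv w hwD hwt
  have hxV : w * v0 ^ n ∈ fixTwo G a t := mul_mem hw (zpow_mem hv0V n)
  obtain ⟨hxD, hxt⟩ := (mem_fixTwo hS.mul_self).1 hxV
  have h1 : w * v0 ^ n = 1 := by
    refine C.eq_one_of_centralizes hxD fun s hs hss => ?_
    by_cases hs1 : s = 1
    · rw [hs1, mul_one, one_mul]
    obtain ⟨k, hk, rfl⟩ := invols_eq_conj hS h0 ((C.invol_mem_iff).2 ⟨hs, hs1, hss⟩)
    have hds : Commute (w * v0 ^ n) s0 := (centralizer_base hS h0 hxD).2 hxt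
    have hdk : Commute (w * v0 ^ n) k := (hn k hk).symm
    exact ((hdk.inv_right.mul_right hds).mul_right hdk).eq
  rw [eq_inv_of_mul_eq_one_left h1]
  exact inv_mem (zpow_mem (Subgroup.mem_zpowers v0) n)

theorem Ctx.fixTwo_comm {x y : G} (hx : x ∈ fixTwo G a t) (hy : y ∈ fixTwo G a t) : x * y = y * x := by
  obtain ⟨v0, -, e⟩ := C.exists_gen_fixTwo
  rw [e] at hx hy
  obtain ⟨i, rfl⟩ := hx
  obtain ⟨j, rfl⟩ := hy
  exact (Commute.zpow_zpow_self v0 i j).eq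

theorem Ctx.fixTwo_commutative : IsMulCommutative (fixTwo G a t) :=
  ⟨⟨fun x y => Subtype.ext (C.fixTwo_comm x.2 y.2)⟩⟩

/-- Elements of `C_D(t)` conjugate in the group are equal. -/
theorem Ctx.fusion {x : G} (hx : x ∈ fixTwo G a t) {g : G} (hg : g * x * g⁻¹ ∈ fixTwo G a t) :
    g * x * g⁻¹ = x := by
  haveI := C.faithful
  obtain ⟨w, hw, e⟩ := Cfsg.Agent.S1134.result C.setup C.h2 {x}
    (by rintro _ rfl; exact hx) g (by rintro _ ⟨_, rfl, rfl⟩; exact hg)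
  rw [Set.image_singleton, Set.image_singleton, Set.singleton_eq_singleton_iff] at e
  rw [← e, C.fixTwo_comm hw hx, mul_inv_cancel_right]

/-- An element of `C_D(t)` fixes a third point. -/
theorem Ctx.exists_third : ∃ e : Ω, e ≠ a ∧ e ≠ t • a ∧ ∀ w ∈ fixTwo G a t, w • e = e := by
  have hS := C.setup
  obtain ⟨s0, r0, h0⟩ := exists_paired_right hS (isSwap_t hS)
  obtain ⟨hsQ, hs1, hss⟩ := C.invol_mem_iff.1 h0.1
  refine ⟨s0 • t • a, fun e => ta_ne hS ?_, fun e => hs1 (eq_one_of_mem_Q hS hsQ e),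
    fun w hw => ?_⟩
  · rw [← inv_smul_smul s0 (t • a), e]
    exact Q_smul hS (Q.inv_mem hsQ)
  · obtain ⟨hwD, hwt⟩ := (mem_fixTwo hS.mul_self).1 hw
    rw [← mul_smul, (centralizer_base hS h0 hwD).2 hwt, mul_smul, (mem_twoPt.1 hwD).2]

/-- The inverted elements form a subgroup normal in `D`. -/
theorem Ctx.exists_invSubgroup : ∃ K : Subgroup G, (∀ k, k ∈ K ↔ k ∈ invSet G a t) ∧
    ∀ d ∈ twoPt G a t, ∀ k ∈ K, d * k * d⁻¹ ∈ K := by
  obtain ⟨⟨k0, -, hk0⟩, hconj, -⟩ := invSet_structure C.setup C.h2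
  exact ⟨Subgroup.zpowers k0, fun k => (hk0 k).symm,
    fun d hd k hk => (hk0 _).1 (hconj d hd k ((hk0 k).2 hk))⟩

theorem Ctx.decomp_point {g : G} (hg : g • a = a) :
    ∃ w ∈ fixTwo G a t, ∃ q ∈ Q, ∃ k ∈ invSet G a t, g = q * (k * w) := by
  have hS := C.setup
  obtain ⟨q, hq, d, hd, rfl⟩ := decomp hS hg
  obtain ⟨k, w, hk, hw, hwt, rfl⟩ := decomp_V' hS hd
  exact ⟨w, (mem_fixTwo hS.mul_self).2 ⟨hw, hwt⟩, q, hq, k, hk, rfl⟩

theorem Ctx.decomp_point_unique {q q' k k' w w' : G} (hq : q ∈ Q) (hq' : q' ∈ Q)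
    (hk : k ∈ invSet G a t) (hk' : k' ∈ invSet G a t) (hw : w ∈ fixTwo G a t)
    (hw' : w' ∈ fixTwo G a t) (e : q * (k * w) = q' * (k' * w')) : w = w' := by
  have hS := C.setup
  obtain ⟨hkD, hkt⟩ := (mem_invSet hS).1 hk
  obtain ⟨hk'D, hk't⟩ := (mem_invSet hS).1 hk'
  obtain ⟨hwD, hwt⟩ := (mem_fixTwo hS.mul_self).1 hw
  obtain ⟨hwD', hwt'⟩ := (mem_fixTwo hS.mul_self).1 hw'
  have e2 := congrArg (·⁻¹) (decomp_unique hS hq hq' (mul_mem hkD hwD) (mul_mem hk'D hwD') e).2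
  simp only [mul_inv_rev] at e2
  exact inv_injective (fixed_mul_inverted_unique hS.odd_card hS.mul_self
    (by rw [conj_t_inv hS, hwt]) (inv_mem hkD) (by rw [conj_t_inv hS, hkt])
    (by rw [conj_t_inv hS, hwt']) (inv_mem hk'D) (by rw [conj_t_inv hS, hk't]) e2).1

/-- The projection of the point stabiliser onto `C_D(t)`. -/
noncomputable def projFun (C : Ctx G a t Q) (g : stabilizer G a) : fixTwo G a t :=
  ⟨(C.decomp_point g.2).choose, (C.decomp_point g.2).choose_spec.1⟩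

theorem projFun_eq {g : stabilizer G a} {q k w : G} (hq : q ∈ Q) (hk : k ∈ invSet G a t)
    (hw : w ∈ fixTwo G a t) (e : (g : G) = q * (k * w)) : (projFun C g : G) = w := by
  obtain ⟨q', hq', k', hk', e'⟩ := (C.decomp_point g.2).choose_spec.2
  exact C.decomp_point_unique hq' hq hk' hk (C.decomp_point g.2).choose_spec.1 hw (e'.symm.trans e)

/-- The projection, as a homomorphism. -/
noncomputable def proj (C : Ctx G a t Q) : stabilizer G a →* fixTwo G a t :=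
  MonoidHom.mk' (projFun C) (by
    intro x y
    have hS := C.setup
    obtain ⟨K, hK, hKn⟩ := C.exists_invSubgroup
    obtain ⟨w, hw, q, hq, k, hk, ex⟩ := C.decomp_point x.2
    obtain ⟨w', hw', q', hq', k', hk', ey⟩ := C.decomp_point y.2
    obtain ⟨hkD, -⟩ := (mem_invSet hS).1 hk
    obtain ⟨hwD, -⟩ := (mem_fixTwo hS.mul_self).1 hw
    have hq'' : (k * w) * q' * (k * w)⁻¹ ∈ Q :=
      Q_conj hS (mem_twoPt.1 (mul_mem hkD hwD)).1 hq'
    have hk'' : k * (w * k' * w⁻¹) ∈ invSet G a t :=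
      (hK _).1 (K.mul_mem ((hK k).2 hk) (hKn w hwD k' ((hK k').2 hk')))
    refine Subtype.ext ?_
    rw [Subgroup.coe_mul, projFun_eq C hq hk hw ex, projFun_eq C hq' hk' hw' ey,
      projFun_eq C (Q.mul_mem hq hq'') hk'' (mul_mem hw hw')]
    rw [Subgroup.coe_mul, ex, ey]
    group)

theorem proj_fixTwo {g : stabilizer G a} (hg : (g : G) ∈ fixTwo G a t) : (proj C g : G) = g :=
  projFun_eq C Q.one_mem (one_mem_invSet C.setup) hg (by rw [one_mul, one_mul])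

theorem proj_Q {g : stabilizer G a} (hg : (g : G) ∈ Q) : proj C g = 1 :=
  Subtype.ext ((projFun_eq C hg (one_mem_invSet C.setup) (one_mem _)
    (by rw [one_mul, mul_one])).trans rfl)

/-- Conjugates of an element of `C_D(t)` in the point stabiliser project onto it. -/
theorem proj_conj {v : G} (hv : v ∈ fixTwo G a t) {g : G} (hg : g⁻¹ * v * g ∈ stabilizer G a) :
    (proj C ⟨_, hg⟩ : G) = v := by
  classical
  have hS := C.setup
  obtain ⟨hvD, -⟩ := (mem_fixTwo hS.mul_self).1 hv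
  obtain ⟨e, hea, het, he⟩ := C.exists_third
  have hfix : ∀ x : Ω, v • x = x → (g⁻¹ * v * g) • g⁻¹ • x = g⁻¹ • x := fun x hx => by
    rw [mul_smul, mul_smul, smul_inv_smul, hx]
  obtain ⟨b, hba, hb⟩ : ∃ b, b ≠ a ∧ (g⁻¹ * v * g) • b = b := by
    by_cases h : g⁻¹ • a = a
    · exact ⟨g⁻¹ • t • a, fun e' => ta_ne hS (smul_left_cancel g⁻¹ (e'.trans h.symm)),
        hfix _ (mem_twoPt.1 hvD).2⟩
    · exact ⟨g⁻¹ • a, h, hfix _ (mem_twoPt.1 hvD).1⟩
  obtain ⟨q, hq, rfl⟩ := Q_trans hS hba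
  set d := q⁻¹ * (g⁻¹ * v * g) * q with hd
  have hdD : d ∈ twoPt G a t := mem_twoPt.2 ⟨by
    rw [hd, mul_smul, mul_smul, Q_smul hS hq, show (g⁻¹ * v * g) • a = a from hg,
      inv_smul_eq_iff, Q_smul hS hq], by
    rw [hd, mul_smul, mul_smul, hb, inv_smul_smul]⟩
  have hX : ({d} : Set G) ⊆ (twoPt G a t : Set G) := by rintro _ rfl; exact hdD
  have hfd : ∀ x : Ω, v • x = x → d • q⁻¹ • g⁻¹ • x = q⁻¹ • g⁻¹ • x := fun x hx => by
    rw [hd, mul_smul, mul_smul, smul_inv_smul, hfix x hx]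
  have h3 : ∃ b c d' : Ω, b ≠ c ∧ b ≠ d' ∧ c ≠ d' ∧
      ∀ x ∈ ({d} : Set G), x • b = b ∧ x • c = c ∧ x • d' = d' := by
    refine ⟨q⁻¹ • g⁻¹ • a, q⁻¹ • g⁻¹ • t • a, q⁻¹ • g⁻¹ • e, ?_, ?_, ?_, ?_⟩
    · exact fun h => ta_ne hS (smul_left_cancel _ (smul_left_cancel _ h)).symm
    · exact fun h => hea (smul_left_cancel _ (smul_left_cancel _ h)).symm
    · exact fun h => het (smul_left_cancel _ (smul_left_cancel _ h)).symm
    · rintro _ rfl
      exact ⟨hfd _ (mem_twoPt.1 hvD).1, hfd _ (mem_twoPt.1 hvD).2, hfd _ (he v hv)⟩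
  obtain ⟨u, hu, hsw⟩ := exists_swap_centralizing hS hX h3
  obtain ⟨k, hk, rfl⟩ := swap_eq_conj_t hS hsw
  obtain ⟨hkD, -⟩ := (mem_invSet hS).1 hk
  have hdu : d * (k⁻¹ * t * k) = k⁻¹ * t * k * d :=
    Subgroup.mem_centralizer_iff.1 hu d rfl
  have hw : k * d * k⁻¹ ∈ fixTwo G a t := by
    refine ⟨Subgroup.mul_mem _ (Subgroup.mul_mem _ hkD hdD) (Subgroup.inv_mem _ hkD),
      Subgroup.mem_centralizer_singleton_iff.2 ?_⟩
    calc k * d * k⁻¹ * t = k * (d * (k⁻¹ * t * k)) * k⁻¹ := by group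
      _ = k * (k⁻¹ * t * k * d) * k⁻¹ := by rw [hdu]
      _ = t * (k * d * k⁻¹) := by group
  have hwv : k * d * k⁻¹ = v := by
    have e1 : k * d * k⁻¹ = (k * q⁻¹ * g⁻¹) * v * (k * q⁻¹ * g⁻¹)⁻¹ := by rw [hd]; group
    rw [e1]
    exact C.fusion hv (e1 ▸ hw)
  have hka : k ∈ stabilizer G a := (mem_twoPt.1 hkD).1
  have hqa : q ∈ stabilizer G a := Q_smul hS hq
  have hva : v ∈ stabilizer G a := (mem_twoPt.1 hvD).1
  have e2 : (⟨_, hg⟩ : stabilizer G a) = (⟨q, hqa⟩ : stabilizer G a) *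
      ((⟨k, hka⟩ : stabilizer G a)⁻¹ * (⟨v, hva⟩ : stabilizer G a) * ⟨k, hka⟩) *
      (⟨q, hqa⟩ : stabilizer G a)⁻¹ := by
    refine Subtype.ext ?_
    show g⁻¹ * v * g = q * (k⁻¹ * v * k) * q⁻¹
    rw [show k⁻¹ * v * k = d by rw [← hwv]; group, hd]
    group
  rw [e2]
  haveI := C.fixTwo_commutative
  simp only [map_mul, map_inv]
  rw [show (proj C ⟨k, hka⟩)⁻¹ * proj C ⟨v, hva⟩ * proj C ⟨k, hka⟩ = proj C ⟨v, hva⟩ by
      rw [mul_comm' ((proj C ⟨k, hka⟩)⁻¹), inv_mul_cancel_right],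
    proj_Q C (g := ⟨q, hqa⟩) hq, inv_one, mul_one, one_mul]
  exact proj_fixTwo C (g := ⟨v, hva⟩) hv

/-- If some element of `C_D(t)` has non-trivial power by the degree, the group has a proper normal
subgroup containing `Q` and `t`. -/
theorem Ctx.exists_normal_of_pow_ne {v : G} (hv : v ∈ fixTwo G a t) (hn : v ^ Nat.card Ω ≠ 1) :
    ∃ K : Subgroup G, K.Normal ∧ v ∉ K ∧ Q ≤ K ∧ t ∈ K := by
  have hS := C.setup
  haveI := C.fixTwo_commutative
  letI : CommGroup (fixTwo G a t) := { mul_comm := fun x y => Subtype.ext (C.fixTwo_comm x.2 y.2) }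
  haveI : MulAction.IsPretransitive G Ω := ⟨fun x y => by
    obtain ⟨g, rfl⟩ := exists_smul hS x
    obtain ⟨h, rfl⟩ := exists_smul hS y
    exact ⟨h * g⁻¹, by rw [mul_smul, inv_smul_smul]⟩⟩
  have hidx : (stabilizer G a).index = Nat.card Ω := MulAction.index_stabilizer_of_transitive G a
  set τ : G →* fixTwo G a t := MonoidHom.transfer (proj C) with hτ
  have hodd : Odd (Nat.card (fixTwo G a t)) :=
    hS.odd_card.of_dvd_nat (Subgroup.card_dvd_of_le inf_le_left)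
  have hkill : ∀ g : G, ∀ k : ℕ, g ^ 2 ^ k = 1 → τ g = 1 := fun g k hg => by
    have h1 : orderOf (τ g) ∣ 2 ^ k := orderOf_dvd_of_pow_eq_one (by rw [← map_pow, hg, map_one])
    have h2 : orderOf (τ g) ∣ Nat.card (fixTwo G a t) := orderOf_dvd_natCard _
    have h3 : Nat.Coprime (2 ^ k) (Nat.card (fixTwo G a t)) :=
      Nat.Coprime.pow_left _ (Nat.coprime_two_left.2 hodd)
    exact orderOf_eq_one_iff.1 (Nat.eq_one_of_dvd_coprimes h3 h1 h2)
  refine ⟨τ.ker, inferInstance, fun h => hn ?_, fun x hx => ?_, hkill t 1 (by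
    rw [pow_one, pow_two, hS.mul_self])⟩
  · have hva : v ∈ stabilizer G a := (mem_twoPt.1 hv.1).1
    have h1 : τ v = proj C ⟨v, hva⟩ ^ (stabilizer G a).index := by
      refine CfsgLib.TwoGroups.transfer_eq_pow_of_controlled (proj C) v hva fun k x hx => ?_
      refine Subtype.ext ?_
      rw [proj_conj C (pow_mem hv k) hx, SubgroupClass.coe_pow, proj_fixTwo C (g := ⟨v, hva⟩) hv]
    rw [MonoidHom.mem_ker, h1, hidx] at h
    have h2 := congrArg Subtype.val h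
    rwa [SubgroupClass.coe_pow, proj_fixTwo C (g := ⟨v, hva⟩) hv] at h2
  · obtain ⟨k, hk⟩ := C.two ⟨x, hx⟩
    exact hkill x k (by simpa using congrArg Subtype.val hk)

/-- The set-up restricted to a subgroup containing `Q` and `t`. -/
theorem Ctx.restrict (K : Subgroup G) (hQ : Q ≤ K) (ht : t ∈ K) :
    Ctx ↥K a (⟨t, ht⟩ : K) (Q.subgroupOf K) := by
  have hS := C.setup
  have hmov : ∀ x : Ω, ∃ g ∈ K, g • a = x := fun x => by
    by_cases hx : x = a
    · exact ⟨1, one_mem _, by rw [one_smul, hx]⟩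
    · obtain ⟨q, hq, e⟩ := Q_trans hS hx
      exact ⟨q * t, mul_mem (hQ hq) ht, by rw [mul_smul, e]⟩
  have hpair : ∀ x y : Ω, x ≠ y → ∃ g ∈ K, g • a = x ∧ g • t • a = y := fun x y hxy => by
    obtain ⟨g, hg, rfl⟩ := hmov x
    have hne : g⁻¹ • y ≠ a := fun e => hxy (by rw [← e, smul_inv_smul])
    obtain ⟨q, hq, e⟩ := Q_trans hS hne
    exact ⟨g * q, mul_mem hg (hQ hq), by rw [mul_smul, Q_smul hS hq],
      by rw [mul_smul, e, smul_inv_smul]⟩
  have hcard : Nat.card (Q.subgroupOf K) = Nat.card Q :=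
    Nat.card_congr (Subgroup.subgroupOfEquivOfLe hQ).toEquiv
  refine ⟨⟨?_, Subtype.ext hS.mul_self, fun e => hS.ne_one (congrArg Subtype.val e),
    hS.not_mem, fun x hx => hS.le hx, fun h hh x hx => hS.conj_mem _ hh _ hx, ?_, ?_,
    hcard ▸ hS.even_card, ?_⟩, fun g hg => Subtype.ext (C.faith _ hg),
    fun x hx y hy => Subtype.ext (C.comm _ hx _ hy), ?_, ?_⟩
  · rw [MulAction.is_two_pretransitive_iff]
    intro x y x' y' hxy hxy'
    obtain ⟨g, hg, rfl, rfl⟩ := hpair x y hxy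
    obtain ⟨g', hg', rfl, rfl⟩ := hpair x' y' hxy'
    exact ⟨⟨g', hg'⟩ * ⟨g, hg⟩⁻¹, by
      show (g' * g⁻¹) • g • a = _
      rw [mul_smul, inv_smul_smul], by
      show (g' * g⁻¹) • g • t • a = _
      rw [mul_smul, inv_smul_smul]⟩
  · rw [eq_bot_iff]
    rintro x ⟨hx, hxt⟩
    exact Subtype.ext (eq_one_of_mem_Q hS hx hxt)
  · refine le_antisymm (sup_le (fun x hx => hS.le hx) inf_le_left) fun g hg => ?_
    obtain ⟨q, hq, d, hd, e⟩ := decomp hS (show (g : G) • a = a from hg)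
    have hdK : d ∈ K := by
      rw [show d = q⁻¹ * g by rw [e, inv_mul_cancel_left]]
      exact mul_mem (inv_mem (hQ hq)) g.2
    rw [show g = ⟨q, hQ hq⟩ * ⟨d, hdK⟩ from Subtype.ext e]
    exact mul_mem (Subgroup.mem_sup_left hq)
      (Subgroup.mem_sup_right ⟨(mem_twoPt.1 hd).1, (mem_twoPt.1 hd).2⟩)
  · refine hS.odd_card.of_dvd_nat (Subgroup.card_dvd_of_injective
      ((K.subtype.comp (Subgroup.subtype _)).codRestrict _ fun x => ?_) ?_)
    · exact ⟨x.2.1, x.2.2⟩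
    · exact fun x y e => Subtype.ext (Subtype.ext (congrArg Subtype.val e :))
  · exact C.two.of_equiv (Subgroup.subgroupOfEquivOfLe hQ).symm
  · obtain ⟨x, hx, y, hy, h1, h2, h3, h4, h5⟩ := C.four
    exact ⟨⟨x, hQ hx⟩, hx, ⟨y, hQ hy⟩, hy, fun e => h1 (congrArg Subtype.val e),
      fun e => h2 (congrArg Subtype.val e), fun e => h3 (congrArg Subtype.val e),
      Subtype.ext h4, Subtype.ext h5⟩

end CfsgLib.SylTwoAbel
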