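import Mathlib
import Cfsg.Agent.S1161
import Cfsg.Agent.Lib.BenderTrans.Pairs
import Cfsg.Agent.Lib.BenderTrans.Main
import Cfsg.Agent.Lib.PF.OddOrder
import Cfsg.Agent.Lib.SylTwoAbel.Setup
import Cfsg.Prelude.Def_LieRecognition

/-!
In a simple group with a strongly embedded subgroup `M` having a normal self-centralising abelian Sylow
2-subgroup `S` with two involutions, two point stabilisers are complements of `S` in `M`.
-/

set_option autoImplicit false
set_option linter.style.haveILetI false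
set_option linter.unusedSectionVars false

namespace CfsgLib.SylTwoAbel

open MulAction CfsgLib.BenderTrans CfsgLib.OddOrder

universe u

/-- An element of 2-power order modulo a subgroup of odd index lies in it. -/
theorem mem_of_pow_two_pow_mem {K : Type u} [Group K] [Finite K] {S : Subgroup K} [S.Normal]
    (hidx : Odd S.index) {g : K} {a : ℕ} (h : g ^ 2 ^ a ∈ S) : g ∈ S := by
  rw [← QuotientGroup.eq_one_iff]
  have h1 : ((g : K ⧸ S)) ^ 2 ^ a = 1 := by
    rw [← QuotientGroup.mk_pow]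
    exact (QuotientGroup.eq_one_iff _).2 h
  have h2 : orderOf (g : K ⧸ S) ∣ S.index := by
    rw [Subgroup.index_eq_card]; exact orderOf_dvd_natCard _
  exact orderOf_eq_one_iff.1 (Nat.eq_one_of_dvd_coprimes
    ((Nat.coprime_two_left.2 hidx).pow_left a) (orderOf_dvd_of_pow_eq_one h1) h2)

/-- If a group induces on the involutions of a normal self-centralising abelian 2-subgroup of odd
index a transitive group, then `q`-subgroups, `q` prime to the number of involutions, are abelian and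
centralised by their normalisers. -/
theorem commute_of_transitive {K : Type u} [Group K] [Finite K] {S : Subgroup K} [S.Normal]
    (hS : IsPGroup 2 S) (hcomm : ∀ x ∈ S, ∀ y ∈ S, x * y = y * x)
    (hcent : ∀ g : K, (∀ x ∈ S, g * x = x * g) → g ∈ S) (hidx : Odd S.index)
    (hne : ∃ x ∈ S, x ≠ 1 ∧ x * x = 1)
    (htrans : ∀ x ∈ S, ∀ y ∈ S, x ≠ 1 → y ≠ 1 → x * x = 1 → y * y = 1 → ∃ g : K, g * x * g⁻¹ = y)
    {q : ℕ} (hq : q.Prime) (hq2 : q ≠ 2)
    (hdvd : ¬ q ∣ {x : K | x ∈ S ∧ x ≠ 1 ∧ x * x = 1}.ncard)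
    {Q : Subgroup K} (hQ : IsPGroup q Q) :
    ∀ g ∈ Subgroup.normalizer (Q : Set K), ∀ x ∈ Q, g * x = x * g := by
  classical
  have : Fact q.Prime := ⟨hq⟩
  let V : Subgroup K :=
    { carrier := {x | x ∈ S ∧ x * x = 1}
      one_mem' := ⟨S.one_mem, mul_one 1⟩
      mul_mem' := fun {x y} hx hy => ⟨S.mul_mem hx.1 hy.1,
        calc x * y * (x * y) = x * (y * x) * y := by group
          _ = x * (x * y) * y := by rw [hcomm y hy.1 x hx.1]
          _ = (x * x) * (y * y) := by group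
          _ = 1 := by rw [hx.2, hy.2, one_mul]⟩
      inv_mem' := fun {x} hx => ⟨S.inv_mem hx.1, by rw [← mul_inv_rev, hx.2, inv_one]⟩ }
  have hVmem : ∀ x, x ∈ V ↔ x ∈ S ∧ x * x = 1 := fun x => Iff.rfl
  haveI hVn : V.Normal := ⟨fun x hx g => ⟨‹S.Normal›.conj_mem x hx.1 g, by
    calc g * x * g⁻¹ * (g * x * g⁻¹) = g * (x * x) * g⁻¹ := by group
      _ = 1 := by rw [((hVmem x).1 hx).2]; group⟩⟩
  haveI : IsMulCommutative V := ⟨⟨fun x y => Subtype.ext (hcomm _ x.2.1 _ y.2.1)⟩⟩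
  let φ : K →* MulAut V := MulAut.conjNormal
  have hφ : ∀ (g : K) (v : V), (φ g v : K) = g * (v : K) * g⁻¹ := fun g v => MulAut.conjNormal_apply g v
  have hker : φ.ker = S := by
    refine le_antisymm (fun g hg => ?_) (fun g hg => MonoidHom.mem_ker.2 ?_)
    · have hgV : ∀ x ∈ V, g * x = x * g := fun x hx => mul_inv_eq_iff_eq_mul.1 (by
        rw [← hφ g ⟨x, hx⟩, MonoidHom.mem_ker.1 hg, MulAut.one_apply])
      obtain ⟨a, b, hb, hab⟩ := Nat.exists_eq_two_pow_mul_odd (orderOf_pos g).ne'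
      have hord : orderOf (g ^ 2 ^ a) = b := by
        rw [orderOf_pow' g (by positivity), hab, Nat.gcd_eq_right (dvd_mul_right _ _),
          Nat.mul_div_cancel_left _ (by positivity)]
      refine mem_of_pow_two_pow_mem hidx (a := a) (hcent _ ?_)
      exact commute_of_fix_invols hS hcomm (hord ▸ hb) (fun x hx => ‹S.Normal›.conj_mem x hx _)
        fun x hx hxx => ((show Commute g x from hgV x ⟨hx, hxx⟩).pow_left _).eq
    · refine MulEquiv.ext fun v => Subtype.ext ?_
      rw [hφ, MulAut.one_apply, hcomm g hg _ v.2.1, mul_inv_cancel_right]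
  let H := φ.range
  letI iadd : AddCommGroup (Additive V) :=
    { (inferInstance : AddGroup (Additive V)) with
      add_comm := fun x y => Subtype.ext (hcomm _ x.toMul.2.1 _ y.toMul.2.1) }
  letI : DistribMulAction H (Additive V) :=
    { smul := fun h v => Additive.ofMul ((h : MulAut V) v.toMul)
      one_smul := fun v => rfl
      mul_smul := fun h k v => rfl
      smul_zero := fun h => map_one (h : MulAut V)
      smul_add := fun h v w => map_mul (h : MulAut V) v.toMul w.toMul }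
  have hsmul : ∀ (h : H) (v : Additive V), h • v = Additive.ofMul ((h : MulAut V) v.toMul) :=
    fun h v => rfl
  haveI : FaithfulSMul H (Additive V) := ⟨fun {h k} e =>
    Subtype.ext (MulEquiv.ext fun v => e (Additive.ofMul v))⟩
  haveI : Nontrivial (Additive V) := by
    obtain ⟨x, hxS, hx1, hxx⟩ := hne
    exact ⟨⟨Additive.ofMul ⟨x, hxS, hxx⟩, 0, fun e => hx1 (congrArg Subtype.val e)⟩⟩
  haveI : Finite (Additive V) := Finite.of_equiv V Additive.ofMul
  have hHodd : Odd (Nat.card H) := by rw [← Subgroup.index_ker, hker]; exact hidx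
  have hE : ∀ e : Additive V, 2 • e = 0 := fun e => by
    rw [two_nsmul]; exact Subtype.ext e.toMul.2.2
  have htr : ∀ a b : Additive V, a ≠ 0 → b ≠ 0 → ∃ d : H, d • a = b := by
    intro a b ha hb
    obtain ⟨g, hg⟩ := htrans _ a.toMul.2.1 _ b.toMul.2.1 (fun e => ha (Subtype.ext e))
      (fun e => hb (Subtype.ext e)) a.toMul.2.2 b.toMul.2.2
    exact ⟨⟨φ g, g, rfl⟩, Subtype.ext ((hφ g a.toMul).trans hg)⟩
  obtain ⟨-, hsemi, hcommF⟩ :=
    Cfsg.Agent.S1161.result (D := H) (E := Additive V) hHodd Nat.prime_two hE htr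
  intro g hg x hx
  set k := g * x * g⁻¹ * x⁻¹ with hk
  have hkQ : k ∈ Q := Q.mul_mem ((Subgroup.mem_normalizer_iff.1 hg x).1 hx) (Q.inv_mem hx)
  have hkF : φ.rangeRestrict k ∈ Cfsg.fittingSubgroup H := by
    refine hcommF ?_
    rw [hk, ← commutatorElement_def, map_commutatorElement, commutator_def]
    exact Subgroup.commutator_mem_commutator (Subgroup.mem_top _) (Subgroup.mem_top _)
  have hk1 : φ.rangeRestrict k = 1 := by
    by_contra hne1
    obtain ⟨i, hi⟩ := hQ ⟨k, hkQ⟩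
    have hi' : (φ.rangeRestrict k) ^ q ^ i = 1 := by
      rw [← map_pow, show k ^ q ^ i = 1 by simpa using congrArg Subtype.val hi, map_one]
    obtain ⟨j, -, hj⟩ := (Nat.dvd_prime_pow hq).1 (orderOf_dvd_of_pow_eq_one hi')
    have hj0 : j ≠ 0 := fun e => hne1 (orderOf_eq_one_iff.1 (by rw [hj, e, pow_zero]))
    set f := (φ.rangeRestrict k) ^ (orderOf (φ.rangeRestrict k) / q) with hf
    have hfq : orderOf f = q :=
      orderOf_pow_orderOf_div (orderOf_pos _).ne' (hj ▸ dvd_pow_self q hj0)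
    have hfF : f ∈ Cfsg.fittingSubgroup H := Subgroup.pow_mem _ hkF _
    have hp : IsPGroup q (Subgroup.zpowers f) :=
      IsPGroup.of_card (n := 1) (by rw [Nat.card_zpowers, hfq, pow_one])
    have hfix : MulAction.fixedPoints (Subgroup.zpowers f) (Additive V) = {0} := by
      ext v
      refine ⟨fun hv => hsemi f hfF (fun e => hq.one_lt.ne' (by rw [← hfq, e, orderOf_one])) v
        (hv ⟨f, Subgroup.mem_zpowers f⟩), fun hv => ?_⟩
      rw [Set.mem_singleton_iff] at hv
      intro h; rw [hv]; exact smul_zero (h : H)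
    have hmod := hp.card_modEq_card_fixedPoints (α := Additive V)
    rw [hfix, Nat.card_coe_set_eq, Set.ncard_singleton] at hmod
    have hcard : Nat.card (Additive V) = {x : K | x ∈ S ∧ x ≠ 1 ∧ x * x = 1}.ncard + 1 := by
      have hins : insert (1 : K) {x : K | x ∈ S ∧ x ≠ 1 ∧ x * x = 1} = (V : Set K) := by
        ext x
        refine ⟨?_, fun hx => ?_⟩
        · rintro (rfl | ⟨h1, -, h3⟩)
          · exact V.one_mem
          · exact ⟨h1, h3⟩
        · by_cases h1 : x = 1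
          · exact Or.inl h1
          · exact Or.inr ⟨hx.1, h1, hx.2⟩
      rw [Nat.card_congr (Additive.toMul (α := V)), ← SetLike.coe_sort_coe, Nat.card_coe_set_eq,
        ← hins, Set.ncard_insert_of_notMem (fun h => h.2.1 rfl) (Set.toFinite _)]
    rw [hcard] at hmod
    exact hdvd ((Nat.modEq_zero_iff_dvd).1 (Nat.ModEq.add_right_cancel' 1 hmod))
  have hkS : k ∈ S := by
    rw [← hker]; exact MonoidHom.mem_ker.2 (congrArg Subtype.val hk1)
  obtain ⟨i, hi⟩ := hQ ⟨k, hkQ⟩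
  obtain ⟨j, hj⟩ := hS ⟨k, hkS⟩
  have hk0 : k = 1 := orderOf_eq_one_iff.1 (Nat.eq_one_of_dvd_coprimes
    (Nat.Coprime.pow i j ((Nat.coprime_primes hq Nat.prime_two).2 hq2))
    (orderOf_dvd_of_pow_eq_one (congrArg Subtype.val hi))
    (orderOf_dvd_of_pow_eq_one (congrArg Subtype.val hj)))
  calc g * x = k * (x * g) := by rw [hk]; group
    _ = x * g := by rw [hk0, one_mul]

/-- The rank one set-up of a strongly embedded 2-Sylow normaliser with abelian self-centralising
Sylow 2-subgroup. -/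
theorem exists_isRankOneSetup {G : Type u} [Group G] [Finite G] [IsSimpleGroup G] {M S : Subgroup G}
    (hM : Cfsg.IsStronglyEmbedded M) (hSM : S ≤ M) (hSn : ∀ m ∈ M, ∀ x ∈ S, m * x * m⁻¹ ∈ S)
    (hS2 : IsPGroup 2 S) (hidx : Odd (S.subgroupOf M).index)
    (hcomm : ∀ x ∈ S, ∀ y ∈ S, x * y = y * x)
    (hcent : ∀ g ∈ M, (∀ x ∈ S, g * x = x * g) → g ∈ S)
    (hfour : ∃ x ∈ S, ∃ y ∈ S, x ≠ 1 ∧ y ≠ 1 ∧ x ≠ y ∧ x * x = 1 ∧ y * y = 1) :
    ∃ t : G, Cfsg.IsRankOneSetup G (G ⧸ M) ((1 : G) : G ⧸ M) t S ∧ FaithfulSMul G (G ⧸ M) := by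
  classical
  have : Fact (Nat.Prime 2) := ⟨Nat.prime_two⟩
  haveI : Fintype (G ⧸ M) := Fintype.ofFinite _
  have h := oneFix_of_stronglyEmbedded hM
  set c : G ⧸ M := ((1 : G) : G ⧸ M) with hc
  have hstab : stabilizer G c = M := MulAction.stabilizer_quotient M
  have hfix : ∀ {g : G}, g • c = c ↔ g ∈ M := fun {g} => by rw [← mem_stabilizer_iff, hstab]
  haveI hSsub : (S.subgroupOf M).Normal := ⟨fun x hx m => hSn _ m.2 _ hx⟩
  have hinvS : ∀ g : G, g ∈ M → g * g = 1 → g ∈ S := fun g hg hgg =>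
    mem_of_pow_two_pow_mem hidx (a := 1) (g := (⟨g, hg⟩ : M))
      (by rw [pow_one, pow_two]; change g * g ∈ S; rw [hgg]; exact S.one_mem)
  have hinv : invAt G c = {x : G | x ∈ S ∧ x ≠ 1 ∧ x * x = 1} := by
    ext x
    constructor
    · rintro ⟨hx, hxc⟩
      have hx2 := CfsgLib.Involutions.mul_self_eq_one hx
      exact ⟨hinvS x (hfix.1 hxc) hx2, fun e => by simp [e] at hx, hx2⟩
    · rintro ⟨hxS, hx1, hxx⟩
      exact ⟨orderOf_eq_prime (by rw [pow_two, hxx]) hx1, hfix.2 (hSM hxS)⟩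
  obtain ⟨s₁, hs₁, s₂, hs₂, hs₁1, hs₂1, hne, hs₁2, hs₂2⟩ := hfour
  have hf : HasFour G := ⟨s₁, s₂, orderOf_eq_prime (by rw [pow_two, hs₁2]) hs₁1,
    orderOf_eq_prime (by rw [pow_two, hs₂2]) hs₂1, hne, hcomm _ hs₁ _ hs₂⟩
  have hfaith : ∀ g : G, (∀ x : G ⧸ M, g • x = x) → g = 1 := by
    have hn : (MulAction.toPermHom G (G ⧸ M)).ker = ⊥ := by
      refine (MonoidHom.normal_ker _).eq_bot_or_eq_top.resolve_right fun e => hM.1 ?_
      refine (Subgroup.eq_top_iff' M).2 fun g => hfix.1 ?_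
      have h1 : MulAction.toPermHom G (G ⧸ M) g = 1 := MonoidHom.mem_ker.1 (e ▸ Subgroup.mem_top g)
      simpa using DFunLike.congr_fun h1 c
    intro g hg
    rw [← Subgroup.mem_bot, ← hn, MonoidHom.mem_ker]
    exact Equiv.ext fun x => hg x
  have hodd : ∀ X : Type u, ∀ _ : Group X, ∀ _ : Finite X, Odd (Nat.card X) → Group.IsSolvable X :=
    fun X i1 i2 hX => @CfsgLib.PF.oddSolvable.{u} X i1 i2 hX
  have hconcl := concl_of_card_le _ G (G ⧸ M) le_rfl hodd h hfaith hf
  obtain ⟨t, ht, htM⟩ := StrongEmbedding.exists_involution_notMem hM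
  set y := t • c with hy
  have hyc : y ≠ c := fun e => htM (hfix.1 e)
  set D := two G c y with hD
  have hDodd : Odd (Nat.card D) := h.odd_two hyc.symm
  have hDM : D ≤ M := fun g hg => hfix.1 (mem_two_iff.1 hg).1
  have hDdef : stabilizer G c ⊓ stabilizer G (t • c) = D := rfl
  -- the index of `S` in `M` divides the order of `D`
  have hkey : (S.subgroupOf M).index ∣ Nat.card D := by
    refine (Nat.dvd_iff_prime_pow_dvd_dvd _ _).2 fun q k hq hqk => ?_
    rcases Nat.eq_zero_or_pos k with rfl | hk0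
    · simp
    have : Fact q.Prime := ⟨hq⟩
    have hqM : q ^ k ∣ Nat.card M := hqk.trans (Subgroup.index_dvd_card _)
    have hq2 : q ≠ 2 := fun e => by
      subst e
      exact Nat.not_even_iff_odd.2 hidx (even_iff_two_dvd.2 ((dvd_pow_self 2 hk0.ne').trans hqk))
    obtain ⟨Q, hQ, -⟩ := exists_sylowOf_ge (p := q) (bot_le : (⊥ : Subgroup G) ≤ M) IsPGroup.of_bot
    have hQcard : q ^ k ∣ Nat.card Q := by
      rw [card_sylowOf hQ]
      exact pow_dvd_pow _ ((hq.pow_dvd_iff_le_factorization Nat.card_pos.ne').1 hqM)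
    refine hQcard.trans ?_
    by_cases hdm : q ∣ (invAt G c).ncard
    · obtain ⟨W, hW, -⟩ := exists_sylowOf_ge (p := q) (bot_le : (⊥ : Subgroup G) ≤ D) IsPGroup.of_bot
      have C : BenderTrans.Ctx G (G ⧸ M) q :=
        ⟨h, hfaith, hf, hconcl, fun c' => h.ncard_invAt_eq c' c ▸ hdm, hodd⟩
      have hW' := (C.fix_pair hyc.symm hW).2
      rw [card_sylowOf hQ, ← hstab, ← card_sylowOf hW']
      exact Subgroup.card_dvd_of_le hW.1
    by_cases hmove : ∃ x ∈ fixSet (G ⧸ M) Q, x ≠ c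
    · obtain ⟨x, hx, hxc⟩ := hmove
      obtain ⟨d, hd, hdx⟩ := hconcl.trans2 c x y hxc hyc
      have hle : Q.map (MulAut.conj d).toMonoidHom ≤ D := by
        rintro _ ⟨g, hg, rfl⟩
        refine mem_two_iff.2 ⟨hfix.2 (M.mul_mem (M.mul_mem (hfix.1 hd) (hQ.1 hg))
          (M.inv_mem (hfix.1 hd))), ?_⟩
        rw [← hdx]
        exact conj_smul_fixed (hx g hg)
      rw [← Subgroup.card_map_of_injective (f := (MulAut.conj d).toMonoidHom)
        (MulAut.conj d).injective]
      exact Subgroup.card_dvd_of_le hle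
    exfalso
    push Not at hmove
    have hfixQ : fixSet (G ⧸ M) Q = {c} := Set.eq_singleton_iff_unique_mem.2
      ⟨fun g hg => hfix.2 (hQ.1 hg), hmove⟩
    have hNQ : Subgroup.normalizer (Q : Set G) ≤ M := fun g hg => hfix.1
      (Set.mem_singleton_iff.1 (hfixQ ▸ smul_mem_fixSet hg (show c ∈ fixSet (G ⧸ M) Q from
        hfixQ.symm ▸ rfl)))
    have hmod := ncard_modEq_fixed hQ.2.1 (Set.univ : Set (G ⧸ M)) (fun _ _ _ _ => Set.mem_univ _)
    rw [Set.univ_inter, hfixQ, Set.ncard_singleton, Set.ncard_univ] at hmod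
    have hnd : ¬ q ∣ M.index := fun hd => by
      rw [Subgroup.index_eq_card] at hd
      have h0 : 1 ≡ 0 [MOD q] := hmod.symm.trans ((Nat.modEq_zero_iff_dvd).2 hd)
      exact hq.not_dvd_one ((Nat.modEq_zero_iff_dvd).1 h0)
    have hQG : Nat.card Q = q ^ (Nat.card G).factorization q := by
      rw [card_sylowOf hQ, ← M.card_mul_index, Nat.factorization_mul Nat.card_pos.ne'
        Subgroup.index_ne_zero_of_finite, Finsupp.add_apply,
        Nat.factorization_eq_zero_of_not_dvd hnd, add_zero]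
    let P : Sylow q G := Sylow.ofCard Q hQG
    have hPQ : (P : Subgroup G) = Q := rfl
    have hcard_eq : {x : M | x ∈ S.subgroupOf M ∧ x ≠ 1 ∧ x * x = 1}.ncard = (invAt G c).ncard := by
      rw [hinv]
      refine Set.ncard_congr (fun x _ => (x : G)) (fun x hx => ⟨hx.1, fun e => hx.2.1 (Subtype.ext e),
        congrArg Subtype.val hx.2.2⟩) (fun a b _ _ e => Subtype.ext e) fun x hx =>
        ⟨⟨x, hSM hx.1⟩, ⟨hx.1, fun e => hx.2.1 (congrArg Subtype.val e), Subtype.ext hx.2.2⟩, rfl⟩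
    have hP : Subgroup.normalizer ((P : Subgroup G) : Set G) ≤
        Subgroup.centralizer ((P : Subgroup G) : Set G) := by
      intro g hg
      rw [hPQ] at hg ⊢
      refine Subgroup.mem_centralizer_iff.2 fun x hx => ?_
      have h1 := commute_of_transitive (K := M) (S := S.subgroupOf M) (hS2.of_equiv
          (Subgroup.subgroupOfEquivOfLe hSM).symm)
        (fun a ha b hb => Subtype.ext (hcomm _ ha _ hb))
        (fun a ha => hcent _ a.2 fun z hz => congrArg Subtype.val (ha ⟨z, hSM hz⟩ hz)) hidx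
        ⟨⟨s₁, hSM hs₁⟩, hs₁, fun e => hs₁1 (congrArg Subtype.val e), Subtype.ext hs₁2⟩
        (fun a ha b hb ha1 hb1 haa hbb => by
          have ha' : (a : G) ∈ invAt G c := hinv ▸ ⟨ha, fun e => ha1 (Subtype.ext e),
            congrArg Subtype.val haa⟩
          have hb' : (b : G) ∈ invAt G c := hinv ▸ ⟨hb, fun e => hb1 (Subtype.ext e),
            congrArg Subtype.val hbb⟩
          obtain ⟨d, hd, hdab⟩ := h.exists_conj_invAt hyc.symm ha' hb'
          exact ⟨⟨d, hDM hd⟩, Subtype.ext hdab⟩)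
        hq hq2 (by rw [hcard_eq]; exact hdm)
        (hQ.2.1.of_equiv (Subgroup.subgroupOfEquivOfLe hQ.1).symm) ⟨g, hNQ hg⟩
        (Subgroup.mem_normalizer_iff.2 fun z => Subgroup.mem_normalizer_iff.1 hg (z : G))
        ⟨x, hQ.1 hx⟩ hx
      exact (congrArg Subtype.val h1).symm
    have hc' := MonoidHom.ker_transferSylow_isComplement' P hP
    rcases (MonoidHom.normal_ker (MonoidHom.transferSylow P hP)).eq_bot_or_eq_top with e | e
    · rw [e] at hc'
      have hP1 : (P : Subgroup G) = ⊤ := Subgroup.isComplement'_bot_left.1 hc'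
      obtain ⟨i, hi⟩ := P.2 ⟨s₁, hP1 ▸ Subgroup.mem_top _⟩
      exact hs₁1 (orderOf_eq_one_iff.1 (Nat.eq_one_of_dvd_coprimes
        (Nat.Coprime.pow 1 i ((Nat.coprime_primes Nat.prime_two hq).2 hq2.symm))
        (orderOf_dvd_of_pow_eq_one (by rw [pow_one, pow_two, hs₁2]))
        (orderOf_dvd_of_pow_eq_one (congrArg Subtype.val hi))))
    · rw [e] at hc'
      have hP1 : (P : Subgroup G) = ⊥ := Subgroup.isComplement'_top_left.1 hc'
      rw [← hPQ, hP1, Subgroup.card_bot, Nat.dvd_one, Nat.pow_eq_one] at hQcard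
      rcases hQcard with h1 | h1
      · exact hq.ne_one h1
      · exact hk0.ne' h1
  refine ⟨t, ⟨?_, CfsgLib.Involutions.mul_self_eq_one ht, fun e => by simp [e] at ht,
    fun e => hyc e, hSM.trans hstab.ge, fun g hg x hx => hSn g (hstab ▸ hg) x hx, ?_, ?_, ?_, ?_⟩,
    ⟨fun {g₁ g₂} e => ?_⟩⟩
  · refine MulAction.is_two_pretransitive_iff.2 fun {a b a' b'} hab hab' => ?_
    obtain ⟨g, hg⟩ := h.trans a a'
    have hgb : g • b ≠ a' := fun e => hab (MulAction.injective g (hg.trans e.symm))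
    obtain ⟨g', hg', hgy⟩ := hconcl.trans2 a' (g • b) b' hgb (Ne.symm hab')
    exact ⟨g' * g, by rw [mul_smul, hg, hg'], by rw [mul_smul, hgy]⟩
  · rw [eq_bot_iff]
    rintro g ⟨hgS, hgy⟩
    have hgD : g ∈ D := ⟨hstab.ge (hSM hgS), hgy⟩
    obtain ⟨i, hi⟩ := hS2 ⟨g, hgS⟩
    rw [Subgroup.mem_bot, ← orderOf_eq_one_iff]
    exact Nat.eq_one_of_dvd_coprimes ((Nat.coprime_two_left.2 hDodd).pow_left i)
      (orderOf_dvd_of_pow_eq_one (congrArg Subtype.val hi)) (Subgroup.orderOf_dvd_natCard _ hgD)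
  · rw [hDdef, hstab]
    refine Subgroup.eq_of_le_of_card_ge (sup_le hSM hDM) (Nat.le_of_dvd Nat.card_pos ?_)
    obtain ⟨i, hi⟩ := IsPGroup.iff_card.1 hS2
    have hcM : Nat.card M = Nat.card S * (S.subgroupOf M).index := by
      rw [← Subgroup.card_mul_index (S.subgroupOf M),
        Nat.card_congr (Subgroup.subgroupOfEquivOfLe hSM).toEquiv]
    rw [hcM]
    refine Nat.Coprime.mul_dvd_of_dvd_of_dvd ?_ (Subgroup.card_dvd_of_le le_sup_left)
      (hkey.trans (Subgroup.card_dvd_of_le le_sup_right))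
    rw [hi]; exact (Nat.coprime_two_left.2 hidx).pow_left i
  · have hd : orderOf (⟨s₁, hs₁⟩ : S) ∣ Nat.card S := orderOf_dvd_natCard _
    rw [← Subgroup.orderOf_coe, orderOf_eq_prime (p := 2) (by rw [pow_two, hs₁2]) hs₁1] at hd
    exact even_iff_two_dvd.2 hd
  · exact hDodd
  · refine inv_mul_eq_one.1 (hfaith (g₁⁻¹ * g₂) fun x => ?_) 
    rw [mul_smul, ← e x, inv_smul_smul]

end CfsgLib.SylTwoAbel
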