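import Mathlib
import Cfsg.Agent.S1221
import Cfsg.Agent.S1230
import Cfsg.Agent.S1248
import Cfsg.Agent.Lib.CoreKill.Applications
import Cfsg.Agent.Lib.CIT.Reduce
import Cfsg.Agent.Lib.GWCons.RankOneCover
import Cfsg.Agent.Lib.RankTwoTypes.SimpleFT
import Cfsg.Agent.Lib.Solvable.Fitting
import Cfsg.Agent.Lib.PLocal.Constraint
import Cfsg.Agent.Lib.PSL2.Basic
import Cfsg.Agent.Lib.PF.OddOrder
import Cfsg.Agent.Lib.SylTwoAbel.Bender
import Cfsg.Agent.Lib.SylTwoAbel.Elementary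

/-!
Simple groups with abelian Sylow 2-subgroups and solvable involution centralisers.
-/

set_option autoImplicit false
set_option linter.style.haveILetI false
set_option linter.unusedSectionVars false

namespace CfsgLib.SylTwoAbel

open MulAction (stabilizer)
open CfsgLib.RankOneInvol

universe u

/-- The order condition on the field. -/
def GoodCard (q : ℕ) : Prop :=
  ((q % 8 = 3 ∨ q % 8 = 5) ∧ 5 ≤ q) ∨ ∃ n : ℕ, 2 ≤ n ∧ q = 2 ^ n

section

variable {G : Type u} [Group G] {Ω : Type u} [MulAction G Ω] {a : Ω} {t : G} {Q : Subgroup G}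
variable [Finite G] (C : Ctx G a t Q)
include C

/-- In a simple group `C_D(t)` is trivial. -/
theorem Ctx.fixTwo_eq_bot [IsSimpleGroup G] : fixTwo G a t = ⊥ := by
  have hS := C.setup
  obtain ⟨K, hK, hKD⟩ := C.exists_invSubgroup
  obtain ⟨s0, r0, h0⟩ := exists_paired_right hS (isSwap_t hS)
  have hKmem : ∀ k ∈ K, k ∈ twoPt G a t ∧ t * k * t = k⁻¹ :=
    fun k hk => (mem_invSet hS).1 ((hK k).1 hk)
  have hKQ : ∀ k ∈ K, ∀ q ∈ Q, k * q * k⁻¹ ∈ Q :=
    fun k hk q hq => Q_conj hS (mem_twoPt.1 (hKmem k hk).1).1 hq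
  have hkt : ∀ k ∈ K, t * k = k⁻¹ * t := fun k hk => by
    calc t * k = t * k * (t * t) := by rw [hS.mul_self, mul_one]
      _ = t * k * t * t := by group
      _ = k⁻¹ * t := by rw [(hKmem k hk).2]
  have htk : ∀ k ∈ K, k * t = t * k⁻¹ := fun k hk => by
    rw [hkt k⁻¹ (K.inv_mem hk), inv_inv]
  -- the structure equation for every involution of `Q`
  have hstr : ∀ q ∈ Q, q ≠ 1 → ∃ q₁ ∈ Q, ∃ k ∈ K, t * q * t = q₁ * k * t * q₁⁻¹ := by
    intro q hq hq1
    obtain ⟨k, hk, rfl⟩ := invols_eq_conj hS h0 (C.invol_mem_iff.2 ⟨hq, hq1, C.elementary q hq⟩)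
    have hkK := (hK k).2 hk
    refine ⟨k * r0⁻¹ * k⁻¹, hKQ k hkK _ (Q.inv_mem h0.2.2.1), k * k, K.mul_mem hkK hkK, ?_⟩
    calc t * (k⁻¹ * s0 * k) * t = (t * k⁻¹ * t) * (t * s0 * t) * (t * k * t) := by
          simp [mul_assoc, tt_cancel hS]
      _ = k * (r0⁻¹ * t * r0) * k⁻¹ := by
          rw [(hKmem _ (K.inv_mem hkK)).2, inv_inv, (hKmem k hkK).2, h0.2.2.2]
      _ = k * r0⁻¹ * k⁻¹ * (k * t) * (r0 * k⁻¹) := by group
      _ = k * r0⁻¹ * k⁻¹ * (t * k⁻¹) * (r0 * k⁻¹) := by rw [htk k hkK]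
      _ = k * r0⁻¹ * k⁻¹ * (t * (k * k)⁻¹) * (k * r0⁻¹ * k⁻¹)⁻¹ := by group
      _ = k * r0⁻¹ * k⁻¹ * (k * k * t) * (k * r0⁻¹ * k⁻¹)⁻¹ := by rw [htk _ (K.mul_mem hkK hkK)]
      _ = _ := by group
  set X := Subgroup.closure ((Q : Set G) ∪ K ∪ {t}) with hX
  have hQX : Q ≤ X := fun x hx => Subgroup.subset_closure (Or.inl (Or.inl hx))
  have hKX : K ≤ X := fun x hx => Subgroup.subset_closure (Or.inl (Or.inr hx))
  have htX : t ∈ X := Subgroup.subset_closure (Or.inr rfl)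
  have mul_t : ∀ {x : G}, ((∃ q ∈ Q, ∃ k ∈ K, x = q * k) ∨
      ∃ q ∈ Q, ∃ k ∈ K, ∃ q' ∈ Q, x = q * k * t * q') →
      (∃ q ∈ Q, ∃ k ∈ K, t * x = q * k) ∨
      ∃ q ∈ Q, ∃ k ∈ K, ∃ q' ∈ Q, t * x = q * k * t * q' := by
    rintro x (⟨q, hq, k, hk, rfl⟩ | ⟨q, hq, k, hk, q', hq', rfl⟩)
    · refine Or.inr ⟨1, Q.one_mem, k⁻¹, K.inv_mem hk, k⁻¹ * q * k⁻¹⁻¹, hKQ _ (K.inv_mem hk) q hq, ?_⟩
      calc t * (q * k) = t * k * (k⁻¹ * q * k⁻¹⁻¹) := by group
        _ = 1 * k⁻¹ * t * (k⁻¹ * q * k⁻¹⁻¹) := by rw [hkt k hk, one_mul]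
    by_cases hq1 : q = 1
    · refine Or.inl ⟨k⁻¹ * q' * k⁻¹⁻¹, hKQ _ (K.inv_mem hk) q' hq', k⁻¹, K.inv_mem hk, ?_⟩
      subst hq1
      calc t * (1 * k * t * q') = t * k * t * q' := by group
        _ = k⁻¹ * q' := by rw [(hKmem k hk).2]
        _ = _ := by group
    · obtain ⟨q₁, hq₁, k₁, hk₁, he⟩ := hstr q hq hq1
      refine Or.inr ⟨q₁, hq₁, k₁ * k, K.mul_mem hk₁ hk, k * q₁⁻¹ * k⁻¹ * q',
        Q.mul_mem (hKQ k hk _ (Q.inv_mem hq₁)) hq', ?_⟩
      calc t * (q * k * t * q') = t * q * t * (t * k * t) * q' := by simp [mul_assoc, tt_cancel hS]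
        _ = q₁ * k₁ * t * q₁⁻¹ * k⁻¹ * q' := by rw [he, (hKmem k hk).2]
        _ = q₁ * k₁ * (t * k⁻¹) * (k * q₁⁻¹ * k⁻¹ * q') := by group
        _ = q₁ * k₁ * (k * t) * (k * q₁⁻¹ * k⁻¹ * q') := by rw [← htk k hk]
        _ = _ := by group
  -- shape of the members
  have hshape : ∀ x ∈ X, (∃ q ∈ Q, ∃ k ∈ K, x = q * k) ∨
      ∃ q ∈ Q, ∃ k ∈ K, ∃ q' ∈ Q, x = q * k * t * q' := by
    intro x hx
    induction hx using Subgroup.closure_induction_left with
    | one => exact Or.inl ⟨1, Q.one_mem, 1, K.one_mem, (one_mul 1).symm⟩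
    | mul_left g hg y hy ih =>
      rcases hg with (hg | hg) | hg
      · rcases ih with ⟨q, hq, k, hk, rfl⟩ | ⟨q, hq, k, hk, q', hq', rfl⟩
        · exact Or.inl ⟨g * q, Q.mul_mem hg hq, k, hk, by group⟩
        · exact Or.inr ⟨g * q, Q.mul_mem hg hq, k, hk, q', hq', by group⟩
      · rcases ih with ⟨q, hq, k, hk, rfl⟩ | ⟨q, hq, k, hk, q', hq', rfl⟩
        · exact Or.inl ⟨g * q * g⁻¹, hKQ g hg q hq, g * k, K.mul_mem hg hk, by group⟩
        · exact Or.inr ⟨g * q * g⁻¹, hKQ g hg q hq, g * k, K.mul_mem hg hk, q', hq', by group⟩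
      · rw [Set.mem_singleton_iff] at hg
        subst hg
        exact mul_t ih
    | inv_mul_cancel g hg y hy ih =>
      rcases hg with (hg | hg) | hg
      · rcases ih with ⟨q, hq, k, hk, rfl⟩ | ⟨q, hq, k, hk, q', hq', rfl⟩
        · exact Or.inl ⟨g⁻¹ * q, Q.mul_mem (Q.inv_mem hg) hq, k, hk, by group⟩
        · exact Or.inr ⟨g⁻¹ * q, Q.mul_mem (Q.inv_mem hg) hq, k, hk, q', hq', by group⟩
      · rcases ih with ⟨q, hq, k, hk, rfl⟩ | ⟨q, hq, k, hk, q', hq', rfl⟩
        · exact Or.inl ⟨g⁻¹ * q * g⁻¹⁻¹, hKQ _ (K.inv_mem hg) q hq, g⁻¹ * k,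
            K.mul_mem (K.inv_mem hg) hk, by group⟩
        · exact Or.inr ⟨g⁻¹ * q * g⁻¹⁻¹, hKQ _ (K.inv_mem hg) q hq, g⁻¹ * k,
            K.mul_mem (K.inv_mem hg) hk, q', hq', by group⟩
      · rw [Set.mem_singleton_iff] at hg
        subst hg
        rw [t_inv hS]
        exact mul_t ih
  have hnorm : Subgroup.normalizer (X : Set G) = ⊤ := by
    have hN : X ≤ Subgroup.normalizer (X : Set G) := Subgroup.le_normalizer
    have hV : fixTwo G a t ≤ Subgroup.normalizer (X : Set G) := by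
      intro v hv
      obtain ⟨hvD, hvt⟩ := (mem_fixTwo hS.mul_self).1 hv
      have hstep : ∀ w ∈ fixTwo G a t, ∀ x ∈ X, w * x * w⁻¹ ∈ X := by
        intro w hw x hx
        obtain ⟨hwD, hwt⟩ := (mem_fixTwo hS.mul_self).1 hw
        induction hx using Subgroup.closure_induction with
        | mem y hy =>
          rcases hy with (hy | hy) | hy
          · exact hQX (Q_conj hS (mem_twoPt.1 hwD).1 hy)
          · exact hKX (hKD w hwD y hy)
          · rw [Set.mem_singleton_iff] at hy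
            subst hy
            have h1 : w * y * w⁻¹ = y := by
              calc w * y * w⁻¹ = y * (y * w * y) * w⁻¹ := by simp [mul_assoc, tt_cancel hS]
                _ = y := by rw [hwt, mul_inv_cancel_right]
            rw [h1]; exact htX
        | one => simpa using X.one_mem
        | mul y z _ _ hy hz =>
          rw [show w * (y * z) * w⁻¹ = w * y * w⁻¹ * (w * z * w⁻¹) by group]
          exact X.mul_mem hy hz
        | inv y _ hy =>
          rw [show w * y⁻¹ * w⁻¹ = (w * y * w⁻¹)⁻¹ by group]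
          exact X.inv_mem hy
      refine Subgroup.mem_normalizer_iff.2 fun x => ⟨hstep v hv x, fun hx => ?_⟩
      simpa [mul_assoc] using hstep v⁻¹ ((fixTwo G a t).inv_mem hv) _ hx
    have hpt : ∀ g : G, g • a = a → g ∈ Subgroup.normalizer (X : Set G) := by
      intro g hg
      obtain ⟨w, hw, q, hq, k, hk, rfl⟩ := C.decomp_point hg
      exact mul_mem (hN (hQX hq)) (mul_mem (hN (hKX ((hK k).2 hk))) (hV hw))
    rw [Subgroup.eq_top_iff']
    intro g
    by_cases hg : g • a = a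
    · exact hpt g hg
    · obtain ⟨⟨x, y⟩, ⟨hx, hy, rfl⟩, -⟩ := (Cfsg.Agent.S1119.result hS).2.2.2.2 g hg
      exact mul_mem (mul_mem (hpt x hx) (hN htX)) (hN (hQX hy))
  have hXtop : X = ⊤ := (Subgroup.normalizer_eq_top_iff.1 hnorm).eq_bot_or_eq_top.resolve_left
    fun e => hS.ne_one (Subgroup.mem_bot.1 (e ▸ htX))
  rw [eq_bot_iff]
  intro v hv
  obtain ⟨hvD, hvt⟩ := (mem_fixTwo hS.mul_self).1 hv
  have hva := (mem_twoPt.1 hvD).1
  rcases hshape v (hXtop ▸ Subgroup.mem_top v) with ⟨q, hq, k, hk, e⟩ | ⟨q, hq, k, hk, q', hq', e⟩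
  · have hk' := hKmem k hk
    obtain ⟨-, hkv⟩ := decomp_unique hS Q.one_mem hq hvD hk'.1 (by rw [one_mul]; exact e)
    have hvv : v * v = 1 := by
      rw [hkv] at hvt ⊢
      rw [hk'.2] at hvt
      calc k * k = k * k⁻¹ := by rw [hvt]
        _ = 1 := mul_inv_cancel k
    rw [Subgroup.mem_bot]
    exact orderOf_eq_one_iff.1 (Nat.eq_one_of_dvd_coprimes (Nat.coprime_two_left.2 hS.odd_card)
      (orderOf_dvd_of_pow_eq_one (by rw [pow_two]; exact hvv))
      (Subgroup.orderOf_dvd_natCard _ hvD))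
  · exfalso
    rw [e, mul_smul, mul_smul, mul_smul, Q_smul hS hq', (mem_twoPt.1 (hKmem k hk).1).2,
      ← eq_inv_smul_iff, Q_smul hS (Q.inv_mem hq)] at hva
    exact hS.not_mem (MulAction.mem_stabilizer_iff.2 hva)

/-- The centraliser of an involution of `Q` is `Q`. -/
theorem Ctx.centralizer_invol [IsSimpleGroup G] {s : G} (hs : s ∈ Q) (hs1 : s ≠ 1) {g : G}
    (hg : g * s = s * g) : g ∈ Q := by
  have hS := C.setup
  have hss := C.elementary s hs
  have hga : g • a = a := commute_fixed hS hs1 hss hg (Q_smul hS hs)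
  obtain ⟨q, hq, d, hd, rfl⟩ := decomp hS hga
  obtain ⟨s0, r0, h0⟩ := exists_paired_right hS (isSwap_t hS)
  obtain ⟨k, hk, rfl⟩ := invols_eq_conj hS h0 (C.invol_mem_iff.2 ⟨hs, hs1, hss⟩)
  have hkD := ((mem_invSet hS).1 hk).1
  have hds : d * (k⁻¹ * s0 * k) = k⁻¹ * s0 * k * d := by
    apply mul_left_cancel (a := q)
    calc q * (d * (k⁻¹ * s0 * k)) = q * d * (k⁻¹ * s0 * k) := by group
      _ = k⁻¹ * s0 * k * (q * d) := hg
      _ = k⁻¹ * s0 * k * q * d := by group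
      _ = q * (k⁻¹ * s0 * k) * d := by rw [C.comm _ hs _ hq]
      _ = q * (k⁻¹ * s0 * k * d) := by group
  have hd' : k * d * k⁻¹ ∈ twoPt G a t := mul_mem (mul_mem hkD hd) (inv_mem hkD)
  have hc : k * d * k⁻¹ * s0 = s0 * (k * d * k⁻¹) := by
    calc k * d * k⁻¹ * s0 = k * (d * (k⁻¹ * s0 * k)) * k⁻¹ := by group
      _ = k * (k⁻¹ * s0 * k * d) * k⁻¹ := by rw [hds]
      _ = _ := by group
  have hv : k * d * k⁻¹ ∈ fixTwo G a t :=
    (mem_fixTwo hS.mul_self).2 ⟨hd', (centralizer_base hS h0 hd').1 hc⟩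
  rw [C.fixTwo_eq_bot, Subgroup.mem_bot, conj_eq_one_iff] at hv
  rw [hv, mul_one]
  exact hq

end

variable {G : Type u} [Group G] [Finite G]

/-- A simple group with abelian Sylow 2-subgroup of rank at least three and solvable centralisers. -/
theorem exists_psl_of_rank_three [IsSimpleGroup G] (S : Sylow 2 G)
    (hcomm : ∀ x ∈ (S : Subgroup G), ∀ y ∈ (S : Subgroup G), x * y = y * x)
    (hC : ∀ t : G, orderOf t = 2 → Group.IsSolvable ↥(Subgroup.centralizer ({t} : Set G)))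
    (h3 : ¬ Cfsg.PRankLE 2 2 ↥(S : Subgroup G)) :
    ∃ (F : Type) (_ : Field F) (_ : Fintype F), GoodCard (Fintype.card F) ∧
      Nonempty (G ≃* Matrix.ProjectiveSpecialLinearGroup (Fin 2) F) := by
  classical
  haveI : Fact (Nat.Prime 2) := ⟨Nat.prime_two⟩
  -- a four group in `S`
  obtain ⟨A, hAc, hA2, hA4⟩ : ∃ A : Subgroup ↥(S : Subgroup G), IsMulCommutative A ∧
      (∀ x ∈ A, x ^ 2 = 1) ∧ 4 < Nat.card A := by
    simp only [Cfsg.PRankLE, not_forall, not_le] at h3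
    obtain ⟨A, hA, hA2, hAcard⟩ := h3
    exact ⟨A, hA, hA2, by simpa using hAcard⟩
  obtain ⟨x, hxA, hx1, y, hyA, hy1, hxy⟩ : ∃ x ∈ A, x ≠ 1 ∧ ∃ y ∈ A, y ≠ 1 ∧ x ≠ y := by
    by_contra hcon
    push Not at hcon
    have hle : Nat.card A ≤ 2 := by
      by_cases hall : ∀ x ∈ A, x = 1
      · rw [(Subgroup.eq_bot_iff_forall A).2 hall, Subgroup.card_bot]; omega
      push Not at hall
      obtain ⟨x, hx, hx1⟩ := hall
      have hsub : (A : Set ↥(S : Subgroup G)) ⊆ {1, x} := fun z hz => by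
        by_cases hz1 : z = 1
        · exact Or.inl hz1
        · exact Or.inr (hcon x hx hx1 z hz hz1).symm
      rw [← SetLike.coe_sort_coe, Nat.card_coe_set_eq]
      exact (Set.ncard_le_ncard hsub (Set.toFinite _)).trans (Set.ncard_pair (Ne.symm hx1)).le
    omega
  have hxs : (x : G) * x = 1 := by
    rw [← pow_two]; exact congrArg Subtype.val (hA2 x hxA)
  have hxo : orderOf (x : G) = 2 := orderOf_eq_prime (by rw [pow_two, hxs]) fun e => hx1 (Subtype.ext e)
  have hO : Cfsg.oddCore G = ⊥ := CoreKill.oddCore_eq_bot_of_simple hxo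
  have hCC := CoreKill.constrainedCentralizers_of_solvable hC
  have hcores := CoreKill.cores_eq_bot_of_normal
    (fun G _ _ H hH => Cfsg.Agent.S1221.result H hH) hCC hO S ⊤ inferInstance
    ⟨⟨fun a b => Subtype.ext (Subtype.ext (hcomm _ a.1.2 _ b.1.2))⟩⟩
    (fun h => h3 fun B hB hB2 => by
      have := h (B.subgroupOf ⊤) ⟨⟨fun a b => Subtype.ext (Subtype.ext
          (congrArg (fun z : B => (z : ↥(S : Subgroup G))) (hB.is_comm.comm ⟨a.1.1, a.2⟩ ⟨b.1.1, b.2⟩)))⟩⟩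
        (fun a ha => Subtype.ext (hB2 a.1 ha))
      rwa [Nat.card_congr (Subgroup.subgroupOfEquivOfLe le_top).toEquiv] at this)
  -- involution centralisers normalise `S`
  have hcent : ∀ t : G, t ∈ (S : Subgroup G) → orderOf t = 2 →
      (∀ g : G, g * t = t * g → ∀ z ∈ (S : Subgroup G), g * z * g⁻¹ ∈ (S : Subgroup G)) ∧
      (∀ g : G, g * t = t * g → (∀ z ∈ (S : Subgroup G), g * z = z * g) → g ∈ (S : Subgroup G)) := by
    intro t htS hto
    set C := Subgroup.centralizer ({t} : Set G) with hCdef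
    have hSC : (S : Subgroup G) ≤ C := fun z hz =>
      Subgroup.mem_centralizer_singleton_iff.2 (hcomm z hz t htS)
    set SC : Sylow 2 C := S.subtype hSC with hSC'
    have hSCmem : ∀ z : C, z ∈ (SC : Subgroup C) ↔ (z : G) ∈ (S : Subgroup G) := fun z => Iff.rfl
    have h0 : Cfsg.pPrimeCore 2 C = ⊥ :=
      (Subgroup.map_eq_bot_iff_of_injective _ (Subgroup.subtype_injective _)).1 (hcores t hto)
    have hP := (PLocal.isPConstrained_iff_of_core_eq_bot h0).1 (hCC t hto)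
    have hle : Cfsg.pCore 2 C ≤ (SC : Subgroup C) := Fitting.pCore_le_sylow SC
    have hge : (SC : Subgroup C) ≤ Cfsg.pCore 2 C := fun z hz => hP
      (Subgroup.mem_centralizer_iff.2 fun w hw => Subtype.ext
        (hcomm _ ((hSCmem w).1 (hle hw)) _ ((hSCmem z).1 hz)))
    have heq : Cfsg.pCore 2 C = (SC : Subgroup C) := le_antisymm hle hge
    refine ⟨fun g hg z hz => ?_, fun g hg hgc => ?_⟩
    · exact (hSCmem (⟨g, Subgroup.mem_centralizer_singleton_iff.2 hg⟩ * ⟨z, hSC hz⟩ *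
        (⟨g, Subgroup.mem_centralizer_singleton_iff.2 hg⟩ : C)⁻¹)).1
        (heq ▸ (Cfsg.pCore_normal 2 C).conj_mem ⟨z, hSC hz⟩ (heq.ge hz) _)
    · have : (⟨g, Subgroup.mem_centralizer_singleton_iff.2 hg⟩ : C) ∈ Cfsg.pCore 2 C :=
        hP (Subgroup.mem_centralizer_iff.2 fun w hw => Subtype.ext
          (hgc _ ((hSCmem w).1 (hle hw))).symm)
      exact (hSCmem _).1 (heq ▸ this)
  set M := Subgroup.normalizer ((S : Subgroup G) : Set G) with hMdef
  have hSM : (S : Subgroup G) ≤ M := Subgroup.le_normalizer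
  have hSne : (S : Subgroup G) ≠ ⊥ := fun e =>
    hx1 (Subtype.ext (Subgroup.mem_bot.1 (e ▸ x.2)))
  have hSnn : ¬ (S : Subgroup G).Normal := fun hn => by
    rcases hn.eq_bot_or_eq_top with e | e
    · exact hSne e
    · obtain ⟨B, hB, hB'⟩ : ∃ B : Subgroup G, B = Subgroup.zpowers (x : G) ∧ B.Normal :=
        ⟨_, rfl, ⟨fun z hz g => by
          rwa [hcomm g (e ▸ Subgroup.mem_top g) z (e ▸ Subgroup.mem_top z), mul_inv_cancel_right]⟩⟩
      rcases hB'.eq_bot_or_eq_top with e' | e'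
      · rw [hB, Subgroup.zpowers_eq_bot] at e'
        exact hx1 (Subtype.ext e')
      · have hGS : Nat.card G = 2 := by
          rw [← Subgroup.card_top (G := G), ← e', hB, Nat.card_zpowers, hxo]
        have h1 := Subgroup.card_le_card_group A
        have h2 := Subgroup.card_le_card_group (S : Subgroup G)
        omega
  have hMtop : M ≠ ⊤ := fun e => hSnn (Subgroup.normalizer_eq_top_iff.1 e)
  have hSn : ∀ m ∈ M, ∀ z ∈ (S : Subgroup G), m * z * m⁻¹ ∈ (S : Subgroup G) :=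
    fun m hm z hz => (Subgroup.mem_normalizer_iff.1 hm z).1 hz
  haveI : ((S : Subgroup G).subgroupOf M).Normal := ⟨fun z hz m => hSn _ m.2 _ hz⟩
  have hidx : Odd ((S : Subgroup G).subgroupOf M).index := by
    rw [Nat.odd_iff, ← Nat.two_dvd_ne_zero]
    intro h
    exact S.not_dvd_index (h.trans (Subgroup.relIndex_dvd_index_of_le hSM))
  have hinvS : ∀ g ∈ M, g * g = 1 → g ∈ (S : Subgroup G) := fun g hg hgg =>
    mem_of_pow_two_pow_mem hidx (a := 1) (g := (⟨g, hg⟩ : M))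
      (by rw [pow_one, pow_two]; change g * g ∈ (S : Subgroup G); rw [hgg]; exact Subgroup.one_mem _)
  have hemb : Cfsg.IsStronglyEmbedded M := by
    refine ⟨hMtop, even_iff_two_dvd.2 (hxo ▸ Subgroup.orderOf_dvd_natCard M (hSM x.2)), fun g hg => ?_⟩
    rw [Nat.odd_iff, ← Nat.two_dvd_ne_zero]
    intro h
    obtain ⟨⟨i, hiM, hig⟩, hio⟩ := exists_prime_orderOf_dvd_card' 2 h
    replace hio : orderOf i = 2 := (Subgroup.orderOf_coe _).trans hio
    obtain ⟨j, hjM, hji⟩ := hig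
    have hii := CfsgLib.Involutions.mul_self_eq_one hio
    have hjo : orderOf j = 2 := by
      rw [← hio, ← hji]; exact (orderOf_injective (MulAut.conj g).toMonoidHom (MulAut.conj g).injective j).symm
    have hiS := hinvS i hiM hii
    have hjS := hinvS j hjM (CfsgLib.Involutions.mul_self_eq_one hjo)
    have hgj : g * j * g⁻¹ = i := hji
    refine hg (Subgroup.mem_normalizer_iff.2 ?_)
    have hkey : ∀ z ∈ (S : Subgroup G), g * z * g⁻¹ ∈ (S : Subgroup G) := by
      intro z hz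
      have hgz : g * z * g⁻¹ * i = i * (g * z * g⁻¹) := by
        rw [← hgj]
        calc g * z * g⁻¹ * (g * j * g⁻¹) = g * (z * j) * g⁻¹ := by group
          _ = g * (j * z) * g⁻¹ := by rw [hcomm z hz j hjS]
          _ = g * j * g⁻¹ * (g * z * g⁻¹) := by group
      have hn := (hcent i hiS hio).1 _ hgz
      obtain ⟨k, hk⟩ := S.2 ⟨z, hz⟩
      refine mem_of_pow_two_pow_mem hidx (a := k)
        (g := (⟨g * z * g⁻¹, Subgroup.mem_normalizer_iff.2 fun w => ⟨hn w, fun hw => ?_⟩⟩ : M)) ?_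
      · have hn' := (hcent i hiS hio).1 (g * z * g⁻¹)⁻¹ ((Commute.inv_left hgz : _)).eq _ hw
        simpa [mul_assoc] using hn'
      · change (g * z * g⁻¹) ^ 2 ^ k ∈ (S : Subgroup G)
        rw [conj_pow, show z ^ 2 ^ k = 1 by simpa using congrArg Subtype.val hk, mul_one,
          mul_inv_cancel]
        exact Subgroup.one_mem _
    have hfin : (fun z => g * z * g⁻¹) '' ((S : Subgroup G) : Set G) = ((S : Subgroup G) : Set G) :=
      Set.eq_of_subset_of_ncard_le (by rintro _ ⟨z, hz, rfl⟩; exact hkey z hz)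
        (Set.ncard_image_of_injective _ fun a b e => by simpa using e).ge (Set.toFinite _)
    intro w
    refine ⟨hkey w, fun hw => ?_⟩
    obtain ⟨z, hz, hze⟩ := hfin.ge hw
    obtain rfl : z = w := by simpa using hze
    exact hz
  have hcentS : ∀ g ∈ M, (∀ z ∈ (S : Subgroup G), g * z = z * g) → g ∈ (S : Subgroup G) :=
    fun g _ hgc => (hcent x x.2 hxo).2 g (hgc x x.2) hgc
  have hfour : ∃ a ∈ (S : Subgroup G), ∃ b ∈ (S : Subgroup G), a ≠ 1 ∧ b ≠ 1 ∧ a ≠ b ∧ a * a = 1 ∧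
      b * b = 1 :=
    ⟨x, x.2, y, y.2, fun e => hx1 (Subtype.ext e), fun e => hy1 (Subtype.ext e),
      fun e => hxy (Subtype.ext e), hxs, by rw [← pow_two]; exact congrArg Subtype.val (hA2 y hyA)⟩
  obtain ⟨t, hsetup, hfaith⟩ :=
    exists_isRankOneSetup hemb hSM hSn S.2 hidx hcomm hcentS hfour
  have C : Ctx G ((1 : G) : G ⧸ M) t (S : Subgroup G) :=
    ⟨hsetup, fun g hg => hfaith.eq_of_smul_eq_smul fun z => (hg z).trans (one_smul G z).symm,
      hcomm, S.2, hfour⟩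
  -- centralisers of involutions are elementary abelian
  have helem : ∀ i : G, orderOf i = 2 →
      IsMulCommutative ↥(Subgroup.centralizer ({i} : Set G)) ∧
        ∀ c ∈ Subgroup.centralizer ({i} : Set G), c ^ 2 = 1 := by
    intro i hi
    obtain ⟨P, hP⟩ := IsPGroup.exists_le_sylow (p := 2)
      (IsPGroup.of_card (n := 1) (by rw [Nat.card_zpowers, hi, pow_one]) :
        IsPGroup 2 (Subgroup.zpowers i))
    obtain ⟨g, rfl⟩ := MulAction.exists_smul_eq G S P
    have hiS : g⁻¹ * i * g ∈ (S : Subgroup G) := by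
      have h := hP (Subgroup.mem_zpowers i)
      rw [Sylow.coe_subgroup_smul] at h
      obtain ⟨z, hz, hze⟩ := h
      rw [← hze]
      simp only [MulDistribMulAction.toMonoidEnd_apply, MulDistribMulAction.toMonoidHom_apply,
        MulAut.smul_def, MulAut.conj_apply]
      rw [show g⁻¹ * (g * z * g⁻¹) * g = z by group]
      exact hz
    have hne : g⁻¹ * i * g ≠ 1 := fun e => by
      have : i = 1 := by
        calc i = g * (g⁻¹ * i * g) * g⁻¹ := by group
          _ = 1 := by rw [e]; group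
      rw [this, orderOf_one] at hi
      omega
    have hmem : ∀ c ∈ Subgroup.centralizer ({i} : Set G), g⁻¹ * c * g ∈ (S : Subgroup G) := fun c hc =>
      C.centralizer_invol hiS hne (by
        have := Subgroup.mem_centralizer_singleton_iff.1 hc
        calc g⁻¹ * c * g * (g⁻¹ * i * g) = g⁻¹ * (c * i) * g := by group
          _ = g⁻¹ * (i * c) * g := by rw [this]
          _ = _ := by group)
    refine ⟨⟨⟨fun c d => Subtype.ext ?_⟩⟩, fun c hc => ?_⟩
    · calc (c : G) * d = g * ((g⁻¹ * c * g) * (g⁻¹ * d * g)) * g⁻¹ := by group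
        _ = g * ((g⁻¹ * d * g) * (g⁻¹ * c * g)) * g⁻¹ := by rw [hcomm _ (hmem c c.2) _ (hmem d d.2)]
        _ = d * c := by group
    · calc c ^ 2 = g * ((g⁻¹ * c * g) * (g⁻¹ * c * g)) * g⁻¹ := by rw [pow_two]; group
        _ = 1 := by rw [C.elementary _ (hmem c hc)]; group
  have hnc : ¬ IsCyclic ↥(S : Subgroup G) := fun hc => by
    haveI := hc
    haveI : IsCyclic A := Subgroup.isCyclic A
    obtain ⟨z, hz⟩ := IsCyclic.exists_generator (α := A)
    have h1 : orderOf z ∣ 2 := orderOf_dvd_of_pow_eq_one (Subtype.ext (hA2 z z.2))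
    rw [orderOf_eq_card_of_forall_mem_zpowers hz] at h1
    exact absurd (Nat.le_of_dvd (by norm_num) h1) (by omega)
  obtain ⟨F, iF, iFt, hF, he⟩ := Cfsg.Agent.S1230.result S hnc hSnn helem
  refine ⟨F, iF, iFt, Or.inr ?_, he⟩
  obtain ⟨n, hn⟩ := IsPGroup.iff_card.1 S.2
  refine ⟨n, ?_, hF.trans hn⟩
  have hA' := Subgroup.card_le_card_group A
  rw [hn] at hA'
  by_contra hlt
  push Not at hlt
  have := Nat.pow_le_pow_right two_pos (show n ≤ 1 by omega)
  omega

/-- The 2-rank of a group is that of its Sylow 2-subgroup. -/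
theorem prankLE_of_sylow (S : Sylow 2 G) (h : Cfsg.PRankLE 2 2 ↥(S : Subgroup G)) :
    Cfsg.PRankLE 2 2 G := by
  haveI : Fact (Nat.Prime 2) := ⟨Nat.prime_two⟩
  intro A hA hA2
  obtain ⟨P, hP⟩ := (show IsPGroup 2 A from fun x => ⟨1, Subtype.ext (hA2 x x.2)⟩).exists_le_sylow
  obtain ⟨g, hg⟩ := MulAction.exists_smul_eq G P S
  set B := A.map (MulAut.conj g).toMonoidHom with hB
  have hBS : B ≤ (S : Subgroup G) := by
    rintro _ ⟨x, hx, rfl⟩
    rw [← hg, Sylow.coe_subgroup_smul]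
    exact ⟨x, hP hx, rfl⟩
  have hBc : ∀ u ∈ B, ∀ v ∈ B, u * v = v * u := by
    rintro _ ⟨u, hu, rfl⟩ _ ⟨v, hv, rfl⟩
    rw [← map_mul, ← map_mul, show u * v = v * u from
      congrArg (fun z : A => (z : G)) (hA.is_comm.comm ⟨u, hu⟩ ⟨v, hv⟩)]
  have hB2 : ∀ u ∈ B, u ^ 2 = 1 := by
    rintro _ ⟨u, hu, rfl⟩
    rw [← map_pow, hA2 u hu, map_one]
  have := h (B.subgroupOf (S : Subgroup G))
    ⟨⟨fun a b => Subtype.ext (Subtype.ext (hBc _ a.2 _ b.2))⟩⟩
    fun a ha => Subtype.ext (hB2 _ ha)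
  rwa [Nat.card_congr (Subgroup.subgroupOfEquivOfLe hBS).toEquiv, hB,
    Subgroup.card_map_of_injective (f := (MulAut.conj g).toMonoidHom) (MulAut.conj g).injective] at this

/-- The order of `PSL(2,q)` in a group with a Klein Sylow 2-subgroup forces `q ≡ 3, 5 (mod 8)`. -/
theorem card_mod_eight {F : Type} [Field F] [Fintype F] (ho : Odd (Fintype.card F))
    (h8 : ¬ 8 ∣ Nat.card (Matrix.ProjectiveSpecialLinearGroup (Fin 2) F)) :
    Fintype.card F % 8 = 3 ∨ Fintype.card F % 8 = 5 := by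
  have hc := CfsgLib.PSL2.card_psl (F := F)
  set q := Fintype.card F
  set N := Nat.card (Matrix.ProjectiveSpecialLinearGroup (Fin 2) F)
  obtain ⟨m, hm⟩ := ho
  have hg : Nat.gcd 2 (q - 1) = 2 := Nat.gcd_eq_left ⟨m, by omega⟩
  rw [hg, hm, show 2 * m + 1 - 1 = 2 * m by omega] at hc
  by_contra hne
  push Not at hne
  refine h8 ?_
  have hkey : 4 ∣ m * (m + 1) := by
    rcases (show m % 4 = 0 ∨ m % 4 = 3 by omega) with h | h
    · exact Dvd.dvd.mul_right (Nat.dvd_of_mod_eq_zero h) _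
    · exact Dvd.dvd.mul_left (Nat.dvd_of_mod_eq_zero (by omega)) _
  obtain ⟨j, hj⟩ := hkey
  refine ⟨j * (2 * m + 1), ?_⟩
  nlinarith

/-- A nonsolvable simple group with abelian Sylow 2-subgroup and solvable involution centralisers. -/
theorem exists_psl_of_simple (hGW : CfsgLib.GWCons.RankOneCover.DihedralClassification.{u})
    [IsSimpleGroup G] (hns : ¬ Group.IsSolvable G) (S : Sylow 2 G)
    (hcomm : ∀ x ∈ (S : Subgroup G), ∀ y ∈ (S : Subgroup G), x * y = y * x)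
    (hC : ∀ t : G, orderOf t = 2 → Group.IsSolvable ↥(Subgroup.centralizer ({t} : Set G))) :
    ∃ (F : Type) (_ : Field F) (_ : Fintype F), GoodCard (Fintype.card F) ∧
      Nonempty (G ≃* Matrix.ProjectiveSpecialLinearGroup (Fin 2) F) := by
  classical
  haveI : Fact (Nat.Prime 2) := ⟨Nat.prime_two⟩
  by_cases h3 : Cfsg.PRankLE 2 2 ↥(S : Subgroup G)
  swap
  · exact exists_psl_of_rank_three S hcomm hC h3
  have hG : ¬ IsMulCommutative G := fun h => hns (Group.isSolvable_of_comm fun a b => h.is_comm.comm a b)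
  let F16 := GaloisField 2 4
  letI : Fintype F16 := Fintype.ofFinite _
  have hF16 : Fintype.card F16 = 16 := by
    rw [← Nat.card_eq_fintype_card, GaloisField.card 2 4 (by norm_num)]; norm_num
  have htypes := CfsgLib.RankTwoTypes.sylow_types_of_oddSolvable
    (fun X i1 i2 hX => @CfsgLib.PF.oddSolvable.{u} X i1 i2 hX) hG (prankLE_of_sylow S h3) S hF16
    (Classical.arbitrary (Sylow 2 (Cfsg.PSU 3 F16 4)))
  have hSab : ∀ a b : ↥(S : Subgroup G), a * b = b * a := fun a b => Subtype.ext (hcomm _ a.2 _ b.2)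
  rcases htypes with ⟨n, hn, ⟨e⟩⟩ | ⟨n, hn, -, x, y, hx, hy, hxy⟩ |
    ⟨n, hn, -, x, y, z, hx, -, hdisj, -, hzx⟩ | ⟨⟨e⟩⟩
  · have hn2 : n = 2 := by
      have h := congrArg e (hSab (e.symm (DihedralGroup.sr 0)) (e.symm (DihedralGroup.r 1)))
      rw [map_mul, map_mul, e.apply_symm_apply, e.apply_symm_apply, DihedralGroup.sr_mul_r,
        DihedralGroup.r_mul_sr, DihedralGroup.sr.injEq] at h
      have h2 : ((2 : ℕ) : ZMod n) = 0 := by linear_combination h
      rw [ZMod.natCast_eq_zero_iff] at h2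
      have := Nat.le_of_dvd two_pos h2
      omega
    subst hn2
    haveI : Group.IsPerfect G := Group.isPerfect_def.2
      ((Subgroup.Normal.eq_bot_or_eq_top (show (commutator G).Normal by infer_instance)).resolve_left
        fun h => hG ⟨⟨fun a b => by
          rw [← commutatorElement_eq_one_iff_mul_comm, ← Subgroup.mem_bot, ← h]
          exact Subgroup.commutator_mem_commutator (Subgroup.mem_top _) (Subgroup.mem_top _)⟩⟩)
    obtain ⟨i, hi⟩ := exists_prime_orderOf_dvd_card' (G := G) 2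
      (CfsgLib.RankTwoTypes.two_dvd_card_of_oddSolvable
        (fun X i1 i2 hX => @CfsgLib.PF.oddSolvable.{u} X i1 i2 hX) hG)
    have hO : Cfsg.oddCore G = ⊥ := CoreKill.oddCore_eq_bot_of_simple hi
    have e0 : G ⧸ Cfsg.oddCore G ≃* G :=
      (QuotientGroup.quotientMulEquivOfEq hO).trans QuotientGroup.quotientBot
    have hS4 : Nat.card ↥(S : Subgroup G) = 4 := by
      rw [Nat.card_congr e.toEquiv, DihedralGroup.nat_card]
    have h8 : ¬ 8 ∣ Nat.card G := fun h => S.not_dvd_index (by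
      rw [← (S : Subgroup G).card_mul_index, hS4] at h
      omega)
    rcases hGW G S 2 le_rfl ⟨e⟩ with ⟨F, iF, iFt, hodd, h3F, ⟨f⟩⟩ | ⟨⟨f⟩⟩
    · have f' := e0.symm.trans f
      have hm := @card_mod_eight F iF iFt hodd (by rwa [← Nat.card_congr f'.toEquiv])
      exact ⟨F, iF, iFt, Or.inl ⟨hm, by obtain ⟨m, hm'⟩ := hodd; omega⟩, ⟨f'⟩⟩
    · exfalso
      refine h8 ?_
      rw [Nat.card_congr (e0.symm.trans f).toEquiv, nat_card_alternatingGroup, Nat.card_fin]
      decide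
  · exfalso
    rw [hSab y x, mul_inv_cancel_right] at hxy
    have h2 : 2 ^ n ∣ 2 ^ (n - 1) - 1 - 1 := by
      rw [← hx]
      refine orderOf_dvd_of_pow_eq_one ?_
      apply mul_left_cancel (a := x)
      rw [← pow_succ', mul_one, Nat.sub_add_cancel ?_, ← hxy]
      have := Nat.pow_le_pow_right two_pos (show 2 ≤ n - 1 by omega)
      omega
    have h4 := Nat.pow_le_pow_right two_pos (show 2 ≤ n - 1 by omega)
    have h5 : 2 ^ n = 2 * 2 ^ (n - 1) := by rw [← pow_succ', Nat.sub_add_cancel (by omega)]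
    have := Nat.le_of_dvd (by omega) h2
    omega
  · exfalso
    rw [hSab z x, mul_inv_cancel_right] at hzx
    subst hzx
    rw [inf_idem, Subgroup.zpowers_eq_bot] at hdisj
    rw [hdisj, orderOf_one] at hx
    exact absurd hx (Nat.one_lt_two_pow (by omega)).ne
  · exfalso
    obtain ⟨-, hk, -, hz, -⟩ := Cfsg.Agent.S1248.result hF16
      (Classical.arbitrary (Sylow 2 (Cfsg.PSU 3 F16 4)))
    haveI := hk
    have hab : IsMulCommutative ↥((Classical.arbitrary (Sylow 2 (Cfsg.PSU 3 F16 4))) :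
        Subgroup (Cfsg.PSU 3 F16 4)) :=
      ⟨⟨fun a b => e.symm.injective (by rw [map_mul, map_mul]; exact hSab _ _)⟩⟩
    have h1 := (commutator_eq_bot_iff_center_eq_top _).2
      (Subgroup.eq_top_iff' _ |>.2 fun g => Subgroup.mem_center_iff.2 fun h => hab.is_comm.comm h g)
    rw [← hz] at h1
    have h4 := IsKleinFour.card_four (G := ↥(Subgroup.center
      ↥((Classical.arbitrary (Sylow 2 (Cfsg.PSU 3 F16 4))) : Subgroup (Cfsg.PSU 3 F16 4))))
    rw [h1, Subgroup.card_bot] at h4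
    omega

end CfsgLib.SylTwoAbel
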