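import Mathlib
import Cfsg.Agent.Lib.SylTwoAbel.Simple
import Cfsg.Agent.Lib.Structure.MinimalNormal
import Cfsg.Agent.Lib.PLocal.Constraint
import Cfsg.Agent.Lib.PF.OddOrder

/-!
Groups with abelian Sylow 2-subgroups and solvable involution centralisers: reduction to simple groups.
-/

set_option autoImplicit false
set_option linter.style.haveILetI false
set_option linter.unusedSectionVars false

namespace CfsgLib.SylTwoAbel

open CfsgLib.Structure

universe u

variable {G : Type u} [Group G] [Finite G]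

/-- A minimal normal subgroup is not solvable if the group is not and has no odd core. -/
theorem not_isSolvable_minNormal (S : Sylow 2 G)
    (hcomm : ∀ x ∈ (S : Subgroup G), ∀ y ∈ (S : Subgroup G), x * y = y * x)
    (hC : ∀ t : G, orderOf t = 2 → Group.IsSolvable ↥(Subgroup.centralizer ({t} : Set G)))
    (hns : ¬ Group.IsSolvable G) (hO : Cfsg.oddCore G = ⊥) {N : Subgroup G} (hN : IsMinNormal N) :
    ¬ Group.IsSolvable N := by
  haveI : Fact (Nat.Prime 2) := ⟨Nat.prime_two⟩
  intro hs
  haveI := hs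
  haveI := hN.normal
  have hab : IsMulCommutative N := by
    by_contra hna
    haveI : Nontrivial N := (Subgroup.nontrivial_iff_ne_bot N).2 hN.ne_bot
    obtain ⟨T, hT⟩ := exists_isMinNormal (G := N)
    haveI := hN.isSimpleGroup_minNormal hT
    exact hN.not_isMulCommutative_minNormal hna hT
      ⟨⟨fun a b => IsSimpleGroup.comm_iff_isSolvable.2 inferInstance a b⟩⟩
  obtain ⟨p, hp, he⟩ := hN.exponent_prime hab
  haveI : Fact p.Prime := ⟨hp⟩
  have hpg : IsPGroup p N := fun x => ⟨1, Subtype.ext (by simpa using he.2 x x.2)⟩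
  by_cases hp2 : p = 2
  · subst hp2
    obtain ⟨⟨t, htN⟩, ht1⟩ : ∃ z : N, z ≠ 1 := by
      obtain ⟨z, hz, hz1⟩ := (Subgroup.bot_or_exists_ne_one N).resolve_left hN.ne_bot
      exact ⟨⟨z, hz⟩, fun e => hz1 (congrArg Subtype.val e)⟩
    have hto : orderOf t = 2 := orderOf_eq_prime (he.2 t htN) fun e => ht1 (Subtype.ext e)
    set C := Subgroup.centralizer (N : Set G) with hCdef
    have hNS : N ≤ (S : Subgroup G) := by
      have h := hpg.to_sup_of_normal_left (K := (S : Subgroup G)) S.2
      exact le_sup_left.trans (S.is_maximal' h le_sup_right).le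
    have hSC : (S : Subgroup G) ≤ C := fun s hs =>
      Subgroup.mem_centralizer_iff.2 fun n hn => hcomm n (hNS hn) s hs
    haveI : C.Normal := Subgroup.normal_centralizer
    have hCt : C ≤ Subgroup.centralizer ({t} : Set G) := fun g hg =>
      Subgroup.mem_centralizer_singleton_iff.2 (Subgroup.mem_centralizer_iff.1 hg t htN).symm
    haveI := hC t hto
    haveI : Group.IsSolvable C :=
      Group.isSolvable_of_isSolvable_injective (Subgroup.inclusion_injective hCt)
    have hodd : Odd (Nat.card (G ⧸ C)) := by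
      rw [← Subgroup.index_eq_card, Nat.odd_iff, ← Nat.two_dvd_ne_zero]
      exact fun h => S.not_dvd_index (h.trans (Subgroup.index_dvd_of_le hSC))
    haveI : Group.IsSolvable (G ⧸ C) := @CfsgLib.PF.oddSolvable.{u} (G ⧸ C) _ _ hodd
    exact hns (Group.isSolvable_of_ker_le_range C.subtype (QuotientGroup.mk' C)
      (by rw [QuotientGroup.ker_mk', Subgroup.range_subtype]))
  · refine hN.ne_bot (le_bot_iff.1 (hO ▸ le_sSup ⟨hN.normal, ?_⟩))
    obtain ⟨k, hk⟩ := IsPGroup.iff_card.1 hpg
    rw [hk]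
    exact ((Nat.coprime_primes hp Nat.prime_two).2 hp2).pow_left k

/-- An involution of a nonsolvable minimal normal subgroup. -/
theorem exists_involution_of_not_isSolvable {H : Type u} [Group H] [Finite H]
    (h : ¬ Group.IsSolvable H) : ∃ t : H, orderOf t = 2 := by
  haveI : Fact (Nat.Prime 2) := ⟨Nat.prime_two⟩
  refine exists_prime_orderOf_dvd_card' 2 ?_
  by_contra h2
  exact h (@CfsgLib.PF.oddSolvable.{u} H _ _ (Nat.odd_iff.2 (by omega)))

/-- A nonsolvable group without odd core has a self-centralising simple normal subgroup. -/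
theorem exists_simple_normal (S : Sylow 2 G)
    (hcomm : ∀ x ∈ (S : Subgroup G), ∀ y ∈ (S : Subgroup G), x * y = y * x)
    (hC : ∀ t : G, orderOf t = 2 → Group.IsSolvable ↥(Subgroup.centralizer ({t} : Set G)))
    (hns : ¬ Group.IsSolvable G) (hO : Cfsg.oddCore G = ⊥) :
    ∃ N : Subgroup G, N.Normal ∧ IsSimpleGroup N ∧ ¬ Group.IsSolvable N ∧
      Subgroup.centralizer (N : Set G) = ⊥ := by
  haveI : Fact (Nat.Prime 2) := ⟨Nat.prime_two⟩
  haveI : Nontrivial G := by
    by_contra h
    rw [not_nontrivial_iff_subsingleton] at h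
    exact hns inferInstance
  obtain ⟨N, hN⟩ := exists_isMinNormal (G := G)
  haveI := hN.normal
  have hNns := not_isSolvable_minNormal S hcomm hC hns hO hN
  have hna : ¬ IsMulCommutative N := fun h =>
    hNns (Group.isSolvable_of_comm fun a b => h.is_comm.comm a b)
  -- commuting with a nonsolvable subgroup forces solvability
  have hkey : ∀ A B : Subgroup G, ¬ Group.IsSolvable B → (∀ a ∈ A, ∀ b ∈ B, a * b = b * a) →
      Group.IsSolvable A := by
    intro A B hB hab
    obtain ⟨t, ht⟩ := exists_involution_of_not_isSolvable hB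
    haveI := hC t (by rw [Subgroup.orderOf_coe, ht])
    have hle : A ≤ Subgroup.centralizer ({(t : G)} : Set G) := fun a ha =>
      Subgroup.mem_centralizer_singleton_iff.2 (hab a ha t t.2)
    exact Group.isSolvable_of_isSolvable_injective (Subgroup.inclusion_injective hle)
  haveI : Nontrivial N := (Subgroup.nontrivial_iff_ne_bot N).2 hN.ne_bot
  obtain ⟨T, hT⟩ := exists_isMinNormal (G := N)
  have hTs := hN.isSimpleGroup_minNormal hT
  have hTns : ∀ T' : Subgroup N, IsMinNormal T' → ¬ Group.IsSolvable T' := fun T' hT' hs => by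
    haveI := hN.isSimpleGroup_minNormal hT'
    exact hN.not_isMulCommutative_minNormal hna hT'
      ⟨⟨fun a b => IsSimpleGroup.comm_iff_isSolvable.2 hs a b⟩⟩
  have huniq : ∀ T' : Subgroup N, IsMinNormal T' → T' = T := by
    intro T' hT'
    by_contra hne
    haveI hs : Group.IsSolvable (T.map N.subtype) := hkey _ (T'.map N.subtype)
      (fun h => hTns T' hT' (Group.isSolvable_of_surjective
        (f := ((T'.equivMapOfInjective _ N.subtype_injective).symm :
          ↥(T'.map N.subtype) →* T')) (MulEquiv.surjective _)))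
      (by
        rintro _ ⟨a, ha, rfl⟩ _ ⟨b, hb, rfl⟩
        rw [← map_mul, ← map_mul, (hT.commute hT' (Ne.symm hne) a ha b hb).eq])
    exact hTns T hT (Group.isSolvable_of_isSolvable_injective
      (f := ((T.equivMapOfInjective _ N.subtype_injective) : T →* ↥(T.map N.subtype)))
      (MulEquiv.injective _))
  have hTtop : T = ⊤ := by
    rw [← top_le_iff, ← hN.socle_eq_top]
    exact sSup_le fun A hA => (huniq A hA).le
  haveI : IsSimpleGroup N := by
    haveI := hTs
    exact IsSimpleGroup.isSimpleGroup_of_surjective T.subtype fun n => ⟨⟨n, hTtop ▸ Subgroup.mem_top n⟩, rfl⟩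
  refine ⟨N, hN.normal, inferInstance, hNns, ?_⟩
  by_contra hne
  obtain ⟨M, hM, hMC⟩ := exists_isMinNormal_le (H := Subgroup.centralizer (N : Set G))
    Subgroup.normal_centralizer hne
  exact hNns (hkey N M (not_isSolvable_minNormal S hcomm hC hns hO hM) fun a ha b hb =>
    Subgroup.mem_centralizer_iff.1 (hMC hb) a ha)

/-- An involution of a quotient by a normal subgroup of odd order lifts. -/
theorem exists_involution_lift {O : Subgroup G} [O.Normal] (hO : Odd (Nat.card O)) {t : G ⧸ O}
    (ht : orderOf t = 2) : ∃ g : G, orderOf g = 2 ∧ QuotientGroup.mk' O g = t := by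
  obtain ⟨g, rfl⟩ := QuotientGroup.mk'_surjective O t
  obtain ⟨a, b, hb, hab⟩ := Nat.exists_eq_two_pow_mul_odd (orderOf_pos g).ne'
  have ht2 : (QuotientGroup.mk' O g) ^ 2 = 1 := by rw [← ht, pow_orderOf_eq_one]
  obtain ⟨m, hm⟩ := hb
  have hπ : QuotientGroup.mk' O (g ^ b) = QuotientGroup.mk' O g := by
    rw [map_pow, hm, pow_succ, pow_mul, ht2, one_pow, one_mul]
  refine ⟨g ^ b, orderOf_eq_prime ?_ fun e => ?_, hπ⟩
  · have h1 : (g ^ b) ^ 2 ∈ O :=
      (QuotientGroup.eq_one_iff _).1 (by rw [← QuotientGroup.mk'_apply, map_pow, hπ, ht2])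
    have h2 : ((g ^ b) ^ 2) ^ 2 ^ a = 1 := by
      rw [← pow_mul, ← pow_mul, show b * (2 * 2 ^ a) = orderOf g * 2 by rw [hab]; ring, pow_mul,
        pow_orderOf_eq_one, one_pow]
    exact orderOf_eq_one_iff.1 (Nat.eq_one_of_dvd_coprimes ((Nat.coprime_two_left.2 hO).pow_left a)
      (orderOf_dvd_of_pow_eq_one h2) (Subgroup.orderOf_dvd_natCard O h1))
  · rw [← hπ, e, map_one, orderOf_one] at ht
    omega

/-- The theorem, given the classification of perfect groups with dihedral Sylow 2-subgroups. -/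
theorem structure_of_classification
    (hGW : CfsgLib.GWCons.RankOneCover.DihedralClassification.{u})
    (S : Sylow 2 G) (hS : IsMulCommutative ↥(S : Subgroup G))
    (hC : ∀ t : G, orderOf t = 2 → Group.IsSolvable ↥(Subgroup.centralizer ({t} : Set G))) :
    Group.IsSolvable G ∨
      ∃ (F : Type) (_ : Field F) (_ : Fintype F),
        (((Fintype.card F % 8 = 3 ∨ Fintype.card F % 8 = 5) ∧ 5 ≤ Fintype.card F) ∨
          (∃ n : ℕ, 2 ≤ n ∧ Fintype.card F = 2 ^ n)) ∧
        ∃ N : Subgroup (G ⧸ Cfsg.oddCore G), N.Normal ∧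
          Nonempty (↥N ≃* Matrix.ProjectiveSpecialLinearGroup (Fin 2) F) ∧
          Subgroup.centralizer (N : Set (G ⧸ Cfsg.oddCore G)) = ⊥ := by
  classical
  haveI : Fact (Nat.Prime 2) := ⟨Nat.prime_two⟩
  refine or_iff_not_imp_left.2 fun hns => ?_
  set O := Cfsg.oddCore G with hOdef
  have hOcop : (Nat.card O).Coprime 2 := CfsgLib.PCore.pPrimeCore_coprime
  have hOodd : Odd (Nat.card O) := Nat.coprime_two_right.1 hOcop
  set π := QuotientGroup.mk' O
  set Sb : Sylow 2 (G ⧸ O) := S.mapSurjective (QuotientGroup.mk'_surjective O)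
  have hSb : ∀ x ∈ (Sb : Subgroup (G ⧸ O)), ∀ y ∈ (Sb : Subgroup (G ⧸ O)), x * y = y * x := by
    rintro _ ⟨x, hx, rfl⟩ _ ⟨y, hy, rfl⟩
    rw [← map_mul, ← map_mul, show x * y = y * x from
      congrArg Subtype.val (hS.is_comm.comm (⟨x, hx⟩ : (S : Subgroup G)) ⟨y, hy⟩)]
  have hCb : ∀ t : G ⧸ O, orderOf t = 2 →
      Group.IsSolvable ↥(Subgroup.centralizer ({t} : Set (G ⧸ O))) := by
    intro t ht
    obtain ⟨g, hg, rfl⟩ := exists_involution_lift hOodd ht
    haveI := hC g hg
    have hP : IsPGroup 2 (Subgroup.zpowers g) :=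
      IsPGroup.of_card (n := 1) (by rw [Nat.card_zpowers, hg, pow_one])
    have hle : Subgroup.centralizer ({π g} : Set (G ⧸ O)) ≤
        (Subgroup.centralizer ({g} : Set G)).map π := by
      intro x hx
      obtain ⟨y, rfl⟩ := QuotientGroup.mk'_surjective O x
      obtain ⟨n, hn, hny⟩ := PLocal.exists_mul_mem_centralizer hOcop hP (x := y) (by
        refine Subgroup.mem_centralizer_iff.2 ?_
        rintro _ ⟨w, hw, rfl⟩
        obtain ⟨i, rfl⟩ := Subgroup.mem_zpowers_iff.1 hw
        rw [map_zpow]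
        have hc : Commute (π y) (π g) := Subgroup.mem_centralizer_singleton_iff.1 hx
        exact (hc.zpow_right i).eq.symm)
      refine ⟨n * y, Subgroup.mem_centralizer_singleton_iff.2
        (Subgroup.mem_centralizer_iff.1 hny g (Subgroup.mem_zpowers g)).symm, ?_⟩
      rw [map_mul, show π n = 1 from (QuotientGroup.eq_one_iff n).2 hn, one_mul]
    haveI : Group.IsSolvable ↥((Subgroup.centralizer ({g} : Set G)).map π) :=
      Group.isSolvable_of_surjective (MonoidHom.subgroupMap_surjective π _)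
    exact Group.isSolvable_of_isSolvable_injective (Subgroup.inclusion_injective hle)
  have hnsb : ¬ Group.IsSolvable (G ⧸ O) := fun h => by
    haveI := h
    haveI : Group.IsSolvable O := @CfsgLib.PF.oddSolvable.{u} O _ _ hOodd
    exact hns (Group.isSolvable_of_ker_le_range O.subtype π
      (by rw [QuotientGroup.ker_mk', Subgroup.range_subtype]))
  obtain ⟨N, hNn, hNs, hNns, hNC⟩ :=
    exists_simple_normal Sb hSb hCb hnsb CfsgLib.PCore.pPrimeCore_quotient_pPrimeCore
  obtain ⟨T⟩ : Nonempty (Sylow 2 N) := inferInstance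
  obtain ⟨P, hP⟩ := (T.2.map N.subtype).exists_le_sylow
  obtain ⟨g, hg⟩ := MulAction.exists_smul_eq (G ⧸ O) P Sb
  have hTc : ∀ x ∈ (T : Subgroup N), ∀ y ∈ (T : Subgroup N), x * y = y * x := by
    intro x hx y hy
    have hm : ∀ z ∈ (T : Subgroup N), g * (z : G ⧸ O) * g⁻¹ ∈ (Sb : Subgroup (G ⧸ O)) := fun z hz => by
      rw [← hg, Sylow.coe_subgroup_smul]
      exact ⟨z, hP ⟨z, hz, rfl⟩, rfl⟩
    refine Subtype.ext ((MulAut.conj g).injective ?_)
    simpa [map_mul] using hSb _ (hm x hx) _ (hm y hy)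
  have hCN : ∀ t : N, orderOf t = 2 → Group.IsSolvable ↥(Subgroup.centralizer ({t} : Set N)) := by
    intro t ht
    haveI := hCb t (by rw [Subgroup.orderOf_coe, ht])
    refine Group.isSolvable_of_isSolvable_injective
      (f := (N.subtype.comp (Subgroup.centralizer ({t} : Set N)).subtype).codRestrict
        (Subgroup.centralizer ({(t : G ⧸ O)} : Set (G ⧸ O))) fun c =>
          Subgroup.mem_centralizer_singleton_iff.2
            (congrArg Subtype.val (Subgroup.mem_centralizer_singleton_iff.1 c.2))) ?_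
    intro a b e
    exact Subtype.ext (Subtype.ext (congrArg Subtype.val e :))
  haveI := hNs
  obtain ⟨F, iF, iFt, hF, he⟩ := exists_psl_of_simple hGW hNns T hTc hCN
  exact ⟨F, iF, iFt, hF, N, hNn, he, hNC⟩

end CfsgLib.SylTwoAbel
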