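import Mathlib
import Cfsg.Agent.Lib.SylTwoAbel.Setup
import Cfsg.Agent.Lib.AutPSL.FieldGalois

/-!
When an element of prime order `q` of `C_D(t)` centralises only one involution of `Q`, there are
`2 ^ q - 1` involutions in `Q` and `C_D(t)` has order `q`.
-/

set_option autoImplicit false
set_option linter.style.haveILetI false
set_option linter.unusedSectionVars false

namespace CfsgLib.SylTwoAbel

open CfsgLib.RankOneInvol
open MulAction (stabilizer)

universe u v

/-- A field automorphism of prime order fixing only the prime field of order two. -/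
theorem card_of_prime_order_aut {L : Type u} [Field L] [Finite L] (σ : L ≃+* L) {q : ℕ}
    (hq : orderOf σ = q) (hfix : ∀ l, σ l = l → l = 0 ∨ l = 1) :
    Nat.card L = 2 ^ q ∧ Nat.card (L ≃+* L) = q := by
  classical
  haveI : Finite (L ≃+* L) :=
    Finite.of_injective (fun s : L ≃+* L => (s : L → L)) DFunLike.coe_injective
  haveI : Fintype (Subgroup.zpowers σ) := Fintype.ofFinite _
  have h := FixedPoints.finrank_eq_card (Subgroup.zpowers σ) L
  rw [← Nat.card_eq_fintype_card, Nat.card_zpowers, hq] at h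
  have hmem : ∀ l : L, l ∈ FixedPoints.subfield (Subgroup.zpowers σ) L ↔ l = 0 ∨ l = 1 := by
    intro l
    refine ⟨fun hl => hfix l (hl ⟨σ, Subgroup.mem_zpowers σ⟩), ?_⟩
    rintro (rfl | rfl)
    · exact Subfield.zero_mem _
    · exact Subfield.one_mem _
  have h2 : Nat.card (FixedPoints.subfield (Subgroup.zpowers σ) L) = 2 := by
    rw [show Nat.card (FixedPoints.subfield (Subgroup.zpowers σ) L) =
      ({0, 1} : Set L).ncard from ?_, Set.ncard_pair zero_ne_one]
    rw [← Nat.card_coe_set_eq]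
    exact Nat.card_congr (Equiv.subtypeEquivRight fun l => by
      rw [hmem]; simp)
  have hL : Nat.card L = 2 ^ q := by
    rw [Module.natCard_eq_pow_finrank (K := FixedPoints.subfield (Subgroup.zpowers σ) L), h2, h]
  refine ⟨hL, ?_⟩
  haveI := Fintype.ofFinite L
  haveI : Fact (Nat.Prime 2) := ⟨Nat.prime_two⟩
  exact CfsgLib.FieldGalois.card_ringAut (p := 2) (by rw [← Nat.card_eq_fintype_card, hL])

variable {G : Type u} [Group G] {Ω : Type v} [MulAction G Ω] {a : Ω} {t : G} {Q : Subgroup G}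

/-- The involutions of `Q` with `1`. -/
def omegaOne (C : Ctx G a t Q) : Subgroup G where
  carrier := {x | x ∈ Q ∧ x * x = 1}
  one_mem' := ⟨Q.one_mem, mul_one 1⟩
  mul_mem' := fun {x y} hx hy => ⟨Q.mul_mem hx.1 hy.1, by
    rw [(show Commute y x from C.comm y hy.1 x hx.1).mul_mul_mul_comm x y, hx.2, hy.2, mul_one]⟩
  inv_mem' := fun {x} hx => ⟨Q.inv_mem hx.1, by rw [← mul_inv_rev, hx.2, inv_one]⟩

theorem mem_omegaOne {C : Ctx G a t Q} {x : G} : x ∈ omegaOne C ↔ x ∈ Q ∧ x * x = 1 := Iff.rfl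

variable [Finite G] (C : Ctx G a t Q)
include C

/-- An element of prime order of `C_D(t)` centralising only the distinguished involution. -/
theorem Ctx.field_data {v s0 r0 : G} (h0 : IsPaired t a Q s0 t r0) (hv : v ∈ fixTwo G a t) {q : ℕ}
    [Fact q.Prime] (hvq : orderOf v = q)
    (hone : ∀ s ∈ omegaOne C, v * s = s * v → s = 1 ∨ s = s0) :
    Nat.card (omegaOne C) = 2 ^ q ∧ Nat.card (fixTwo G a t) = q := by
  classical
  have hS := C.setup
  obtain ⟨hs0Q, hs01, hs02⟩ := C.invol_mem_iff.1 h0.1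
  letI : CommGroup (omegaOne C) :=
    { mul_comm := fun x y => Subtype.ext (C.comm _ x.2.1 _ y.2.1) }
  letI : DistribMulAction (twoPt G a t) (Additive (omegaOne C)) :=
    { smul := fun d e => Additive.ofMul ⟨(d : G) * (Additive.toMul e : omegaOne C) * (d : G)⁻¹,
        Q_conj hS (mem_twoPt.1 d.2).1 (Additive.toMul e : omegaOne C).2.1, by
          calc _ = (d : G) * (((Additive.toMul e : omegaOne C) : G) *
                (Additive.toMul e : omegaOne C)) * (d : G)⁻¹ := by group
            _ = 1 := by rw [(Additive.toMul e : omegaOne C).2.2]; group⟩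
      one_smul := fun e => Additive.toMul.injective (Subtype.ext
        (show ((1 : twoPt G a t) : G) * _ * ((1 : twoPt G a t) : G)⁻¹ = _ by simp))
      mul_smul := fun x y e => Additive.toMul.injective (Subtype.ext
        (show ((x * y : twoPt G a t) : G) * _ * ((x * y : twoPt G a t) : G)⁻¹ =
            (x : G) * ((y : G) * _ * (y : G)⁻¹) * (x : G)⁻¹ by
          simp [mul_assoc]))
      smul_zero := fun x => Additive.toMul.injective (Subtype.ext
        (show (x : G) * ((1 : omegaOne C) : G) * (x : G)⁻¹ = 1 by simp))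
      smul_add := fun x e e' => Additive.toMul.injective (Subtype.ext
        (show (x : G) * (((Additive.toMul e : omegaOne C) : G) * (Additive.toMul e' : omegaOne C)) *
            (x : G)⁻¹ = (x : G) * (Additive.toMul e : omegaOne C) * (x : G)⁻¹ *
            ((x : G) * (Additive.toMul e' : omegaOne C) * (x : G)⁻¹) by group)) }
  let τ : twoPt G a t ≃* twoPt G a t :=
    { toFun := fun d => ⟨t * d * t, conj_t_twoPt hS d.2⟩
      invFun := fun d => ⟨t * d * t, conj_t_twoPt hS d.2⟩
      left_inv := fun d => Subtype.ext (conj_t_conj_t hS d)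
      right_inv := fun d => Subtype.ext (conj_t_conj_t hS d)
      map_mul' := fun x y => Subtype.ext (conj_t_mul hS x y) }
  let e0 : Additive (omegaOne C) := Additive.ofMul ⟨s0, hs0Q, hs02⟩
  let cv : Additive (omegaOne C) → G := fun e => ((Additive.toMul e : omegaOne C) : G)
  have hext : ∀ x y : Additive (omegaOne C), cv x = cv y → x = y :=
    fun x y h => Additive.toMul.injective (Subtype.ext h)
  have hfix0 : ∀ d : twoPt G a t, t * (d : G) * t = d ↔ d • e0 = e0 := by
    intro d
    rw [← centralizer_base hS h0 d.2]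
    constructor
    · intro h
      exact hext _ _ (show (d : G) * s0 * (d : G)⁻¹ = s0 by rw [h, mul_inv_cancel_right])
    · intro h
      exact mul_inv_eq_iff_eq_mul.1 (congrArg cv h)
  have htw : TransOdd.Twisted τ e0 := by
    refine ⟨hS.odd_card, fun e => hext _ _ ?_, fun h => hs01 (congrArg cv h),
      fun d => Subtype.ext (conj_t_conj_t hS d), fun e he => ?_, fun d => ?_⟩
    · rw [two_nsmul]
      exact (Additive.toMul e : omegaOne C).2.2
    · obtain ⟨k, hk, hke⟩ := invols_eq_conj hS h0 (s' := cv e) (C.invol_mem_iff.2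
        ⟨(Additive.toMul e : omegaOne C).2.1, fun h => he (hext _ _ h),
          (Additive.toMul e : omegaOne C).2.2⟩)
      exact ⟨⟨k⁻¹, inv_mem ((mem_invSet hS).1 hk).1⟩, hext _ _
        (show k⁻¹ * s0 * (k⁻¹)⁻¹ = cv e by rw [hke, inv_inv])⟩
    · rw [← hfix0]
      exact ⟨fun h => congrArg Subtype.val h, fun h => Subtype.ext h⟩
  haveI : FaithfulSMul (twoPt G a t) (Additive (omegaOne C)) := ⟨fun {d d'} h => by
    refine Subtype.ext (inv_mul_eq_one.1 (C.eq_one_of_centralizes (d'⁻¹ * d).2 fun s hs hss => ?_)).symm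
    have h1 : (d'⁻¹ * d) • (Additive.ofMul ⟨s, hs, hss⟩ : Additive (omegaOne C)) =
        Additive.ofMul ⟨s, hs, hss⟩ := by rw [mul_smul, h, inv_smul_smul]
    exact mul_inv_eq_iff_eq_mul.1 (congrArg cv h1)⟩
  obtain ⟨⟨L, hF, hfin, e, he, hrange, hact⟩, -⟩ := htw.semilinear
  have hsur : ∀ x : Additive (omegaOne C), ∃ l, e l = x := fun x =>
    (hrange ▸ AddSubgroup.mem_top x : x ∈ e.range)
  obtain ⟨l0, hl0⟩ := hsur e0
  have hl00 : l0 ≠ 0 := fun e' => htw.ne_zero (by rw [← hl0, e', map_zero])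
  let e' : L →+ Additive (omegaOne C) := e.comp (AddMonoidHom.mulLeft l0)
  have he' : Function.Injective e' := he.comp (mul_right_injective₀ hl00)
  have hsur' : ∀ x : Additive (omegaOne C), ∃ l, e' l = x := fun x => by
    obtain ⟨l, rfl⟩ := hsur x
    exact ⟨l0⁻¹ * l, by show e (l0 * (l0⁻¹ * l)) = e l; rw [mul_inv_cancel_left₀ hl00]⟩
  have hcard : Nat.card (omegaOne C) = Nat.card L :=
    (Nat.card_congr Additive.ofMul).trans (Nat.card_eq_of_bijective e' ⟨he', hsur'⟩).symm
  have hact' : ∀ w : fixTwo G a t, ∃ σ : L ≃+* L,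
      ∀ l, (⟨w, w.2.1⟩ : twoPt G a t) • e' l = e' (σ l) := by
    intro w
    obtain ⟨α, σ, hασ⟩ := hact ⟨w, w.2.1⟩ (Set.mem_univ _)
    refine ⟨σ, fun l => ?_⟩
    have h1 : α * σ l0 = l0 := he ((hασ l0).symm.trans (by
      rw [hl0]; exact (hfix0 _).1 ((mem_fixTwo hS.mul_self).1 w.2).2))
    show (⟨w, w.2.1⟩ : twoPt G a t) • e (l0 * l) = e (l0 * σ l)
    rw [hασ, map_mul σ, ← mul_assoc, h1]
  choose σ hσ using hact'
  let π : fixTwo G a t →* (L ≃+* L) :=
    { toFun := σ
      map_one' := RingEquiv.ext fun l => he' (by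
        rw [← hσ]
        exact (one_smul (twoPt G a t) (e' l)).trans rfl)
      map_mul' := fun x y => RingEquiv.ext fun l => he' (by
        rw [← hσ]
        show ((⟨x, x.2.1⟩ : twoPt G a t) * ⟨y, y.2.1⟩) • e' l = e' (σ x (σ y l))
        rw [mul_smul, hσ, hσ]) }
  have hπ : Function.Injective π := by
    refine (injective_iff_map_eq_one π).2 fun x hx => Subtype.ext ?_
    refine C.eq_one_of_centralizes x.2.1 fun s hs hss => ?_
    obtain ⟨l, hl⟩ := hsur' (Additive.ofMul ⟨s, hs, hss⟩)
    have h1 := hσ x l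
    rw [show σ x l = l from by rw [show σ x = 1 from hx]; rfl, hl] at h1
    exact mul_inv_eq_iff_eq_mul.1 (congrArg cv h1)
  have hπv : orderOf (π ⟨v, hv⟩) = q := by
    rw [orderOf_injective π hπ, ← hvq]
    exact (Subgroup.orderOf_coe (⟨v, hv⟩ : fixTwo G a t)).symm
  obtain ⟨hL, hA⟩ := card_of_prime_order_aut (π ⟨v, hv⟩) hπv (fun l hl => by
    have h1 := hσ ⟨v, hv⟩ l
    rw [show σ ⟨v, hv⟩ l = l from hl] at h1
    rcases hone _ (Additive.toMul (e' l)).2 (mul_inv_eq_iff_eq_mul.1 (congrArg cv h1)) with h | h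
    · exact Or.inl (he' ((hext _ _ (h.trans rfl)).trans (map_zero e').symm))
    · exact Or.inr (he' ((hext _ _ (h.trans rfl : cv (e' l) = cv e0)).trans
        (hl0.symm.trans (by show e l0 = e (l0 * 1); rw [mul_one])))))
  refine ⟨hcard.trans hL, le_antisymm ?_ ?_⟩
  · haveI : Finite (L ≃+* L) :=
      Finite.of_injective (fun s : L ≃+* L => (s : L → L)) DFunLike.coe_injective
    exact hA ▸ Nat.card_le_card_of_injective π hπ
  · calc q = orderOf (⟨v, hv⟩ : fixTwo G a t) :=
          hvq.symm.trans (Subgroup.orderOf_coe (⟨v, hv⟩ : fixTwo G a t))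
      _ ≤ _ := Nat.le_of_dvd Nat.card_pos (orderOf_dvd_natCard _)

end CfsgLib.SylTwoAbel
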