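import Mathlib
import Cfsg.Agent.Lib.SylTwoAbel.Field

/-!
The orders of `Q` and of the centraliser in `Q` of an element of prime order of `C_D(t)` centralising
only one involution.
-/

set_option autoImplicit false
set_option linter.style.haveILetI false
set_option linter.unusedSectionVars false

namespace CfsgLib.SylTwoAbel

open CfsgLib.RankOneInvol
open MulAction (stabilizer)

universe u v

variable {G : Type u} [Group G] {Ω : Type v} [MulAction G Ω] {a : Ω} {t : G} {Q : Subgroup G}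
variable [Finite G] (C : Ctx G a t Q)
include C

/-- Every involution is a `2 ^ k`-th power of an element of order `2 ^ (k + 1)`, if one is. -/
theorem Ctx.exists_root {x : G} (hx : x ∈ Q) {k : ℕ} (hk : x ^ 2 ^ k ≠ 1) (hk' : x ^ 2 ^ (k + 1) = 1)
    {s : G} (hs : s ∈ Q) (hs1 : s ≠ 1) (hss : s * s = 1) : ∃ y ∈ Q, y ^ 2 ^ k = s := by
  have hS := C.setup
  obtain ⟨s0, r0, h0⟩ := exists_paired_right hS (isSwap_t hS)
  have hz : x ^ 2 ^ k ∈ Cfsg.involutionsIn (stabilizer G a : Set G) := C.invol_mem_iff.2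
    ⟨Q.pow_mem hx _, hk, by rw [← pow_two, ← pow_mul, ← pow_succ]; exact hk'⟩
  obtain ⟨k1, hk1, e1⟩ := invols_eq_conj hS h0 hz
  obtain ⟨k2, hk2, e2⟩ := invols_eq_conj hS h0 (C.invol_mem_iff.2 ⟨hs, hs1, hss⟩)
  obtain ⟨hk1D, -⟩ := (mem_invSet hS).1 hk1
  obtain ⟨hk2D, -⟩ := (mem_invSet hS).1 hk2
  refine ⟨(k2⁻¹ * k1) * x * (k2⁻¹ * k1)⁻¹,
    Q_conj hS (mem_twoPt.1 (mul_mem (inv_mem hk2D) hk1D)).1 hx, ?_⟩
  rw [conj_pow, e1, e2]
  group

/-- Roots fixed by an element of odd prime order that fixes the involution. -/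
theorem Ctx.exists_root_fixed {v : G} (hv : v • a = a) {q : ℕ} [hq : Fact q.Prime] (hvq : orderOf v = q)
    (hq2 : q ≠ 2) {k : ℕ} {s : G} (hvs : v * s = s * v) {y : G} (hy : y ∈ Q) (hys : y ^ 2 ^ k = s) :
    ∃ z ∈ Q, z ^ 2 ^ k = s ∧ v * z = z * v := by
  classical
  have hS := C.setup
  let T : Type u := {z : G // z ∈ Q ∧ z ^ 2 ^ k = s}
  let P : Subgroup G := Subgroup.zpowers v
  have hP : ∀ g ∈ P, g • a = a ∧ g * s = s * g := fun g hg => by
    obtain ⟨i, rfl⟩ := hg
    exact ⟨MulAction.mem_stabilizer_iff.1 ((stabilizer G a).zpow_mem hv i),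
      ((show Commute v s from hvs).zpow_left i).eq⟩
  letI : MulAction P T :=
    { smul := fun g z => ⟨(g : G) * z.1 * (g : G)⁻¹, Q_conj hS (hP _ g.2).1 z.2.1, by
        rw [conj_pow, z.2.2, (hP _ g.2).2, mul_inv_cancel_right]⟩
      one_smul := fun z => Subtype.ext (show ((1 : P) : G) * z.1 * ((1 : P) : G)⁻¹ = z.1 by simp)
      mul_smul := fun g h z => Subtype.ext (show ((g * h : P) : G) * z.1 * ((g * h : P) : G)⁻¹ =
          (g : G) * ((h : G) * z.1 * (h : G)⁻¹) * (g : G)⁻¹ by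
        simp [mul_assoc]) }
  let R : Subgroup G :=
    { carrier := {x | x ∈ Q ∧ x ^ 2 ^ k = 1}
      one_mem' := ⟨Q.one_mem, one_pow _⟩
      mul_mem' := fun {x z} hx hz => ⟨Q.mul_mem hx.1 hz.1, by
        rw [(show Commute x z from C.comm x hx.1 z hz.1).mul_pow, hx.2, hz.2, one_mul]⟩
      inv_mem' := fun {x} hx => ⟨Q.inv_mem hx.1, by rw [inv_pow, hx.2, inv_one]⟩ }
  have hT : Nat.card T = Nat.card R := (Nat.card_congr
    { toFun := fun r : R => (⟨y * r.1, Q.mul_mem hy r.2.1, by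
        rw [(show Commute y r.1 from C.comm y hy _ r.2.1).mul_pow, hys, r.2.2, mul_one]⟩ : T)
      invFun := fun z => ⟨y⁻¹ * z.1, Q.mul_mem (Q.inv_mem hy) z.2.1, by
        rw [(show Commute y⁻¹ z.1 from C.comm _ (Q.inv_mem hy) _ z.2.1).mul_pow, inv_pow, hys,
          z.2.2, inv_mul_cancel]⟩
      left_inv := fun r => Subtype.ext (inv_mul_cancel_left y r.1)
      right_inv := fun z => Subtype.ext (mul_inv_cancel_left y z.1) }).symm
  have hR : IsPGroup 2 R := C.two.to_le fun x hx => hx.1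
  haveI : Fact (Nat.Prime 2) := ⟨Nat.prime_two⟩
  obtain ⟨i, hi⟩ := hR.exists_card_eq
  have hPq : IsPGroup q P := IsPGroup.of_card (n := 1) (by rw [Nat.card_zpowers, hvq, pow_one])
  obtain ⟨z, hz⟩ := hPq.nonempty_fixed_point_of_prime_not_dvd_card T (by
    rw [hT, hi]
    exact fun h => hq2 ((Nat.prime_dvd_prime_iff_eq hq.out Nat.prime_two).1 (hq.out.dvd_of_dvd_pow h)))
  exact ⟨z.1, z.2.1, z.2.2, mul_inv_eq_iff_eq_mul.1
    (congrArg Subtype.val (hz ⟨v, Subgroup.mem_zpowers v⟩))⟩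

/-- The orders. -/
theorem Ctx.card_data {v s0 r0 : G} (h0 : IsPaired t a Q s0 t r0) (hv : v ∈ fixTwo G a t) {q : ℕ}
    [hq : Fact q.Prime] (hvq : orderOf v = q)
    (hone : ∀ s ∈ omegaOne C, v * s = s * v → s = 1 ∨ s = s0) :
    ∃ B : ℕ, 1 ≤ B ∧ Nat.card Q = 2 ^ (q * B) ∧
      Nat.card ↥(Q ⊓ Subgroup.centralizer {v}) = 2 ^ B ∧
      (∃ z ∈ Q ⊓ Subgroup.centralizer {v}, orderOf z = 2 ^ B ∧
        Q ⊓ Subgroup.centralizer {v} = Subgroup.zpowers z) ∧
      ((∃ x ∈ Q, x * x ≠ 1) → 2 ≤ B) := by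
  classical
  have hS := C.setup
  obtain ⟨hs0Q, hs01, hs02⟩ := C.invol_mem_iff.1 h0.1
  obtain ⟨hvD, hvt⟩ := (mem_fixTwo hS.mul_self).1 hv
  have hvs0 : v * s0 = s0 * v := (centralizer_base hS h0 hvD).2 hvt
  have hva := (mem_twoPt.1 hvD).1
  have hq2 : q ≠ 2 := by
    rintro rfl
    exact Nat.not_even_iff_odd.2 (hvq ▸ odd_twoPt hS hvD : Odd 2) even_two
  obtain ⟨hcard1, -⟩ := C.field_data h0 hv hvq hone
  letI : CommGroup Q := { mul_comm := fun x y => Subtype.ext (C.comm x x.2 y y.2) }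
  haveI : Fact (Nat.Prime 2) := ⟨Nat.prime_two⟩
  obtain ⟨x0, hx0⟩ := Monoid.exists_orderOf_eq_exponent (G := Q)
    (Monoid.ExponentExists.of_finite)
  obtain ⟨B, hB⟩ := (IsPGroup.iff_orderOf.1 C.two) x0
  have hexp : ∀ x : Q, x ^ 2 ^ B = 1 := fun x => by
    rw [← hB, hx0]
    exact Monoid.pow_exponent_eq_one x
  have hB1 : 1 ≤ B := by
    by_contra h
    have h1 := hexp ⟨s0, hs0Q⟩
    rw [show B = 0 by omega, pow_zero, pow_one] at h1
    exact hs01 (congrArg Subtype.val h1)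
  let f : ℕ → (Q →* Q) := fun k => powMonoidHom (2 ^ k)
  have hf : ∀ (k : ℕ) (x : Q), f k x = x ^ 2 ^ k := fun k x => rfl
  have h1 : Nat.card (f 1).ker = 2 ^ q := by
    rw [← hcard1]
    exact Nat.card_congr
      { toFun := fun x => ⟨(x.1 : G), x.1.2, by
          have := congrArg Subtype.val (show x.1 ^ 2 ^ 1 = 1 from x.2)
          rwa [SubgroupClass.coe_pow, pow_one, pow_two] at this⟩
        invFun := fun x => ⟨⟨(x : G), x.2.1⟩, Subtype.ext (by
          show (x : G) ^ 2 ^ 1 = 1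
          rw [pow_one, pow_two]; exact x.2.2)⟩
        left_inv := fun x => rfl
        right_inv := fun x => rfl }
  have hstep : ∀ k < B, Nat.card (f (k + 1)).ker = 2 ^ q * Nat.card (f k).ker := by
    intro k hk
    let g : (f (k + 1)).ker →* (f 1).ker :=
      ((f k).comp (f (k + 1)).ker.subtype).codRestrict _ fun x => by
        show ((x : Q) ^ 2 ^ k) ^ 2 ^ 1 = 1
        rw [← pow_mul, ← pow_add]
        exact x.2
    have hsurj : Function.Surjective g := by
      rintro ⟨⟨s, hsQ⟩, hs⟩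
      by_cases hs1 : s = 1
      · exact ⟨1, by rw [map_one]; exact Subtype.ext (Subtype.ext hs1.symm)⟩
      have hss : s * s = 1 := by
        have := congrArg Subtype.val (show (⟨s, hsQ⟩ : Q) ^ 2 ^ 1 = 1 from hs)
        rwa [SubgroupClass.coe_pow, pow_one, pow_two] at this
      have hord : orderOf (x0 : G) = 2 ^ B := by rw [Subgroup.orderOf_coe, hB]
      obtain ⟨y, hy, hys⟩ := C.exists_root (x := (x0 : G) ^ 2 ^ (B - 1 - k)) (Q.pow_mem x0.2 _)
        (k := k) (by
          rw [← pow_mul, ← pow_add, show B - 1 - k + k = B - 1 by omega]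
          intro h
          have := Nat.le_of_dvd (pow_pos two_pos _) (hord ▸ orderOf_dvd_of_pow_eq_one h)
          exact absurd this (not_le.2 (Nat.pow_lt_pow_right one_lt_two (by omega))))
        (by rw [← pow_mul, ← pow_add, show B - 1 - k + (k + 1) = B by omega, ← hord, pow_orderOf_eq_one])
        hsQ hs1 hss
      refine ⟨⟨⟨y, hy⟩, Subtype.ext ?_⟩, Subtype.ext (Subtype.ext hys)⟩
      show y ^ 2 ^ (k + 1) = 1
      rw [pow_succ, pow_mul, hys, pow_two, hss]
    have hker : Nat.card g.ker = Nat.card (f k).ker := Nat.card_congr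
      { toFun := fun x => ⟨x.1.1, congrArg Subtype.val (show g x.1 = 1 from x.2)⟩
        invFun := fun x => ⟨⟨x.1, show x.1 ^ 2 ^ (k + 1) = 1 by
          rw [pow_succ, pow_mul, show x.1 ^ 2 ^ k = 1 from x.2, one_pow]⟩, Subtype.ext x.2⟩
        left_inv := fun x => rfl
        right_inv := fun x => rfl }
    rw [← g.ker.card_mul_index, Subgroup.index_ker, MonoidHom.range_eq_top.2 hsurj,
      Subgroup.card_top, h1, hker, mul_comm]
  have hN : ∀ k ≤ B, Nat.card (f k).ker = 2 ^ (q * k) := by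
    intro k
    induction k with
    | zero =>
      intro _
      rw [mul_zero, pow_zero, Subgroup.card_eq_one, eq_bot_iff]
      intro x hx
      have : x ^ 2 ^ 0 = 1 := hx
      rwa [pow_zero, pow_one] at this
    | succ k ih =>
      intro hk
      rw [hstep k hk, ih (by omega), ← pow_add, Nat.mul_succ, add_comm]
  have hQ : Nat.card Q = 2 ^ (q * B) := by
    rw [← hN B le_rfl, show (f B).ker = ⊤ from eq_top_iff.2 fun x _ => hexp x, Subgroup.card_top]
  -- the cyclic centraliser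
  set Q1 := Q ⊓ Subgroup.centralizer {v} with hQ1
  have hord : orderOf (x0 : G) = 2 ^ B := by rw [Subgroup.orderOf_coe, hB]
  obtain ⟨y, hy, hys⟩ := C.exists_root x0.2 (k := B - 1) (fun h => by
      have := Nat.le_of_dvd (pow_pos two_pos _) (hord ▸ orderOf_dvd_of_pow_eq_one h)
      exact absurd this (not_le.2 (Nat.pow_lt_pow_right one_lt_two (by omega))))
    (by rw [show B - 1 + 1 = B by omega, ← hord, pow_orderOf_eq_one]) hs0Q hs01 hs02
  obtain ⟨z, hz, hzs, hvz⟩ := C.exists_root_fixed hva hvq hq2 hvs0 hy hys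
  have hzo : orderOf z = 2 ^ B := by
    have h := orderOf_eq_prime_pow (p := 2) (x := z) (n := B - 1) (by rwa [hzs])
      (by rw [pow_succ, pow_mul, hzs, pow_two, hs02])
    rwa [show B - 1 + 1 = B by omega] at h
  have hz1 : z ∈ Q1 := ⟨hz, Subgroup.mem_centralizer_singleton_iff.2 hvz.symm⟩
  have hcyc : Q1 = Subgroup.zpowers z := by
    refine le_antisymm ?_ (Subgroup.zpowers_le.2 hz1)
    suffices ∀ j : ℕ, ∀ x ∈ Q1, x ^ 2 ^ j = 1 → x ∈ Subgroup.zpowers z from
      fun x hx => this B x hx (by simpa using congrArg Subtype.val (hexp ⟨x, hx.1⟩))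
    intro j
    induction j with
    | zero =>
      intro x _ h
      rw [pow_zero, pow_one] at h
      rw [h]; exact one_mem _
    | succ j ih =>
      intro x hx h
      obtain ⟨i, hi⟩ := (Subgroup.mem_zpowers_iff).1
        (ih (x * x) (Q1.mul_mem hx hx) (by rw [← pow_two, ← pow_mul, ← pow_succ']; exact h))
      have hzsq : (z ^ 2 ^ (B - 1)) = s0 := hzs
      rcases Int.even_or_odd i with ⟨i', rfl⟩ | ⟨i', rfl⟩
      · have hc : Commute x z := C.comm x hx.1 z hz
        have hw : x * (z ^ i')⁻¹ ∈ omegaOne C := by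
          refine ⟨Q.mul_mem hx.1 (Q.inv_mem (Q.zpow_mem hz _)), ?_⟩
          rw [((hc.zpow_right i').inv_right).symm.mul_mul_mul_comm, ← hi, zpow_add]
          group
        rcases hone _ hw (Subgroup.mem_centralizer_singleton_iff.1
          (Subgroup.mul_mem _ hx.2 (Subgroup.inv_mem _ (Subgroup.zpow_mem _ hz1.2 _)))).symm with e | e
        · rw [mul_inv_eq_one.1 e]
          exact Subgroup.zpow_mem _ (Subgroup.mem_zpowers z) _
        · rw [mul_inv_eq_iff_eq_mul.1 e, ← hzsq]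
          exact mul_mem (Subgroup.pow_mem _ (Subgroup.mem_zpowers z) _)
            (Subgroup.zpow_mem _ (Subgroup.mem_zpowers z) _)
      · exfalso
        have hx2 : (x * x) ^ 2 ^ (B - 1) = 1 := by
          rw [← pow_two, ← pow_mul, ← pow_succ', show B - 1 + 1 = B by omega]
          simpa using congrArg Subtype.val (hexp ⟨x, hx.1⟩)
        rw [← hi, ← zpow_natCast, ← zpow_mul, mul_comm (2 * i' + 1), zpow_mul, zpow_natCast, hzsq,
          zpow_add, zpow_mul, zpow_two, hs02, one_zpow, one_mul, zpow_one] at hx2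
        exact hs01 hx2
  refine ⟨B, hB1, hQ, by rw [hcyc, Nat.card_zpowers, hzo], ⟨z, hz1, hzo, hcyc⟩, fun ⟨x, hx, hxx⟩ => ?_⟩
  by_contra h
  have := congrArg Subtype.val (hexp ⟨x, hx⟩)
  rw [show B = 1 by omega, SubgroupClass.coe_pow, pow_one, pow_two] at this
  exact hxx this

end CfsgLib.SylTwoAbel
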