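import Mathlib
import Cfsg.Agent.Lib.SylTwoAbel.Powers

/-!
The centraliser of an element of `C_D(t)` on its fixed points.
-/

set_option autoImplicit false
set_option linter.style.haveILetI false
set_option linter.unusedSectionVars false

namespace CfsgLib.SylTwoAbel

open CfsgLib.RankOneInvol
open MulAction (stabilizer)

universe u

variable {G : Type u} [Group G] {Ω : Type u} [MulAction G Ω] {a : Ω} {t : G} {Q : Subgroup G}

/-- The fixed points of `v`. -/
abbrev Fix (Ω : Type u) [MulAction G Ω] (v : G) : Type u := {x : Ω // v • x = x}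

instance fixAction (v : G) : MulAction (Subgroup.centralizer ({v} : Set G)) (Fix Ω v) where
  smul g x := ⟨(g : G) • x.1, by
    rw [← mul_smul, ← Subgroup.mem_centralizer_singleton_iff.1 g.2, mul_smul, x.2]⟩
  one_smul x := Subtype.ext (one_smul G x.1)
  mul_smul g h x := Subtype.ext (mul_smul (g : G) (h : G) x.1)

theorem fix_smul_coe (v : G) (g : Subgroup.centralizer ({v} : Set G)) (x : Fix Ω v) :
    (g • x).1 = (g : G) • x.1 := rfl

variable [Finite G] (C : Ctx G a t Q)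
include C

theorem Ctx.finite_fix (v : G) : Finite (Fix Ω v) :=
  haveI := finite_omega C.setup
  Subtype.finite

theorem Ctx.fixTwo_fix {v : G} (hv : v ∈ fixTwo G a t) : v • a = a ∧ v • t • a = t • a :=
  mem_twoPt.1 hv.1

theorem Ctx.decomp_cent {v : G} (hv : v ∈ fixTwo G a t) {g : G} (hg : g • a = a)
    (hgv : g * v = v * g) :
    ∃ q ∈ Q ⊓ Subgroup.centralizer {v}, ∃ d ∈ twoPt G a t ⊓ Subgroup.centralizer {v}, g = q * d := by
  have hS := C.setup
  obtain ⟨q, hq, d, hd, rfl⟩ := decomp hS hg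
  have hq' : v * q * v⁻¹ ∈ Q := Q_conj hS (C.fixTwo_fix hv).1 hq
  have hd' : v * d * v⁻¹ ∈ twoPt G a t :=
    (twoPt G a t).mul_mem ((twoPt G a t).mul_mem hv.1 hd) ((twoPt G a t).inv_mem hv.1)
  obtain ⟨e1, e2⟩ := decomp_unique hS hq' hq hd' hd (by
    calc v * q * v⁻¹ * (v * d * v⁻¹) = (v * (q * d)) * v⁻¹ := by group
      _ = q * d := by rw [← hgv, mul_inv_cancel_right])
  exact ⟨q, ⟨hq, Subgroup.mem_centralizer_singleton_iff.2 (mul_inv_eq_iff_eq_mul.1 e1).symm⟩,
    d, ⟨hd, Subgroup.mem_centralizer_singleton_iff.2 (mul_inv_eq_iff_eq_mul.1 e2).symm⟩, rfl⟩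

theorem Ctx.Q_trans_fix {v : G} (hv : v ∈ fixTwo G a t) {x : Ω} (hx : v • x = x) (hxa : x ≠ a) :
    ∃ q ∈ Q ⊓ Subgroup.centralizer {v}, q • t • a = x := by
  have hS := C.setup
  obtain ⟨q, hq, e⟩ := Q_trans hS hxa
  exact ⟨q, ⟨hq, Q_centralizes hS (X := {v}) (by rintro _ rfl; exact hv.1) hq e
    (by rintro _ rfl; exact hx)⟩, e⟩

/-- The centraliser acting on the fixed points is a smaller set-up, unless only one involution of
`Q` centralises `v`. -/
theorem Ctx.cent_step {v : G} (hv : v ∈ fixTwo G a t) (hv1 : v ≠ 1)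
    (IH : ∀ (X : Type u) [Group X] [Finite X] (Ω' : Type u) [MulAction X Ω'] (a' : Ω') (t' : X)
      (Q' : Subgroup X), Nat.card X < Nat.card G → Ctx X a' t' Q' → ∀ x ∈ Q', x * x = 1)
    {x y : G} (hx : x ∈ Q ⊓ Subgroup.centralizer {v}) (hy : y ∈ Q ⊓ Subgroup.centralizer {v})
    (hx1 : x ≠ 1) (hy1 : y ≠ 1) (hxy : x ≠ y) (hxx : x * x = 1) (hyy : y * y = 1) :
    ∀ z ∈ Q ⊓ Subgroup.centralizer {v}, z * z = 1 := by
  classical
  have hS := C.setup
  set X1 := Subgroup.centralizer ({v} : Set G) with hX1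
  obtain ⟨hva, hvb⟩ := C.fixTwo_fix hv
  obtain ⟨e, hea, het, he⟩ := C.exists_third
  let a' : Fix Ω v := ⟨a, hva⟩
  have htX : t ∈ X1 := Subgroup.mem_centralizer_singleton_iff.2
    (Subgroup.mem_centralizer_singleton_iff.1 hv.2).symm
  haveI := C.finite_fix v
  let φ : X1 →* Equiv.Perm (Fix Ω v) := MulAction.toPermHom X1 (Fix Ω v)
  let W : Type u := φ.range
  let π : X1 →* φ.range := φ.rangeRestrict
  have hπs : Function.Surjective π := φ.rangeRestrict_surjective
  have hact : ∀ (g : X1) (p : Fix Ω v), π g • p = g • p := fun g p => rfl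
  let t1 : X1 := ⟨t, htX⟩
  let Q' : Subgroup φ.range := (Q.subgroupOf X1).map π
  have hker : ∀ g : X1, (g : G) ∈ Q → π g = 1 → (g : G) = 1 := fun g hg h => by
    have h1 : π g • (⟨t • a, hvb⟩ : Fix Ω v) = ⟨t • a, hvb⟩ := by rw [h, one_smul]
    exact eq_one_of_mem_Q hS hg (congrArg Subtype.val h1)
  have hX3 : ∃ b c d : Ω, b ≠ c ∧ b ≠ d ∧ c ≠ d ∧
      ∀ z ∈ ({v} : Set G), z • b = b ∧ z • c = c ∧ z • d = d :=
    ⟨a, t • a, e, (ta_ne hS).symm, hea.symm, het.symm, by rintro _ rfl; exact ⟨hva, hvb, he _ hv⟩⟩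
  have hC' : Ctx φ.range a' (π t1) Q' := by
    refine ⟨⟨?_, ?_, ?_, ?_, ?_, ?_, ?_, ?_, ?_, ?_⟩, ?_, ?_, ?_, ?_⟩
    · rw [MulAction.is_two_pretransitive_iff]
      intro b₁ b₂ c₁ c₂ hb hc
      obtain ⟨g, hg, h1, h2⟩ := centralizer_two_trans hS (X := {v}) (by rintro _ rfl; exact hv.1) hX3
        (b₁ := b₁.1) (b₂ := b₂.1) (c₁ := c₁.1) (c₂ := c₂.1)
        (by rintro _ rfl; exact b₁.2) (by rintro _ rfl; exact b₂.2)
        (by rintro _ rfl; exact c₁.2) (by rintro _ rfl; exact c₂.2)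
        (fun h => hb (Subtype.ext h)) (fun h => hc (Subtype.ext h))
      exact ⟨π ⟨g, hg⟩, Subtype.ext h1, Subtype.ext h2⟩
    · rw [← map_mul, show t1 * t1 = 1 from Subtype.ext hS.mul_self, map_one]
    · intro h
      have h1 : π t1 • a' = a' := by rw [h, one_smul]
      exact ta_ne hS (congrArg Subtype.val h1)
    · exact fun h => ta_ne hS (congrArg Subtype.val h)
    · rintro _ ⟨g, hg, rfl⟩
      exact Subtype.ext (Q_smul hS hg)
    · rintro h hh _ ⟨g, hg, rfl⟩
      obtain ⟨k, rfl⟩ := hπs h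
      refine ⟨k * g * k⁻¹, ?_, by rw [map_mul, map_mul, map_inv]⟩
      exact Q_conj hS (congrArg Subtype.val (show π k • a' = a' from hh)) hg
    · rw [eq_bot_iff]
      rintro _ ⟨⟨g, hg, rfl⟩, h⟩
      have h1 : (g : G) = 1 := eq_one_of_mem_Q hS hg (congrArg Subtype.val (show π g • (π t1 • a') = π t1 • a' from h))
      rw [show g = 1 from Subtype.ext h1, map_one]
      exact one_mem _
    · refine le_antisymm (sup_le ?_ inf_le_left) fun h hh => ?_
      · rintro _ ⟨g, hg, rfl⟩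
        exact Subtype.ext (Q_smul hS hg)
      obtain ⟨k, rfl⟩ := hπs h
      obtain ⟨q, hq, d, hd, e'⟩ := C.decomp_cent hv
        (congrArg Subtype.val (show π k • a' = a' from hh)) (Subgroup.mem_centralizer_singleton_iff.1 k.2)
      rw [show k = (⟨q, hq.2⟩ : X1) * ⟨d, hd.2⟩ from Subtype.ext e', map_mul]
      exact mul_mem (Subgroup.mem_sup_left ⟨_, hq.1, rfl⟩) (Subgroup.mem_sup_right
        ⟨Subtype.ext (mem_twoPt.1 hd.1).1, Subtype.ext (mem_twoPt.1 hd.1).2⟩)
    · have hc : Nat.card Q' = Nat.card (Q.subgroupOf X1) :=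
        (Nat.card_congr (Equiv.ofBijective (fun g : Q.subgroupOf X1 => (⟨π g.1, g.1, g.2, rfl⟩ : Q'))
          ⟨fun g g' h => by
            have h1 : π (g.1⁻¹ * g'.1) = 1 := by
              rw [map_mul, map_inv, inv_mul_eq_one]; exact congrArg Subtype.val h
            exact Subtype.ext (inv_mul_eq_one.1 (Subtype.ext (hker _
              (Q.mul_mem (Q.inv_mem g.2) g'.2) h1))), by
            rintro ⟨_, g, hg, rfl⟩; exact ⟨⟨g, hg⟩, rfl⟩⟩)).symm
      rw [hc, even_iff_two_dvd]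
      have ho : orderOf (⟨⟨x, hx.2⟩, hx.1⟩ : Q.subgroupOf X1) = 2 :=
        orderOf_eq_prime (by rw [pow_two]; exact Subtype.ext (Subtype.ext hxx))
          fun h => hx1 (congrArg (fun z : Q.subgroupOf X1 => ((z : X1) : G)) h)
      exact ho ▸ orderOf_dvd_natCard _
    · let D' : Subgroup X1 := (twoPt G a t).subgroupOf X1
      have hle : stabilizer φ.range a' ⊓ stabilizer φ.range (π t1 • a') ≤ D'.map π := by
        intro h hh
        obtain ⟨k, rfl⟩ := hπs h
        exact ⟨k, ⟨congrArg Subtype.val (show π k • a' = a' from hh.1),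
          congrArg Subtype.val (show π k • (π t1 • a') = π t1 • a' from hh.2)⟩, rfl⟩
      refine Odd.of_dvd_nat ?_ (Subgroup.card_dvd_of_le hle)
      refine Odd.of_dvd_nat ?_ (Subgroup.card_map_dvd _ π)
      exact hS.odd_card.of_dvd_nat (Subgroup.card_dvd_of_injective
        ((X1.subtype.comp D'.subtype).codRestrict _ fun z => z.2)
        fun z z' h => Subtype.ext (Subtype.ext (congrArg Subtype.val h :)))
    · exact fun g hg => Subtype.ext (Equiv.ext hg)
    · rintro _ ⟨g, hg, rfl⟩ _ ⟨g', hg', rfl⟩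
      rw [← map_mul, ← map_mul]
      exact congrArg π (Subtype.ext (C.comm _ hg _ hg'))
    · exact (C.two.comap_of_injective X1.subtype X1.subtype_injective).map π
    · refine ⟨π ⟨x, hx.2⟩, ⟨_, hx.1, rfl⟩, π ⟨y, hy.2⟩, ⟨_, hy.1, rfl⟩,
        fun h => hx1 (hker _ hx.1 h), fun h => hy1 (hker _ hy.1 h), fun h => hxy ?_, ?_, ?_⟩
      · exact inv_mul_eq_one.1 (hker (⟨x, hx.2⟩⁻¹ * ⟨y, hy.2⟩)
          (Q.mul_mem (Q.inv_mem hx.1) hy.1) (by rw [map_mul, map_inv, inv_mul_eq_one]; exact h))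
      · rw [← map_mul, show (⟨x, hx.2⟩ : X1) * ⟨x, hx.2⟩ = 1 from Subtype.ext hxx, map_one]
      · rw [← map_mul, show (⟨y, hy.2⟩ : X1) * ⟨y, hy.2⟩ = 1 from Subtype.ext hyy, map_one]
  have hvX : v ∈ X1 := Subgroup.mem_centralizer_singleton_iff.2 rfl
  have hlt : Nat.card φ.range < Nat.card G := by
    refine lt_of_lt_of_le ?_ (Nat.le_of_dvd Nat.card_pos X1.card_subgroup_dvd_card)
    have h1 : φ.ker ≠ ⊥ := fun h => hv1 (by
      have hm : (⟨v, hvX⟩ : X1) ∈ φ.ker := Equiv.ext fun p => Subtype.ext p.2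
      rw [h, Subgroup.mem_bot] at hm
      exact congrArg Subtype.val hm)
    have h3 := φ.ker.card_mul_index
    rw [Subgroup.index_ker] at h3
    have h4 : 1 < Nat.card φ.ker := Subgroup.one_lt_card_iff_ne_bot _ |>.2 h1
    have h5 : 0 < Nat.card φ.range := Nat.card_pos
    nlinarith
  intro z hz
  have h := IH φ.range (Fix Ω v) a' (π t1) Q' hlt hC' (π ⟨z, hz.2⟩) ⟨_, hz.1, rfl⟩
  rw [← map_mul] at h
  exact hker (⟨z, hz.2⟩ * ⟨z, hz.2⟩) (Q.mul_mem hz.1 hz.1) h

/-- When only one involution of `Q` centralises `v`, `C_D(v) = C_D(t)`. -/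
theorem Ctx.cent_inf_twoPt {v s0 r0 : G} (h0 : IsPaired t a Q s0 t r0) (hv : v ∈ fixTwo G a t)
    (hone : ∀ s ∈ omegaOne C, v * s = s * v → s = 1 ∨ s = s0) :
    twoPt G a t ⊓ Subgroup.centralizer {v} = fixTwo G a t := by
  have hS := C.setup
  obtain ⟨hs0Q, hs01, hs02⟩ := C.invol_mem_iff.1 h0.1
  refine le_antisymm (fun d hd => ?_) fun d hd => ⟨hd.1,
    Subgroup.mem_centralizer_singleton_iff.2 (C.fixTwo_comm hd hv)⟩
  obtain ⟨k, w, hk, hw, hwt, rfl⟩ := decomp_V' hS hd.1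
  have hwV : w ∈ fixTwo G a t := (mem_fixTwo hS.mul_self).2 ⟨hw, hwt⟩
  obtain ⟨hkD, -⟩ := (mem_invSet hS).1 hk
  have hkv : Commute k v := by
    have h1 : Commute (k * w) v := Subgroup.mem_centralizer_singleton_iff.1 hd.2
    have h2 : Commute w⁻¹ v := (show Commute w v from C.fixTwo_comm hwV hv).inv_left
    simpa using h1.mul_left h2
  obtain ⟨hvD, hvt⟩ := (mem_fixTwo hS.mul_self).1 hv
  have hvs0 : Commute v s0 := (centralizer_base hS h0 hvD).2 hvt
  have hm : k⁻¹ * s0 * k ∈ omegaOne C := by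
    obtain ⟨h1, h2, h3⟩ := C.invol_mem_iff.1 (conj_invol_mem hS h0.1 (mem_twoPt.1 hkD).1)
    exact ⟨h1, h3⟩
  rcases hone _ hm (((hkv.symm.inv_right).mul_right hvs0).mul_right hkv.symm).eq with h | h
  · exact absurd h (conj_ne_one' hs01 k)
  · have hk1 : k = 1 := conj_invol_injective hS h0.1 hk (one_mem_invSet hS)
      (by rw [h]; group)
    rwa [hk1, one_mul]

/-- The order of the centraliser when only one involution centralises `v`. -/
theorem Ctx.card_cent {v s0 r0 : G} (h0 : IsPaired t a Q s0 t r0) (hv : v ∈ fixTwo G a t)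
    (hone : ∀ s ∈ omegaOne C, v * s = s * v → s = 1 ∨ s = s0) :
    Nat.card (Subgroup.centralizer ({v} : Set G)) =
      (Nat.card ↥(Q ⊓ Subgroup.centralizer {v}) + 1) *
        (Nat.card ↥(Q ⊓ Subgroup.centralizer {v}) * Nat.card (fixTwo G a t)) := by
  classical
  have hS := C.setup
  have hVD := C.cent_inf_twoPt h0 hv hone
  obtain ⟨hva, hvb⟩ := C.fixTwo_fix hv
  set X1 := Subgroup.centralizer ({v} : Set G) with hX1
  set Q1 := Q ⊓ X1 with hQ1
  let a' : Fix Ω v := ⟨a, hva⟩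
  haveI := C.finite_fix v
  haveI : Finite Ω := finite_omega hS
  have htX : t ∈ X1 := Subgroup.mem_centralizer_singleton_iff.2
    (Subgroup.mem_centralizer_singleton_iff.1 hv.2).symm
  haveI : MulAction.IsPretransitive X1 (Fix Ω v) := by
    have hmov : ∀ p : Fix Ω v, ∃ g : X1, g • a' = p := by
      rintro ⟨p, hp⟩
      by_cases hpa : p = a
      · exact ⟨1, by rw [one_smul]; exact Subtype.ext hpa.symm⟩
      obtain ⟨q, hq, e⟩ := C.Q_trans_fix hv hp hpa
      exact ⟨⟨q * t, X1.mul_mem hq.2 htX⟩, Subtype.ext (show (q * t) • a = p by rw [mul_smul, e])⟩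
    refine ⟨fun p p' => ?_⟩
    obtain ⟨g, rfl⟩ := hmov p
    obtain ⟨g', rfl⟩ := hmov p'
    exact ⟨g' * g⁻¹, by rw [mul_smul, inv_smul_smul]⟩
  have hfix : Nat.card (Fix Ω v) = Nat.card Q1 + 1 := by
    let f : Option Q1 → Fix Ω v := fun o => o.elim a' fun q =>
      ⟨(q : G) • t • a, by
        rw [← mul_smul, ← Subgroup.mem_centralizer_singleton_iff.1 q.2.2, mul_smul, hvb]⟩
    have hne : ∀ q : Q1, (q : G) • t • a ≠ a := fun q h => ta_ne hS (by
      rw [← inv_smul_smul (q : G) (t • a), h]; exact Q_smul hS (Q.inv_mem q.2.1))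
    have hf : Function.Bijective f := by
      refine ⟨?_, ?_⟩
      · rintro (_ | q) (_ | q') h
        · rfl
        · exact absurd (congrArg Subtype.val h).symm (hne q')
        · exact absurd (congrArg Subtype.val h) (hne q)
        · exact congrArg some (Subtype.ext (Q_inj hS q.2.1 q'.2.1 (congrArg Subtype.val h)))
      · rintro ⟨p, hp⟩
        by_cases hpa : p = a
        · exact ⟨none, Subtype.ext hpa.symm⟩
        obtain ⟨q, hq, e⟩ := C.Q_trans_fix hv hp hpa
        exact ⟨some ⟨q, hq⟩, Subtype.ext e⟩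
    rw [← Nat.card_eq_of_bijective f hf, Finite.card_option]
  let g : Q1 × fixTwo G a t → stabilizer X1 a' := fun p =>
    ⟨⟨(p.1 : G) * p.2, X1.mul_mem p.1.2.2 (Subgroup.mem_centralizer_singleton_iff.2
        (C.fixTwo_comm p.2.2 hv))⟩,
      Subtype.ext (show ((p.1 : G) * p.2) • a = a by
        rw [mul_smul, (C.fixTwo_fix p.2.2).1, Q_smul hS p.1.2.1])⟩
  have hg : Function.Bijective g := by
    refine ⟨fun p p' h => ?_, fun h => ?_⟩
    · obtain ⟨e1, e2⟩ := decomp_unique hS p.1.2.1 p'.1.2.1 p.2.2.1 p'.2.2.1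
        (congrArg (fun z : stabilizer X1 a' => ((z : X1) : G)) h)
      exact Prod.ext (Subtype.ext e1) (Subtype.ext e2)
    · obtain ⟨q, hq, d, hd, e⟩ := C.decomp_cent hv (congrArg Subtype.val h.2)
        (Subgroup.mem_centralizer_singleton_iff.1 h.1.2)
      exact ⟨(⟨q, hq⟩, ⟨d, hVD ▸ hd⟩), Subtype.ext (Subtype.ext e.symm)⟩
  rw [← (stabilizer X1 a').card_mul_index, MulAction.index_stabilizer_of_transitive,
    ← Nat.card_eq_of_bijective g hg, Nat.card_prod, hfix, mul_comm]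

end CfsgLib.SylTwoAbel
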