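import Mathlib

/-!
Small tools: normal 2-complements for cyclic Sylow 2-subgroups, normalised Sylow subgroups,
products of invariant functions.
-/

set_option autoImplicit false
set_option linter.style.haveILetI false

namespace CfsgLib.SylTwoAbel

universe u v w

/-- Burnside: a subgroup with a cyclic Sylow 2-subgroup has a normal 2-complement. -/
theorem exists_odd_part {G : Type u} [Group G] [Finite G] {X P : Subgroup G} (hPX : P ≤ X)
    (hP : IsPGroup 2 P) (hcyc : IsCyclic P) {m : ℕ} (hm : Odd m)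
    (hcard : Nat.card X = Nat.card P * m) :
    ∃ O : Subgroup G, O ≤ X ∧ Nat.card O = m ∧ X ≤ Subgroup.normalizer (O : Set G) ∧
      ∀ x ∈ X, Odd (orderOf x) → x ∈ O := by
  classical
  haveI : Fact (Nat.Prime 2) := ⟨Nat.prime_two⟩
  obtain ⟨k, hk⟩ := hP.exists_card_eq
  have hPc : Nat.card (P.subgroupOf X) = 2 ^ k := by
    rw [Nat.card_congr (Subgroup.subgroupOfEquivOfLe hPX).toEquiv, hk]
  have hfac : (Nat.card X).factorization 2 = k := by
    rw [hcard, hk, Nat.factorization_mul (pow_ne_zero _ two_ne_zero) hm.pos.ne', Finsupp.add_apply,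
      Nat.Prime.factorization_pow Nat.prime_two, Finsupp.single_eq_same,
      Nat.factorization_eq_zero_of_not_dvd hm.not_two_dvd_nat, add_zero]
  let P' : Sylow 2 X := Sylow.ofCard (P.subgroupOf X) (by rw [hPc, hfac])
  have hP' : (P' : Subgroup X) = P.subgroupOf X := Sylow.coe_ofCard _ _
  rcases Nat.eq_zero_or_pos k with rfl | hk0
  · refine ⟨X, le_rfl, by rw [hcard, hk, pow_zero, one_mul], Subgroup.le_normalizer, fun x hx _ => hx⟩
  have hcyc' : IsCyclic (P' : Subgroup X) := by
    rw [hP']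
    exact (Subgroup.subgroupOfEquivOfLe hPX).isCyclic.2 hcyc
  have hle := IsCyclic.normalizer_le_centralizer (p := 2) (G := X)
    ((Nat.minFac_eq_two_iff _).2 (hcard ▸ dvd_mul_of_dvd_left (hk ▸ dvd_pow_self 2 hk0.ne') m)) hcyc'
  have hc := MonoidHom.ker_transferSylow_isComplement' P' hle
  set N := (MonoidHom.transferSylow P' hle).ker with hN
  have hNc : Nat.card N = m := by
    have := hc.card_mul_card
    rw [hP', hPc, hcard, hk, mul_comm (2 ^ k)] at this
    exact Nat.eq_of_mul_eq_mul_right (pow_pos two_pos k) this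
  refine ⟨N.map X.subtype, Subgroup.map_subtype_le N, by
    rw [Subgroup.card_map_of_injective X.subtype_injective, hNc], fun x hx => ?_, fun x hx hodd => ?_⟩
  · refine Subgroup.mem_normalizer_iff.2 fun y => ?_
    have key : ∀ (z : X) (w : G), w ∈ N.map X.subtype → (z : G) * w * (z : G)⁻¹ ∈ N.map X.subtype := by
      rintro z _ ⟨w, hw, rfl⟩
      exact ⟨z * w * z⁻¹, (inferInstance : N.Normal).conj_mem w hw z, rfl⟩
    refine ⟨key ⟨x, hx⟩ y, fun h => ?_⟩
    have := key (⟨x, hx⟩⁻¹) _ h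
    simpa [mul_assoc] using this
  · refine ⟨⟨x, hx⟩, MonoidHom.mem_ker.2 (orderOf_eq_one_iff.1 ?_), rfl⟩
    have h1 : orderOf (MonoidHom.transferSylow P' hle ⟨x, hx⟩) ∣ orderOf x :=
      (orderOf_map_dvd _ _).trans (by rw [← Subgroup.orderOf_coe])
    have h2 : orderOf (MonoidHom.transferSylow P' hle ⟨x, hx⟩) ∣ 2 ^ k := by
      rw [← hPc, ← hP']
      exact orderOf_dvd_natCard _
    exact Nat.eq_one_of_dvd_coprimes (Nat.Coprime.pow_left _ (Nat.coprime_two_left.2 hodd)) h2 h1

/-- A Sylow 2-subgroup normalises a Sylow subgroup of a normal subgroup of odd order. -/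
theorem exists_sylow_normalized_aux {X : Type u} [Group X] [Finite X] (O : Subgroup X) [O.Normal]
    (hO : Odd (Nat.card O)) (P : Sylow 2 X) (q : ℕ) [Fact q.Prime] :
    ∃ R : Subgroup X, R ≤ O ∧ Nat.card R = q ^ (Nat.card O).factorization q ∧
      (P : Subgroup X) ≤ Subgroup.normalizer (R : Set X) := by
  haveI : Fact (Nat.Prime 2) := ⟨Nat.prime_two⟩
  obtain ⟨R0⟩ : Nonempty (Sylow q O) := inferInstance
  set R1 := (R0 : Subgroup O).map O.subtype with hR1
  set N := Subgroup.normalizer (R1 : Set X) with hN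
  have hsup : N ⊔ O = ⊤ := Sylow.normalizer_sup_eq_top R0
  have h2 : 2 ^ (Nat.card X).factorization 2 ∣ Nat.card N := by
    have hq : (N.map (QuotientGroup.mk' O)) = ⊤ := by
      rw [← (QuotientGroup.mk' O).range_eq_top.2 (QuotientGroup.mk'_surjective O),
        MonoidHom.range_eq_map, ← hsup, Subgroup.map_sup, (Subgroup.map_eq_bot_iff O).2
          (le_of_eq (QuotientGroup.ker_mk' O).symm), sup_bot_eq]
    have h3 : Nat.card (X ⧸ O) ∣ Nat.card N := by
      rw [← Subgroup.card_top (G := X ⧸ O), ← hq]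
      exact Subgroup.card_map_dvd _ _
    refine dvd_trans ?_ h3
    have h4 : 2 ^ (Nat.card X).factorization 2 ∣ Nat.card (X ⧸ O) * Nat.card O := by
      rw [← Subgroup.card_eq_card_quotient_mul_card_subgroup]
      exact Nat.ordProj_dvd _ _
    exact (Nat.Coprime.pow_left _ (Nat.coprime_two_left.2 hO)).dvd_of_dvd_mul_right h4
  obtain ⟨P1, hP1⟩ := Sylow.exists_subgroup_card_pow_prime 2 h2
  let P2 : Sylow 2 X := Sylow.ofCard (P1.map N.subtype) (by
    rw [Subgroup.card_map_of_injective N.subtype_injective, hP1])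
  obtain ⟨g, hg⟩ := MulAction.exists_smul_eq X P2 P
  refine ⟨R1.map (MulAut.conj g).toMonoidHom, ?_, ?_, ?_⟩
  · rintro _ ⟨r, hr, rfl⟩
    exact (inferInstance : O.Normal).conj_mem r (Subgroup.map_subtype_le _ hr) g
  · rw [Subgroup.card_map_of_injective (MulAut.conj g).injective,
      Subgroup.card_map_of_injective O.subtype_injective]
    exact R0.card_eq_multiplicity
  · intro x hx
    rw [← hg] at hx
    obtain ⟨y, hy, rfl⟩ : ∃ y ∈ (P2 : Subgroup X), g * y * g⁻¹ = x := by
      rw [Sylow.coe_subgroup_smul] at hx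
      obtain ⟨y, hy, e⟩ := hx
      exact ⟨y, hy, e⟩
    have hyN : y ∈ N := Subgroup.map_subtype_le P1 hy
    rw [Subgroup.mem_normalizer_iff]
    intro w
    simp only [Subgroup.mem_map, MulEquiv.coe_toMonoidHom, MulAut.conj_apply]
    constructor
    · rintro ⟨r, hr, rfl⟩
      exact ⟨y * r * y⁻¹, (Subgroup.mem_normalizer_iff.1 hyN r).1 hr, by group⟩
    · rintro ⟨r, hr, e⟩
      refine ⟨y⁻¹ * r * y, (Subgroup.mem_normalizer_iff''.1 hyN r).1 hr, ?_⟩
      calc g * (y⁻¹ * r * y) * g⁻¹ = (g * y⁻¹ * g⁻¹) * (g * r * g⁻¹) * (g * y * g⁻¹) := by group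
        _ = w := by rw [e]; group

/-- The relative form. -/
theorem exists_sylow_normalized {G : Type u} [Group G] [Finite G] {X O P : Subgroup G} (hOX : O ≤ X)
    (hPX : P ≤ X) (hn : X ≤ Subgroup.normalizer (O : Set G)) (hO : Odd (Nat.card O))
    (hP : IsPGroup 2 P) (hcard : Nat.card X = Nat.card P * Nat.card O) (q : ℕ) [Fact q.Prime] :
    ∃ R : Subgroup G, R ≤ O ∧ Nat.card R = q ^ (Nat.card O).factorization q ∧
      P ≤ Subgroup.normalizer (R : Set G) := by
  haveI : Fact (Nat.Prime 2) := ⟨Nat.prime_two⟩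
  haveI : (O.subgroupOf X).Normal := ⟨fun x hx y => Subgroup.mem_subgroupOf.2
    ((Subgroup.mem_normalizer_iff.1 (hn y.2) _).1 (Subgroup.mem_subgroupOf.1 hx))⟩
  have hOc : Nat.card (O.subgroupOf X) = Nat.card O :=
    Nat.card_congr (Subgroup.subgroupOfEquivOfLe hOX).toEquiv
  obtain ⟨k, hk⟩ := hP.exists_card_eq
  let P' : Sylow 2 X := Sylow.ofCard (P.subgroupOf X) (by
    rw [Nat.card_congr (Subgroup.subgroupOfEquivOfLe hPX).toEquiv, hcard, hk,
      Nat.factorization_mul (pow_ne_zero _ two_ne_zero) Nat.card_pos.ne', Finsupp.add_apply,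
      Nat.Prime.factorization_pow Nat.prime_two, Finsupp.single_eq_same,
      Nat.factorization_eq_zero_of_not_dvd hO.not_two_dvd_nat, add_zero])
  obtain ⟨R, hRO, hRc, hPn⟩ := exists_sylow_normalized_aux (O.subgroupOf X) (hOc.symm ▸ hO) P' q
  refine ⟨R.map X.subtype, ?_, by rw [Subgroup.card_map_of_injective X.subtype_injective, hRc, hOc],
    fun x hx => ?_⟩
  · rintro _ ⟨r, hr, rfl⟩
    exact hRO hr
  · have hxn := hPn (show (⟨x, hPX hx⟩ : X) ∈ (P' : Subgroup X) by rw [Sylow.coe_ofCard]; exact hx)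
    rw [Subgroup.mem_normalizer_iff]
    intro w
    constructor
    · rintro ⟨r, hr, rfl⟩
      exact ⟨⟨x, hPX hx⟩ * r * ⟨x, hPX hx⟩⁻¹, (Subgroup.mem_normalizer_iff.1 hxn r).1 hr, rfl⟩
    · rintro ⟨r, hr, e⟩
      refine ⟨⟨x, hPX hx⟩⁻¹ * r * ⟨x, hPX hx⟩, (Subgroup.mem_normalizer_iff''.1 hxn r).1 hr, ?_⟩
      show x⁻¹ * (r : G) * x = w
      rw [show (r : G) = x * w * x⁻¹ from e]
      group

/-- Fermat, inside a group: if `v` has prime order `q` and `v ^ (i ^ q ^ l) = v` then `v ^ i = v`. -/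
theorem pow_eq_self_of_pow {G : Type u} [Group G] {v : G} {q : ℕ} [Fact q.Prime] (hv : orderOf v = q)
    {i l : ℕ} (h : v ^ i ^ q ^ l = v) : v ^ i = v := by
  conv_rhs => rw [← pow_one v]
  conv_rhs at h => rw [← pow_one v]
  rw [pow_eq_pow_iff_modEq, hv, ← ZMod.natCast_eq_natCast_iff] at h ⊢
  rwa [Nat.cast_pow, ZMod.pow_card_pow] at h

/-- A product of an invariant function into a group of prime exponent is the product over the fixed
points of a group of prime power order. -/
theorem prod_eq_prod_fixedPoints {P : Type u} {α : Type v} {A : Type w} [Group P] [MulAction P α]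
    [Fintype α] [CommGroup A] {q : ℕ} [hq : Fact q.Prime] (hP : IsPGroup q P)
    [Fintype (MulAction.fixedPoints P α)] (f : α → A)
    (hf : ∀ (p : P) (x : α), f (p • x) = f x) (hA : ∀ c : A, c ^ q = 1) :
    ∏ x, f x = ∏ x : MulAction.fixedPoints P α, f x.1 := by
  classical
  rw [← Finset.prod_subtype (Finset.univ.filter fun x => x ∈ MulAction.fixedPoints P α)
    (by simp) f]
  rw [← Finset.prod_fiberwise_of_maps_to (s := Finset.univ) (t := Finset.univ.image f) (g := f)
      (fun x _ => Finset.mem_image_of_mem f (Finset.mem_univ x)) f,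
    ← Finset.prod_fiberwise_of_maps_to (s := Finset.univ.filter fun x => x ∈ MulAction.fixedPoints P α)
      (t := Finset.univ.image f) (g := f)
      (fun x _ => Finset.mem_image_of_mem f (Finset.mem_univ x)) f]
  refine Finset.prod_congr rfl fun c _ => ?_
  rw [Finset.prod_congr rfl (fun x hx => (Finset.mem_filter.1 hx).2), Finset.prod_const,
    Finset.prod_congr rfl (fun x hx => (Finset.mem_filter.1 hx).2), Finset.prod_const]
  letI : MulAction P {x : α // f x = c} :=
    { smul := fun p x => ⟨p • x.1, by rw [hf]; exact x.2⟩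
      one_smul := fun x => Subtype.ext (one_smul P x.1)
      mul_smul := fun p r x => Subtype.ext (mul_smul p r x.1) }
  have h := hP.card_modEq_card_fixedPoints {x : α // f x = c}
  rw [Nat.card_eq_fintype_card, Fintype.card_subtype] at h
  refine pow_eq_pow_iff_modEq.2 ((h.trans ?_).of_dvd (orderOf_dvd_of_pow_eq_one (hA c)))
  refine congrArg (· % q) ?_
  rw [← Fintype.card_coe, ← Nat.card_eq_fintype_card]
  exact Nat.card_congr
    { toFun := fun x => ⟨x.1.1, Finset.mem_filter.2 ⟨Finset.mem_filter.2 ⟨Finset.mem_univ _,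
        fun p => congrArg Subtype.val (x.2 p)⟩, x.1.2⟩⟩
      invFun := fun x => ⟨⟨x.1, (Finset.mem_filter.1 x.2).2⟩, fun p =>
        Subtype.ext ((Finset.mem_filter.1 (Finset.mem_filter.1 x.2).1).2 p)⟩
      left_inv := fun x => rfl
      right_inv := fun x => rfl }

end CfsgLib.SylTwoAbel
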