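import Mathlib
import Cfsg.Agent.Lib.SylTwoAbel.Centralizer
import Cfsg.Agent.Lib.SylTwoAbel.Tools
import Cfsg.Agent.S1119
import Cfsg.Agent.S1124
import Cfsg.Agent.S1135

/-!
The Sylow `q`-subgroup when an element `v` of order `q` of `C_D(t)` centralises exactly one
involution of `Q` and `q` divides the degree.
-/

set_option autoImplicit false
set_option linter.style.haveILetI false
set_option linter.unusedSectionVars false

namespace CfsgLib.SylTwoAbel

open CfsgLib.RankOneInvol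
open MulAction (stabilizer)

universe u

variable {G : Type u} [Group G] {Ω : Type u} [MulAction G Ω] {a : Ω} {t : G} {Q : Subgroup G}

/-- The centraliser of `v`: the elementary facts. -/
structure CentData (v s0 z : G) (q B : ℕ) : Prop where
  hq : q.Prime
  hB : 2 ≤ B
  hvq : orderOf v = q
  hs1 : s0 ≠ 1
  hss : s0 * s0 = 1
  hvs : Commute v s0
  hzv : Commute z v
  hzs : Commute z s0
  hzo : orderOf z = 2 ^ B
  hdvd : q ∣ 2 ^ B + 1
  /-- the only involution in `⟨z⟩` is `s0` -/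
  hpow : ∀ j : ℕ, z ^ j ≠ 1 → ∃ m : ℕ, (z ^ j) ^ m = s0
  /-- odd elements of `C(v)` commuting with `s0` are powers of `v` -/
  hfix : ∀ r : G, Commute r v → Odd (orderOf r) → Commute r s0 → r ∈ Subgroup.zpowers v
  /-- elements inverted by `s0` have centralisers of odd order -/
  hinv : ∀ y : G, y ≠ 1 → Odd (orderOf y) → s0 * y * s0 = y⁻¹ →
    Odd (Nat.card (Subgroup.centralizer ({y} : Set G)))
  hcardX : Nat.card (Subgroup.centralizer ({v} : Set G)) = 2 ^ B * ((2 ^ B + 1) * q)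
  hcardG : (Nat.card G).factorization q = (2 ^ B + 1).factorization q + 2
  /-- two-elements normalising a subgroup of odd order containing `v` and commuting with `s0` -/
  htwo : ∀ R : Subgroup G, Odd (Nat.card R) → v ∈ R → ∀ x : G,
    x ∈ Subgroup.normalizer (R : Set G) → (∃ k, x ^ 2 ^ k = 1) → Commute x s0 →
    x ∈ Subgroup.zpowers z
  hQsyl : ∀ P : Subgroup G, IsPGroup 2 P → ∀ x ∈ P, ∀ y ∈ P, x * y = y * x
  hfus : ∀ (g : G) (i : ℕ), g * v * g⁻¹ = v ^ i → g * v * g⁻¹ = v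

variable [Finite G] (C : Ctx G a t Q)
include C

theorem Ctx.centData {v s0 r0 : G} (h0 : IsPaired t a Q s0 t r0) (hv : v ∈ fixTwo G a t) {q : ℕ}
    [hq : Fact q.Prime] (hvq : orderOf v = q) (hdvd : q ∣ Nat.card Ω)
    (hone : ∀ s ∈ omegaOne C, v * s = s * v → s = 1 ∨ s = s0) (hne : ∃ x ∈ Q, x * x ≠ 1) :
    ∃ (z : G) (B : ℕ), CentData v s0 z q B := by
  classical
  have hS := C.setup
  haveI := C.faithful
  haveI : Fact (Nat.Prime 2) := ⟨Nat.prime_two⟩
  obtain ⟨hs0Q, hs01, hs02⟩ := C.invol_mem_iff.1 h0.1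
  obtain ⟨hvD, hvt⟩ := (mem_fixTwo hS.mul_self).1 hv
  have hvs0 : v * s0 = s0 * v := (centralizer_base hS h0 hvD).2 hvt
  obtain ⟨B, -, hcQ, hcQ1, ⟨z, hz, hzo, hQ1⟩, hB2⟩ := C.card_data h0 hv hvq hone
  obtain ⟨hcO, hcV⟩ := C.field_data h0 hv hvq hone
  have hodd : Odd q := hvq ▸ odd_twoPt hS hvD
  have hΩ : Nat.card Ω = 2 ^ (q * B) + 1 := by rw [(Cfsg.Agent.S1119.result hS).2.1, hcQ]
  have hqf : q ∣ 2 ^ B + 1 := by
    rw [hΩ, ← ZMod.natCast_eq_zero_iff] at hdvd
    rw [← ZMod.natCast_eq_zero_iff]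
    push_cast at hdvd ⊢
    rwa [mul_comm, pow_mul, ZMod.pow_card] at hdvd
  have hs0z : s0 ∈ Subgroup.zpowers z := hQ1 ▸ ⟨hs0Q, Subgroup.mem_centralizer_singleton_iff.2 hvs0.symm⟩
  have hzv : Commute z v := Subgroup.mem_centralizer_singleton_iff.1 hz.2
  have hzs : Commute z s0 := C.comm z hz.1 s0 hs0Q
  have hVv : fixTwo G a t = Subgroup.zpowers v := by
    refine (Subgroup.eq_of_le_of_card_ge (Subgroup.zpowers_le.2 hv) ?_).symm
    rw [hcV, Nat.card_zpowers, hvq]
  have hstab : ∀ x : G, Commute x s0 → x • a = a := fun x hx =>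
    commute_fixed hS hs01 hs02 hx.eq (Q_smul hS hs0Q)
  refine ⟨z, B, ⟨hq.out, hB2 hne, hvq, hs01, hs02, hvs0, hzv, hzs, hzo, hqf, ?_, ?_, ?_, ?_, ?_, ?_,
    ?_, ?_⟩⟩
  · intro j hj
    have h2 : IsPGroup 2 Q := C.two
    obtain ⟨k, hk⟩ := (Nat.dvd_prime_pow Nat.prime_two).1
      (hzo ▸ orderOf_pow_dvd (x := z) j : orderOf (z ^ j) ∣ 2 ^ B)
    obtain ⟨i, rfl⟩ : ∃ i, k = i + 1 := ⟨k - 1, by
      rcases k with _ | k
      · exact absurd (orderOf_eq_one_iff.1 (by simpa using hk.2)) hj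
      · omega⟩
    refine ⟨2 ^ i, ?_⟩
    have hm : (z ^ j) ^ 2 ^ i ∈ omegaOne C := ⟨Q.pow_mem (Q.pow_mem hz.1 j) _, by
      rw [← pow_two, ← pow_mul, ← pow_succ, ← hk.2, pow_orderOf_eq_one]⟩
    refine ((hone _ hm ((hzv.pow_left j).pow_left _).symm.eq).resolve_left fun h => ?_)
    have := Nat.le_of_dvd (pow_pos two_pos i) (hk.2 ▸ orderOf_dvd_of_pow_eq_one h)
    exact absurd this (not_le.2 (Nat.pow_lt_pow_right one_lt_two (by omega)))
  · intro r hrv hro hrs
    obtain ⟨x, hx, d, hd, e⟩ := C.decomp_cent hv (hstab r hrs) hrv.eq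
    have hdV : d ∈ Subgroup.zpowers v := by
      rw [← hVv, ← C.cent_inf_twoPt h0 hv hone]
      exact hd
    obtain ⟨i, rfl⟩ := hdV
    have hxe : x = r * (v ^ i)⁻¹ := by rw [e]; group
    have h1 : x ^ (orderOf r * q) = 1 := by
      rw [hxe, ((hrv.zpow_right i).inv_right).mul_pow, pow_mul, pow_orderOf_eq_one, one_pow, one_mul,
        mul_comm, pow_mul, inv_pow, ← zpow_natCast (v ^ i), ← zpow_mul, mul_comm, zpow_mul, zpow_natCast,
        ← hvq, pow_orderOf_eq_one, one_zpow, inv_one, one_pow]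
    obtain ⟨k, hk⟩ := C.two ⟨x, hx.1⟩
    have hx1 : x = 1 := orderOf_eq_one_iff.1 (Nat.eq_one_of_dvd_coprimes
      (Nat.Coprime.pow_left _ (Nat.coprime_two_left.2 (hro.mul hodd)))
      (orderOf_dvd_of_pow_eq_one (by simpa using congrArg Subtype.val hk : x ^ 2 ^ k = 1))
      (orderOf_dvd_of_pow_eq_one h1))
    rw [e, hx1, one_mul]
    exact ⟨i, rfl⟩
  · intro y hy1 hyo hyi
    have hu2 : y * s0 * (y * s0) = 1 := by
      calc y * s0 * (y * s0) = y * (s0 * y * s0) := by group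
        _ = 1 := by rw [hyi, mul_inv_cancel]
    have hu1 : y * s0 ≠ 1 := fun h => hs01 (by
      have hys : y = s0 := by
        calc y = y * (s0 * s0) := by rw [hs02, mul_one]
          _ = (y * s0) * s0 := by group
          _ = s0 := by rw [h, one_mul]
      obtain ⟨j, hj⟩ := hys ▸ hyo
      calc s0 = s0 ^ (2 * j + 1) := by rw [pow_succ, pow_mul, pow_two, hs02, one_pow, one_mul]
        _ = 1 := by rw [← hj, pow_orderOf_eq_one])
    have hsq : y * s0 * s0 * (y * s0 * s0) ≠ 1 := by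
      rw [mul_assoc y s0 s0, hs02, mul_one]
      exact fun h => hy1 (eq_one_of_sq_of_odd hyo h)
    have h := (Cfsg.Agent.S1135.result hS C.h2 (y * s0) s0 hu1 hu2 hs01 hs02 hsq).2
    rwa [mul_assoc y s0 s0, hs02, mul_one] at h
  · rw [C.card_cent h0 hv hone, hcQ1, hcV]
    ring
  · have hinvs : Nat.card (Cfsg.invertedBy (twoPt G a t) t) = 2 ^ q - 1 := by
      obtain ⟨e, -⟩ := conj_invol_bijective hS h0.1
      rw [show Nat.card (Cfsg.invertedBy (twoPt G a t) t) =
        Nat.card (Cfsg.involutionsIn (stabilizer G a : Set G)) from Nat.card_congr e, ← hcO]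
      let f : Option (Cfsg.involutionsIn (stabilizer G a : Set G)) → omegaOne C :=
        fun o => o.elim 1 fun s => ⟨s.1, (C.invol_mem_iff.1 s.2).1, (C.invol_mem_iff.1 s.2).2.2⟩
      have hf : Function.Bijective f := by
        refine ⟨?_, fun s => ?_⟩
        · rintro (_ | s) (_ | s') h
          · rfl
          · exact absurd (congrArg Subtype.val h).symm (C.invol_mem_iff.1 s'.2).2.1
          · exact absurd (congrArg Subtype.val h) (C.invol_mem_iff.1 s.2).2.1
          · exact congrArg some (Subtype.ext (congrArg Subtype.val h :))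
        · by_cases hs : (s : G) = 1
          · exact ⟨none, Subtype.ext hs.symm⟩
          · exact ⟨some ⟨s, C.invol_mem_iff.2 ⟨s.2.1, hs, s.2.2⟩⟩, rfl⟩
      rw [← Nat.card_eq_of_bijective f hf, Finite.card_option]
      omega
    have hD : Nat.card (twoPt G a t) = q * (2 ^ q - 1) := by
      rw [(Cfsg.Agent.S1124.result t (orderOf_eq_prime (by rw [pow_two, hS.mul_self]) hS.ne_one)
        (twoPt G a t) hS.odd_card fun x hx => by
          rw [inv_eq_of_mul_eq_one_right hS.mul_self]; exact conj_t_twoPt hS hx).2.1, hinvs]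
      congr 1
    have h2q : ¬ q ∣ 2 ^ q - 1 := fun h => by
      rw [← ZMod.natCast_eq_zero_iff, Nat.cast_sub Nat.one_le_two_pow] at h
      push_cast at h
      rw [ZMod.pow_card] at h
      norm_num at h
    have hq2 : ¬ q ∣ 2 := fun h => by
      rw [(Nat.prime_dvd_prime_iff_eq hq.out Nat.prime_two).1 h] at hodd
      exact absurd hodd (by decide)
    rw [(Cfsg.Agent.S1119.result hS).2.2.1, hcQ, show Nat.card
      ↥(stabilizer G a ⊓ stabilizer G (t • a)) = q * (2 ^ q - 1) from hD,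
      Nat.factorization_mul (mul_ne_zero (pow_ne_zero _ two_ne_zero) (mul_ne_zero hq.out.ne_zero
        (by have := Nat.one_lt_two_pow hq.out.ne_zero; omega))) (Nat.succ_ne_zero _),
      Nat.factorization_mul (pow_ne_zero _ two_ne_zero) (mul_ne_zero hq.out.ne_zero
        (by have := Nat.one_lt_two_pow hq.out.ne_zero; omega)),
      Nat.factorization_mul hq.out.ne_zero (by have := Nat.one_lt_two_pow hq.out.ne_zero; omega)]
    simp only [Finsupp.add_apply]
    rw [Nat.factorization_eq_zero_of_not_dvd (fun h => hq2 (hq.out.dvd_of_dvd_pow h)),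
      hq.out.factorization_self, Nat.factorization_eq_zero_of_not_dvd h2q,
      Nat.factorization_def _ hq.out, Nat.factorization_def _ hq.out]
    have h := padicValNat.pow_add_pow (x := 2 ^ B) (y := 1) (p := q) hodd hqf
      (fun h => hq2 (hq.out.dvd_of_dvd_pow h)) (n := q) hodd
    rw [one_pow, padicValNat_self, ← pow_mul, mul_comm] at h
    rw [Nat.succ_eq_add_one]
    omega
  · intro R hR hvR x hx ⟨k, hk⟩ hxs
    obtain ⟨y, hy, d, hd, e⟩ := decomp hS (hstab x hxs)
    have hd1 : d = 1 := by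
      have hyk : ∀ i : ℕ, ∃ y' ∈ Q, x ^ i = y' * d ^ i := by
        intro i
        induction i with
        | zero => exact ⟨1, Q.one_mem, by simp⟩
        | succ i ih =>
          obtain ⟨y', hy', e'⟩ := ih
          refine ⟨y' * (d ^ i * y * (d ^ i)⁻¹), Q.mul_mem hy' (Q_conj hS
            (mem_twoPt.1 ((twoPt G a t).pow_mem hd i)).1 hy), ?_⟩
          rw [pow_succ, e', e, pow_succ]
          group
      obtain ⟨y', hy', e'⟩ := hyk (2 ^ k)
      rw [hk] at e'
      have h1 := (decomp_unique hS hy' Q.one_mem ((twoPt G a t).pow_mem hd _) (one_mem _)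
        (e'.symm.trans (one_mul 1).symm)).2
      exact orderOf_eq_one_iff.1 (Nat.eq_one_of_dvd_coprimes
        (Nat.Coprime.pow_left _ (Nat.coprime_two_left.2 (odd_twoPt hS hd)))
        (orderOf_dvd_of_pow_eq_one h1) dvd_rfl)
    rw [hd1, mul_one] at e
    subst e
    rw [← hQ1]
    refine ⟨hy, Subgroup.mem_centralizer_singleton_iff.2 ?_⟩
    have h1 : x * v * x⁻¹ * v⁻¹ ∈ R :=
      R.mul_mem ((Subgroup.mem_normalizer_iff.1 hx v).1 hvR) (R.inv_mem hvR)
    have h2 : x * v * x⁻¹ * v⁻¹ ∈ Q := by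
      rw [show x * v * x⁻¹ * v⁻¹ = x * (v * x⁻¹ * v⁻¹) by group]
      exact Q.mul_mem hy (Q_conj hS (mem_twoPt.1 hvD).1 (Q.inv_mem hy))
    obtain ⟨i, hi⟩ := C.two ⟨_, h2⟩
    have h3 : x * v * x⁻¹ * v⁻¹ = 1 := orderOf_eq_one_iff.1 (Nat.eq_one_of_dvd_coprimes
      (Nat.Coprime.pow_left _ (Nat.coprime_two_left.2 (odd_orderOf_of_mem hR h1)))
      (orderOf_dvd_of_pow_eq_one (by simpa using congrArg Subtype.val hi :
        (x * v * x⁻¹ * v⁻¹) ^ 2 ^ i = 1)) dvd_rfl)
    rw [mul_inv_eq_one, mul_inv_eq_iff_eq_mul] at h3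
    exact h3
  · intro P hP x hx y hy
    obtain ⟨S, hS'⟩ := (Cfsg.Agent.S1119.result hS).2.2.2.1
    obtain ⟨T, hT⟩ := hP.exists_le_sylow
    obtain ⟨g, hg⟩ := MulAction.exists_smul_eq G T S
    have hmem : ∀ w ∈ P, g * w * g⁻¹ ∈ Q := fun w hw => hS' (by
      rw [← hg, Sylow.coe_subgroup_smul]; exact ⟨w, hT hw, rfl⟩)
    calc x * y = g⁻¹ * ((g * x * g⁻¹) * (g * y * g⁻¹)) * g := by group
      _ = g⁻¹ * ((g * y * g⁻¹) * (g * x * g⁻¹)) * g := by rw [C.comm _ (hmem x hx) _ (hmem y hy)]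
      _ = y * x := by group
  · intro g i h
    exact C.fusion hv (h ▸ (fixTwo G a t).pow_mem hv i)

end CfsgLib.SylTwoAbel
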