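import Mathlib
import Cfsg.Agent.Lib.SylTwoAbel.Local

/-!
The Sylow `q`-subgroup of the configuration.
-/

set_option autoImplicit false
set_option linter.style.haveILetI false
set_option linter.unusedSectionVars false

namespace CfsgLib.SylTwoAbel

universe u

variable {G : Type u} [Group G] [Finite G] {v s0 z : G} {q B : ℕ} [hqF : Fact q.Prime]

/-- What the Sylow argument gives: `W` is the Sylow `q`-subgroup, `R = C_W(v)`. -/
structure SylData (v s0 z : G) (q B : ℕ) (R W : Subgroup G) : Prop where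
  hq5 : q = 2 ^ B + 1
  hvR : v ∈ R
  hRv : ∀ r ∈ R, Commute r v
  hRc : Nat.card R = q ^ 2
  hWc : Nat.card W = q ^ 3
  hRW : R ≤ W
  hsyl : ¬ q ∣ W.index
  hzR : z ∈ Subgroup.normalizer (R : Set G)
  hzW : z ∈ Subgroup.normalizer (W : Set G)
  hmove : ∃ g ∈ W, ¬ Commute g v
  /-- conjugates of `v` in `R` -/
  hconj : ∀ h : G, h ∈ Subgroup.normalizer (R : Set G) →
    ∃ w ∈ R, h * v * h⁻¹ = v * w ∧ s0 * w * s0 = w⁻¹
  /-- the normaliser of `R` -/
  hH : ∀ h : G, h ∈ Subgroup.normalizer (R : Set G) → ∃ g ∈ W, ∃ j : ℕ, h = z ^ j * g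
  hWR : W ≤ Subgroup.normalizer (R : Set G)

namespace CentData

variable (D : CentData v s0 z q B)
include D

theorem odd_q : Odd q := by
  rcases D.hq.eq_two_or_odd' with h | h
  · exfalso
    have h1 := D.hdvd
    rw [h] at h1
    have h2 : 2 ∣ 2 ^ B := dvd_pow_self 2 (by have := D.hB; omega)
    have h3 := (Nat.dvd_add_right h2).1 h1
    omega
  · exact h

theorem s0_inv : s0⁻¹ = s0 := inv_eq_of_mul_eq_one_right D.hss

theorem zpowers_v (g : G) (h : g ∈ Subgroup.zpowers v) : ∃ i : ℕ, g = v ^ i := by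
  classical
  obtain ⟨i, hi⟩ := (isOfFinOrder_of_finite v).mem_zpowers_iff_mem_range_orderOf.1 h |> Finset.mem_image.1
  exact ⟨i, hi.2.symm⟩

/-- Fixed points of powers of `z` modulo `⟨v⟩`. -/
theorem semireg {r : G} (hrv : Commute r v) (hro : Odd (orderOf r)) {j : ℕ} (hj : z ^ j ≠ 1)
    {i : ℕ} (h : z ^ j * r * (z ^ j)⁻¹ = r * v ^ i) : r ∈ Subgroup.zpowers v := by
  obtain ⟨m, hm⟩ := D.hpow j hj
  set x := z ^ j with hx
  have hxv : Commute x v := D.hzv.pow_left j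
  have hiter : ∀ k : ℕ, x ^ k * r * (x ^ k)⁻¹ = r * v ^ (i * k) := by
    intro k
    induction k with
    | zero => simp
    | succ k ih =>
      calc x ^ (k + 1) * r * (x ^ (k + 1))⁻¹ = x * (x ^ k * r * (x ^ k)⁻¹) * x⁻¹ := by
            rw [pow_succ']; group
        _ = (x * r * x⁻¹) * (x * v ^ (i * k) * x⁻¹) := by rw [ih]; group
        _ = r * v ^ i * v ^ (i * k) := by rw [h, (hxv.pow_right (i * k)).eq, mul_inv_cancel_right]
        _ = r * v ^ (i * (k + 1)) := by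
          rw [mul_assoc, ← pow_add, Nat.mul_succ, add_comm]
  have h1 := hiter m
  rw [hm, D.s0_inv] at h1
  set w := v ^ (i * m) with hw
  have hsw : Commute s0 w := D.hvs.symm.pow_right _
  have h2 : w * w = 1 := by
    have e : r = r * w * w := by
      calc r = s0 * (s0 * r * s0) * s0 := by
            rw [show s0 * (s0 * r * s0) * s0 = (s0 * s0) * r * (s0 * s0) by group, D.hss, one_mul, mul_one]
        _ = s0 * (r * w) * s0 := by rw [h1]
        _ = (s0 * r * s0) * (s0 * w * s0) := by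
            rw [show s0 * (r * w) * s0 = s0 * r * (s0 * s0) * w * s0 by rw [D.hss]; group]; group
        _ = r * w * w := by rw [h1, hsw.eq, mul_assoc w s0 s0, D.hss, mul_one]
    rw [mul_assoc] at e
    exact left_eq_mul.1 e
  have hw1 : w = 1 := CfsgLib.RankOneInvol.eq_one_of_sq_of_odd
    (D.odd_q.of_dvd_nat (D.hvq ▸ orderOf_pow_dvd (x := v) _)) h2
  rw [hw1, mul_one] at h1
  refine D.hfix r hrv hro ?_
  show r * s0 = s0 * r
  calc r * s0 = s0 * r * s0 * s0 := by rw [h1]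
    _ = s0 * r := by rw [mul_assoc, D.hss, mul_one]

/-- A conjugate of `v` is not inverted by `s0`. -/
theorem not_inverted_conj {h : G} (hi : s0 * (h * v * h⁻¹) * s0 = (h * v * h⁻¹)⁻¹) : False := by
  have h1 : h * v * h⁻¹ ≠ 1 := CfsgLib.RankOneInvol.conj_ne_one
    (fun e => D.hq.ne_one (by rw [← D.hvq, e, orderOf_one])) h
  have h2 := D.hinv _ h1 (by rw [← MulAut.conj_apply, MulEquiv.orderOf_eq, D.hvq]; exact D.odd_q) hi
  have hm : h * s0 * h⁻¹ ∈ Subgroup.centralizer ({h * v * h⁻¹} : Set G) :=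
    Subgroup.mem_centralizer_singleton_iff.2 (by
      calc h * s0 * h⁻¹ * (h * v * h⁻¹) = h * (s0 * v) * h⁻¹ := by group
        _ = h * (v * s0) * h⁻¹ := by rw [D.hvs.eq]
        _ = _ := by group)
  have h3 : orderOf (h * s0 * h⁻¹) = 2 := by
    rw [← MulAut.conj_apply, MulEquiv.orderOf_eq]
    exact orderOf_eq_prime (by rw [pow_two, D.hss]) D.hs1
  exact h2.not_two_dvd_nat (h3 ▸ Subgroup.orderOf_dvd_natCard _ hm)

theorem exists_sylData : ∃ R W : Subgroup G, SylData v s0 z q B R W := by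
  classical
  haveI : Fact (Nat.Prime 2) := ⟨Nat.prime_two⟩
  set X1 := Subgroup.centralizer ({v} : Set G) with hX1
  set P := Subgroup.zpowers z with hP
  have hPc : Nat.card P = 2 ^ B := by rw [hP, Nat.card_zpowers, D.hzo]
  have hP2 : IsPGroup 2 P := IsPGroup.of_card hPc
  have hPX : P ≤ X1 := Subgroup.zpowers_le.2 (Subgroup.mem_centralizer_singleton_iff.2 D.hzv.eq)
  have hPcyc : IsCyclic P := Subgroup.isCyclic_zpowers z
  have hmodd : Odd ((2 ^ B + 1) * q) :=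
    (Even.add_one (by rw [Nat.even_pow]; exact ⟨even_two, by have := D.hB; omega⟩)).mul D.odd_q
  have hmem : ∀ {x : G}, x ∈ X1 → Commute x v := fun hx => Subgroup.mem_centralizer_singleton_iff.1 hx
  -- the invariant Sylow subgroup of the centraliser
  obtain ⟨O, hOX, hOc, hOn, hOm⟩ := exists_odd_part hPX hP2 hPcyc hmodd (by rw [hPc]; exact D.hcardX)
  obtain ⟨R, hRO, hRc, hPR⟩ := exists_sylow_normalized hOX hPX hOn (hOc.symm ▸ hmodd) hP2
    (by rw [hPc, hOc]; exact D.hcardX) q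
  have hzR : z ∈ Subgroup.normalizer (R : Set G) := hPR (Subgroup.mem_zpowers z)
  set e := ((2 ^ B + 1) * q).factorization q with he
  rw [hOc, ← he] at hRc
  have hev : e = (2 ^ B + 1).factorization q + 1 := by
    rw [he, Nat.factorization_mul (Nat.succ_ne_zero _) D.hq.ne_zero, Finsupp.add_apply,
      D.hq.factorization_self]
  have hf0 : 1 ≤ (2 ^ B + 1).factorization q :=
    (D.hq.dvd_iff_one_le_factorization (Nat.succ_ne_zero _)).1 D.hdvd
  have hRo : Odd (Nat.card R) := hRc ▸ D.odd_q.pow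
  have hRq : IsPGroup q R := IsPGroup.of_card hRc
  have hX1q : (Nat.card X1).factorization q = e := by
    have hq2 : ¬ q ∣ 2 ^ B := fun h => by
      have := (Nat.dvd_add_right h).1 D.hdvd
      exact D.hq.one_lt.ne' (Nat.dvd_one.1 this)
    rw [D.hcardX, Nat.factorization_mul (pow_ne_zero _ two_ne_zero) hmodd.pos.ne', Finsupp.add_apply,
      Nat.factorization_eq_zero_of_not_dvd hq2, zero_add, he]
  have hmax : ∀ S : Subgroup G, IsPGroup q S → S ≤ X1 → Nat.card S ≤ q ^ e := by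
    intro S hS hSX
    obtain ⟨k, hk⟩ := hS.exists_card_eq
    rw [hk]
    refine Nat.pow_le_pow_right D.hq.pos ?_
    rw [← hX1q]
    exact (D.hq.pow_dvd_iff_le_factorization Nat.card_pos.ne').1 (hk ▸ Subgroup.card_dvd_of_le hSX)
  have hvR : v ∈ R := by
    have hvn : Subgroup.zpowers v ≤ Subgroup.normalizer (R : Set G) ⊓ X1 := by
      refine Subgroup.zpowers_le.2 ⟨Subgroup.mem_normalizer_iff.2 fun r => ?_,
        Subgroup.mem_centralizer_singleton_iff.2 rfl⟩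
      constructor
      · intro hr
        rwa [← (hmem (hOX (hRO hr))).eq, mul_inv_cancel_right]
      · intro hr
        have h1 := (hmem (hOX (hRO hr))).eq
        rw [show v * r * v⁻¹ * v = v * r by group,
          show v * (v * r * v⁻¹) = v * (v * r) * v⁻¹ by group] at h1
        have h2 : v * r = r * v := by
          calc v * r = v⁻¹ * (v * (v * r) * v⁻¹) * v := by group
            _ = v⁻¹ * (v * r) * v := by rw [← h1]
            _ = r * v := by group
        rwa [h2, mul_inv_cancel_right] at hr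
    have hvq' : IsPGroup q (Subgroup.zpowers v) :=
      IsPGroup.of_card (n := 1) (by rw [Nat.card_zpowers, D.hvq, pow_one])
    have hsup := IsPGroup.to_sup_of_normal_left' hRq hvq' (hvn.trans inf_le_left)
    have := Subgroup.eq_of_le_of_card_ge (le_sup_left : R ≤ R ⊔ Subgroup.zpowers v)
      (hRc ▸ hmax _ hsup (sup_le (hRO.trans hOX) (hvn.trans inf_le_right)))
    exact this ▸ Subgroup.mem_sup_right (Subgroup.mem_zpowers v)
  have hRv : ∀ r ∈ R, Commute r v := fun r hr => hmem (hOX (hRO hr))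
  -- the normaliser of R
  set H := Subgroup.normalizer (R : Set G) with hH
  have hPH : P ≤ H := hPR
  have hs0P : s0 ∈ P := by
    have hz1 : z ^ 1 ≠ 1 := fun h => by
      have h1 := D.hzo
      rw [pow_one] at h
      rw [h, orderOf_one] at h1
      have := Nat.one_lt_two_pow (n := B) (by have := D.hB; omega)
      omega
    obtain ⟨m, hm⟩ := D.hpow 1 hz1
    rw [← hm]
    exact Subgroup.pow_mem _ (Subgroup.pow_mem _ (Subgroup.mem_zpowers z) _) _
  have hH2 : ∀ S : Subgroup G, IsPGroup 2 S → P ≤ S → S ≤ H → S = P := fun S hS hPS hSH =>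
    le_antisymm (fun x hx => D.htwo R hRo hvR x (hSH hx) (by
      obtain ⟨k, hk⟩ := hS ⟨x, hx⟩
      exact ⟨k, by simpa using congrArg Subtype.val hk⟩)
      (D.hQsyl S hS x hx s0 (hPS hs0P))) hPS
  obtain ⟨mH, hmH, hmHodd⟩ : ∃ m, Nat.card H = Nat.card P * m ∧ Odd m := by
    obtain ⟨m, hm⟩ := Subgroup.card_dvd_of_le hPH
    refine ⟨m, hm, ?_⟩
    by_contra heven
    obtain ⟨m', rfl⟩ := even_iff_two_dvd.1 (Nat.not_odd_iff_even.1 heven)
    obtain ⟨S, hSc, hPS⟩ := Sylow.exists_subgroup_card_pow_succ (G := H) (p := 2) (n := B)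
      ⟨m', by rw [hm, hPc, pow_succ]; ring⟩ (H := P.subgroupOf H)
      (by rw [Nat.card_congr (Subgroup.subgroupOfEquivOfLe hPH).toEquiv, hPc])
    have h1 := hH2 (S.map H.subtype) (IsPGroup.of_card (n := B + 1)
      (by rw [Subgroup.card_map_of_injective H.subtype_injective, hSc]))
      (fun x hx => ⟨⟨x, hPH hx⟩, hPS (Subgroup.mem_subgroupOf.2 hx), rfl⟩) (Subgroup.map_subtype_le S)
    have h2 : Nat.card (S.map H.subtype) = 2 ^ (B + 1) := by
      rw [Subgroup.card_map_of_injective H.subtype_injective, hSc]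
    rw [h1, hPc] at h2
    exact absurd (Nat.pow_right_injective le_rfl h2) (by omega)
  obtain ⟨O', hO'H, hO'c, hO'n, hO'm⟩ := exists_odd_part hPH hP2 hPcyc hmHodd hmH
  obtain ⟨W, hWO, hWc, hPW⟩ := exists_sylow_normalized hO'H hPH hO'n (hO'c.symm ▸ hmHodd) hP2
    (by rw [hO'c]; exact hmH) q
  rw [hO'c] at hWc
  have hzW : z ∈ Subgroup.normalizer (W : Set G) := hPW (Subgroup.mem_zpowers z)
  -- R ≤ W and W is a Sylow subgroup of G
  have hWH : W ≤ H := hWO.trans hO'H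
  have hWmax : ∀ S : Subgroup G, IsPGroup q S → S ≤ H → Nat.card S ≤ Nat.card W := by
    intro S hS hSH
    obtain ⟨k, hk⟩ := hS.exists_card_eq
    have hSO : S ≤ O' := fun x hx => hO'm x (hSH hx)
      ((hk ▸ D.odd_q.pow : Odd (Nat.card S)).of_dvd_nat (Subgroup.orderOf_dvd_natCard S hx))
    rw [hWc, hk]
    refine Nat.pow_le_pow_right D.hq.pos ?_
    exact (D.hq.pow_dvd_iff_le_factorization hmHodd.pos.ne').1
      (hk ▸ hO'c ▸ Subgroup.card_dvd_of_le hSO)
  have hWq : IsPGroup q W := IsPGroup.of_card hWc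
  have hRW : R ≤ W := by
    have hsup := IsPGroup.to_sup_of_normal_left' hRq hWq hWH
    have := Subgroup.eq_of_le_of_card_ge (le_sup_right : W ≤ R ⊔ W)
      (hWmax _ hsup (sup_le Subgroup.le_normalizer hWH))
    exact this ▸ le_sup_left
  have hGq : (Nat.card G).factorization q = e + 1 := by rw [D.hcardG, hev]
  have hWbig : q ^ (e + 1) ≤ Nat.card W := by
    obtain ⟨T, hT⟩ := hRq.exists_le_sylow
    have hTc : Nat.card (T : Subgroup G) = q ^ (e + 1) := by rw [T.card_eq_multiplicity, hGq]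
    have hidx : (R.subgroupOf (T : Subgroup G)).index = q := by
      have h := (R.subgroupOf (T : Subgroup G)).card_mul_index
      rw [Nat.card_congr (Subgroup.subgroupOfEquivOfLe hT).toEquiv, hRc, hTc, pow_succ] at h
      exact Nat.eq_of_mul_eq_mul_left (pow_pos D.hq.pos e) h
    have hn : (R.subgroupOf (T : Subgroup G)).Normal := Subgroup.normal_of_index_eq_minFac_card (by
      rw [hidx, hTc, Nat.pow_minFac (Nat.succ_ne_zero e), D.hq.minFac_eq])
    rw [← hTc]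
    exact hWmax _ T.2 ((Subgroup.normal_subgroupOf_iff_le_normalizer hT).1 hn)
  have hWc' : Nat.card W = q ^ (e + 1) := by
    refine le_antisymm ?_ hWbig
    obtain ⟨k, hk⟩ := hWq.exists_card_eq
    rw [hk]
    refine Nat.pow_le_pow_right D.hq.pos ?_
    rw [← hGq]
    exact (D.hq.pow_dvd_iff_le_factorization Nat.card_pos.ne').1 (hk ▸ Subgroup.card_subgroup_dvd_card W)
  have hsyl : ¬ q ∣ W.index := fun h => by
    have h1 : q ^ (e + 1 + 1) ∣ Nat.card G := by
      rw [← W.card_mul_index, hWc', pow_succ]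
      exact Nat.mul_dvd_mul_left _ h
    have := (D.hq.pow_dvd_iff_le_factorization Nat.card_pos.ne').1 h1
    omega
  -- an element moving v
  obtain ⟨g, hgW, hgv⟩ : ∃ g ∈ W, ¬ Commute g v := by
    by_contra h
    push Not at h
    have := hmax W hWq fun x hx => Subgroup.mem_centralizer_singleton_iff.2 (h x hx).eq
    rw [hWc'] at this
    exact absurd this (not_le.2 (Nat.pow_lt_pow_right D.hq.one_lt (by omega)))
  have hgR : g * v * g⁻¹ ∈ R := (Subgroup.mem_normalizer_iff.1 (hWH hgW) v).1 hvR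
  have hgV : g * v * g⁻¹ ∉ Subgroup.zpowers v := fun h => by
    obtain ⟨i, hi⟩ := D.zpowers_v _ h
    exact hgv (mul_inv_eq_iff_eq_mul.1 (D.hfus g i hi))
  -- the z-orbit
  have hsemi : ∀ r ∈ R, r ∉ Subgroup.zpowers v → ∀ i < 2 ^ B, ∀ j < 2 ^ B, i ≠ j →
      (z ^ i * r * (z ^ i)⁻¹) * (z ^ j * r * (z ^ j)⁻¹)⁻¹ ∉ Subgroup.zpowers v := by
    intro r hr hrV i hi j hj hij h
    wlog hle : i ≤ j generalizing i j
    · refine this j hj i hi hij.symm ?_ (le_of_not_ge hle)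
      simpa [mul_assoc] using inv_mem h
    obtain ⟨m, rfl⟩ := Nat.exists_eq_add_of_le hle
    have hm : z ^ m ≠ 1 := fun e' => by
      have := Nat.le_of_dvd (Nat.pos_of_ne_zero (by omega)) (D.hzo ▸ orderOf_dvd_of_pow_eq_one e')
      omega
    obtain ⟨k, hk⟩ := D.zpowers_v _ h
    refine hrV (D.semireg (hRv r hr) (CfsgLib.RankOneInvol.odd_orderOf_of_mem hRo hr) hm
      (i := orderOf v * k - k) ?_)
    have hvi : v ^ (orderOf v * k - k) = (v ^ k)⁻¹ := eq_inv_of_mul_eq_one_left (by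
      rw [← pow_add, Nat.sub_add_cancel (Nat.le_mul_of_pos_left k (orderOf_pos v)), pow_mul,
        pow_orderOf_eq_one, one_pow])
    have e1 : z ^ m * r * (z ^ m)⁻¹ = (z ^ i)⁻¹ * (v ^ k)⁻¹ * (z ^ i) * r := by
      rw [← hk, pow_add]
      group
    rw [e1, hvi, ((D.hzv.pow_left i).inv_left.pow_right k).inv_right.eq, mul_assoc (v ^ k)⁻¹,
      inv_mul_cancel, mul_one]
    exact ((hRv r hr).pow_right k).inv_right.symm.eq
  -- the conjugates of v under W
  set Rw := R.subgroupOf W with hRw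
  have hidxW : Rw.index = q := by
    have h := Rw.card_mul_index
    rw [hRw, Nat.card_congr (Subgroup.subgroupOfEquivOfLe hRW).toEquiv, hRc, hWc', pow_succ] at h
    exact Nat.eq_of_mul_eq_mul_left (pow_pos D.hq.pos e) h
  let f : W ⧸ Rw → G := Quotient.lift (fun x : W => (x : G) * v * (x : G)⁻¹) fun x y h => by
    have h1 : ((x⁻¹ * y : W) : G) ∈ R := (QuotientGroup.leftRel_apply (s := Rw)).1 h
    have h2 := (hRv _ h1).eq
    calc (x : G) * v * (x : G)⁻¹ = x * (v * ((x⁻¹ * y : W) : G)) * ((x⁻¹ * y : W) : G)⁻¹ * (x : G)⁻¹ := by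
          group
      _ = x * (((x⁻¹ * y : W) : G) * v) * ((x⁻¹ * y : W) : G)⁻¹ * (x : G)⁻¹ := by rw [h2]
      _ = (y : G) * v * (y : G)⁻¹ := by simp only [Subgroup.coe_mul, Subgroup.coe_inv]; group
  have hrange : ∀ x ∈ W, x * v * x⁻¹ ∈ Set.range f := fun x hx => ⟨QuotientGroup.mk ⟨x, hx⟩, rfl⟩
  have hnc : (Set.range f).ncard ≤ q := by
    rw [← hidxW, Subgroup.index_eq_card, ← Nat.card_coe_set_eq]
    exact Finite.card_range_le f
  let F : Option (Fin (2 ^ B)) → G := fun o =>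
    o.elim v fun i => z ^ (i : ℕ) * (g * v * g⁻¹) * (z ^ (i : ℕ))⁻¹
  have hFmem : ∀ o, F o ∈ Set.range f := by
    rintro (_ | i)
    · show v ∈ _
      simpa using hrange 1 W.one_mem
    · have hzi : z ^ (i : ℕ) ∈ Subgroup.normalizer (W : Set G) := Subgroup.pow_mem _ hzW _
      have h1 := hrange _ ((Subgroup.mem_normalizer_iff.1 hzi g).1 hgW)
      show z ^ (i : ℕ) * (g * v * g⁻¹) * (z ^ (i : ℕ))⁻¹ ∈ _
      convert h1 using 1
      have hzc := (D.hzv.pow_left (i : ℕ)).eq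
      calc z ^ (i : ℕ) * (g * v * g⁻¹) * (z ^ (i : ℕ))⁻¹
          = z ^ (i : ℕ) * g * (v * (z ^ (i : ℕ))⁻¹ * z ^ (i : ℕ)) * g⁻¹ * (z ^ (i : ℕ))⁻¹ := by group
        _ = z ^ (i : ℕ) * g * ((z ^ (i : ℕ))⁻¹ * v * z ^ (i : ℕ)) * g⁻¹ * (z ^ (i : ℕ))⁻¹ := by
            rw [((D.hzv.pow_left (i : ℕ)).inv_left).eq]
        _ = _ := by group
  have hFinj : Function.Injective F := by
    have hi1 : ∀ i : Fin (2 ^ B), z ^ (i : ℕ) * (g * v * g⁻¹) * (z ^ (i : ℕ))⁻¹ ≠ v := fun i h => by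
      refine hgV ?_
      have : g * v * g⁻¹ = v := by
        calc g * v * g⁻¹ = (z ^ (i : ℕ))⁻¹ *
              (z ^ (i : ℕ) * (g * v * g⁻¹) * (z ^ (i : ℕ))⁻¹) * z ^ (i : ℕ) := by group
          _ = v := by rw [h, ((D.hzv.pow_left (i : ℕ)).inv_left).eq, inv_mul_cancel_right]
      rw [this]
      exact Subgroup.mem_zpowers v
    rintro (_ | i) (_ | j) h
    · rfl
    · exact absurd (show z ^ (j : ℕ) * (g * v * g⁻¹) * (z ^ (j : ℕ))⁻¹ = v from h.symm) (hi1 j)
    · exact absurd (show z ^ (i : ℕ) * (g * v * g⁻¹) * (z ^ (i : ℕ))⁻¹ = v from h) (hi1 i)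
    · by_contra hne
      refine hsemi _ hgR hgV i i.2 j j.2 (fun e' => hne (congrArg some (Fin.ext e'))) ?_
      rw [show z ^ (i : ℕ) * (g * v * g⁻¹) * (z ^ (i : ℕ))⁻¹ =
        z ^ (j : ℕ) * (g * v * g⁻¹) * (z ^ (j : ℕ))⁻¹ from h, mul_inv_cancel]
      exact one_mem _
  have hq5 : q = 2 ^ B + 1 := by
    refine le_antisymm (Nat.le_of_dvd (Nat.succ_pos _) D.hdvd) (le_trans ?_ hnc)
    calc 2 ^ B + 1 = Nat.card (Option (Fin (2 ^ B))) := by rw [Finite.card_option, Nat.card_fin]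
      _ = (Set.range F).ncard := by rw [← Nat.card_range_of_injective hFinj, Nat.card_coe_set_eq]
      _ ≤ _ := Set.ncard_le_ncard (by rintro _ ⟨o, rfl⟩; exact hFmem o) (Set.toFinite _)
  have he2 : e = 2 := by
    rw [hev, ← hq5, D.hq.factorization_self]
  rw [he2] at hRc hWc' hmax
  -- R is abelian, and the inverted part
  haveI := IsPGroup.isMulCommutative_of_card_eq_prime_sq (p := q) (G := R) hRc
  have hRcomm : ∀ x ∈ R, ∀ y ∈ R, x * y = y * x := fun x hx y hy =>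
    congrArg Subtype.val (mul_comm' (⟨x, hx⟩ : R) ⟨y, hy⟩)
  have hs0R : ∀ r ∈ R, s0 * r * s0 ∈ R := fun r hr => by
    have h1 := (Subgroup.mem_normalizer_iff.1 (hPH hs0P) r).1 hr
    rwa [D.s0_inv] at h1
  let I : Subgroup G :=
    { carrier := {r | r ∈ R ∧ s0 * r * s0 = r⁻¹}
      one_mem' := ⟨R.one_mem, by rw [mul_one, D.hss, inv_one]⟩
      mul_mem' := fun {x y} hx hy => ⟨R.mul_mem hx.1 hy.1, by
        rw [show s0 * (x * y) * s0 = s0 * x * (s0 * s0) * y * s0 by rw [D.hss]; group,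
          show s0 * x * (s0 * s0) * y * s0 = (s0 * x * s0) * (s0 * y * s0) by group, hx.2, hy.2,
          mul_inv_rev, hRcomm _ (R.inv_mem hx.1) _ (R.inv_mem hy.1)]⟩
      inv_mem' := fun {x} hx => ⟨R.inv_mem hx.1, by
        rw [show s0 * x⁻¹ * s0 = (s0 * x * s0)⁻¹ by rw [mul_inv_rev, mul_inv_rev, D.s0_inv, mul_assoc],
          hx.2]⟩ }
  have hIV : ∀ x ∈ I, x ∈ Subgroup.zpowers v → x = 1 := fun x hx hxV => by
    obtain ⟨i, rfl⟩ := D.zpowers_v x hxV
    refine CfsgLib.RankOneInvol.eq_one_of_sq_of_odd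
      (D.odd_q.of_dvd_nat (D.hvq ▸ orderOf_pow_dvd (x := v) i)) (eq_inv_iff_mul_eq_one.1 ?_)
    rw [← hx.2, (D.hvs.symm.pow_right i).eq, mul_assoc, D.hss, mul_one]
  have hdec : ∀ r ∈ R, ∃ (k : ℕ) (w : G), w ∈ I ∧ r = v ^ k * w := by
    intro r hr
    obtain ⟨y, w, hy, hyf, hw, hwi, rfl⟩ := CfsgLib.RankOneInvol.exists_fixed_mul_inverted hRo D.hss hs0R hr
    obtain ⟨k, rfl⟩ := D.zpowers_v y (D.hfix y (hRv y hy)
      (CfsgLib.RankOneInvol.odd_orderOf_of_mem hRo hy) (by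
        show y * s0 = s0 * y
        calc y * s0 = s0 * y * s0 * s0 := by rw [hyf]
          _ = s0 * y := by rw [mul_assoc, D.hss, mul_one]))
    exact ⟨k, w, ⟨hw, hwi⟩, rfl⟩
  have hwq : ∀ {x : G}, x ∈ R → x ∉ Subgroup.zpowers v → x ≠ 1 := fun _ hn e' =>
    hn (e' ▸ one_mem _)
  obtain ⟨k0, w0, hw0, he0⟩ := hdec _ hgR
  have hw01 : w0 ≠ 1 := fun e' => hgV (by
    rw [he0, e', mul_one]; exact Subgroup.pow_mem _ (Subgroup.mem_zpowers v) _)
  have hk0 : ¬ q ∣ k0 := fun hd => by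
    have hvk : v ^ k0 = 1 := orderOf_dvd_iff_pow_eq_one.1 (D.hvq.symm ▸ hd)
    rw [hvk, one_mul] at he0
    exact D.not_inverted_conj (h := g) (he0 ▸ hw0.2)
  have hconj0 : ∀ j : ℕ, ∃ x : G, x * v * x⁻¹ = v ^ k0 * (z ^ j * w0 * (z ^ j)⁻¹) := fun j => by
    refine ⟨z ^ j * g, ?_⟩
    calc z ^ j * g * v * (z ^ j * g)⁻¹ = z ^ j * (g * v * g⁻¹) * (z ^ j)⁻¹ := by group
      _ = (z ^ j * v ^ k0) * w0 * (z ^ j)⁻¹ := by rw [he0]; group
      _ = _ := by rw [((D.hzv.pow_left j).pow_right k0).eq]; group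
  have hIz : ∀ j : ℕ, ∀ w ∈ I, z ^ j * w * (z ^ j)⁻¹ ∈ I := fun j w hw => by
    refine ⟨(Subgroup.mem_normalizer_iff.1 (Subgroup.pow_mem _ hzR j) w).1 hw.1, ?_⟩
    have hc : Commute (z ^ j) s0 := D.hzs.pow_left j
    calc s0 * (z ^ j * w * (z ^ j)⁻¹) * s0 = (s0 * z ^ j) * w * ((z ^ j)⁻¹ * s0) := by group
      _ = (z ^ j * s0) * w * (s0 * (z ^ j)⁻¹) := by rw [hc.symm.eq, hc.inv_left.eq]
      _ = z ^ j * (s0 * w * s0) * (z ^ j)⁻¹ := by group
      _ = (z ^ j * w * (z ^ j)⁻¹)⁻¹ := by rw [hw.2]; group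
  have hIc : Nat.card I ≤ q := by
    by_contra hlt
    have hd : Nat.card I ∣ q ^ 2 := hRc ▸ Subgroup.card_dvd_of_le (fun x hx => hx.1)
    obtain ⟨i, hi, hic⟩ := (Nat.dvd_prime_pow D.hq).1 hd
    have h2 : Nat.card I = Nat.card R := by
      rw [hRc, hic]
      rcases (show i = 0 ∨ i = 1 ∨ i = 2 by omega) with rfl | rfl | rfl
      · rw [hic, pow_zero] at hlt; exact absurd D.hq.one_le hlt
      · rw [hic, pow_one] at hlt; exact absurd le_rfl hlt
      · rfl
    have h3 := Subgroup.eq_of_le_of_card_ge (fun x hx => hx.1 : I ≤ R) h2.ge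
    have hv1 : v = 1 := hIV v (h3.symm ▸ hvR) (Subgroup.mem_zpowers v)
    exact D.hq.ne_one (by rw [← D.hvq, hv1, orderOf_one])
  have hItrans : ∀ w ∈ I, w ≠ 1 → ∃ j : ℕ, z ^ j * w0 * (z ^ j)⁻¹ = w := by
    intro w hw hw1
    let T : Fin (2 ^ B) → {x : I // x ≠ 1} := fun i =>
      ⟨⟨z ^ (i : ℕ) * w0 * (z ^ (i : ℕ))⁻¹, hIz i w0 hw0⟩, fun e' =>
        CfsgLib.RankOneInvol.conj_ne_one hw01 (z ^ (i : ℕ)) (congrArg Subtype.val e')⟩
    have hTinj : Function.Injective T := by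
      intro i j h
      by_contra hne
      refine hsemi w0 hw0.1 (fun hV => hw01 (hIV w0 hw0 hV)) i i.2 j j.2 (fun e' => hne (Fin.ext e')) ?_
      rw [show z ^ (i : ℕ) * w0 * (z ^ (i : ℕ))⁻¹ = z ^ (j : ℕ) * w0 * (z ^ (j : ℕ))⁻¹ from
        congrArg (fun x : {x : I // x ≠ 1} => ((x : I) : G)) h, mul_inv_cancel]
      exact one_mem _
    have hcard : Nat.card {x : I // x ≠ 1} ≤ Nat.card (Fin (2 ^ B)) := by
      have h1 : Nat.card {x : I // x ≠ 1} = ({1}ᶜ : Set I).ncard := Nat.card_coe_set_eq _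
      have h2 := Set.ncard_add_ncard_compl ({1} : Set I)
      rw [Set.ncard_singleton] at h2
      rw [Nat.card_fin]
      omega
    have hb := (Nat.bijective_iff_injective_and_card T).2
      ⟨hTinj, le_antisymm (Nat.card_le_card_of_injective T hTinj) hcard⟩
    obtain ⟨i, hi⟩ := hb.2 ⟨⟨w, hw⟩, fun e' => hw1 (congrArg Subtype.val e')⟩
    exact ⟨i, congrArg (fun x : {x : I // x ≠ 1} => ((x : I) : G)) hi⟩
  -- conjugates of powers
  have hpowconj : ∀ k : ℕ, ∀ w ∈ I, ¬ q ∣ k → ∃ x : G, x * v ^ k * x⁻¹ = v ^ k0 ^ 0 * (v ^ (k * k0) * w) * (v ^ k0 ^ 0)⁻¹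
      ∨ w = 1 := by
    intro k w hw hk
    by_cases hw1 : w = 1
    · exact ⟨1, Or.inr hw1⟩
    obtain ⟨w', hw', hwk⟩ : ∃ w' ∈ I, w' ^ k = w := by
      obtain ⟨n, hn⟩ := exists_pow_eq_self_of_coprime (x := w) (n := k)
        ((Nat.Coprime.pow_right 2 ((D.hq.coprime_iff_not_dvd.2 hk).symm)).coprime_dvd_right
          (hRc ▸ Subgroup.orderOf_dvd_natCard R hw.1))
      exact ⟨w ^ n, I.pow_mem hw n, by rw [← pow_mul, mul_comm, pow_mul]; exact hn⟩
    have hw'1 : w' ≠ 1 := fun e' => hw1 (by rw [← hwk, e', one_pow])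
    obtain ⟨j, hj⟩ := hItrans w' hw' hw'1
    obtain ⟨x, hx⟩ := hconj0 j
    rw [hj] at hx
    refine ⟨x, Or.inl ?_⟩
    have hc : Commute (v ^ k0) w' := ((hRv w' hw'.1).symm.pow_left k0)
    have hc2 : Commute v (v ^ (k * k0) * w) := (Commute.self_pow v _).mul_right (hRv w hw.1).symm
    rw [pow_zero, pow_one, hc2.eq, mul_inv_cancel_right, ← hwk, mul_comm k k0, pow_mul, ← hc.mul_pow,
      ← hx, ← conj_pow]
  have heven : ∀ k : ℕ, ∀ w ∈ I, ¬ q ∣ k → Even (Nat.card (Subgroup.centralizer ({v ^ k * w} : Set G))) := by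
    intro k w hw hk
    obtain ⟨m, hm⟩ : ∃ m, ¬ q ∣ m ∧ v ^ (m * k0) = v ^ k := by
      obtain ⟨n, hn⟩ := exists_pow_eq_self_of_coprime (x := v) (n := k0)
        (by rw [D.hvq]; exact (D.hq.coprime_iff_not_dvd.2 hk0).symm)
      refine ⟨k * n, fun hd => ?_, ?_⟩
      · rcases D.hq.dvd_mul.1 hd with h | h
        · exact hk h
        · obtain ⟨c, rfl⟩ := h
          rw [pow_mul, ← pow_mul v k0, mul_comm k0, pow_mul, ← D.hvq, pow_orderOf_eq_one, one_pow] at hn
          exact D.hq.ne_one (by rw [← D.hvq, ← hn, one_pow, orderOf_one])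
      · rw [mul_assoc, mul_comm k, pow_mul, mul_comm n k0, pow_mul v k0 n, hn]
    obtain ⟨x, hx⟩ := hpowconj m w hw hm.1
    have hwit : ∃ x : G, x * v ^ m * x⁻¹ = v ^ k * w ∨ w = 1 := by
      refine ⟨x, hx.imp_left fun h => ?_⟩
      have hc2 : Commute v (v ^ (m * k0) * w) := (Commute.self_pow v _).mul_right (hRv w hw.1).symm
      rw [h, pow_zero, pow_one, hc2.eq, mul_inv_cancel_right, hm.2]
    obtain ⟨x, hx⟩ := hwit
    have hs : ∃ y : G, orderOf y = 2 ∧ Commute y (v ^ k * w) := by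
      have ho : orderOf s0 = 2 := orderOf_eq_prime (by rw [pow_two, D.hss]) D.hs1
      rcases hx with h | h
      · refine ⟨x * s0 * x⁻¹, by rw [← MulAut.conj_apply, MulEquiv.orderOf_eq, ho], ?_⟩
        show _ = _
        rw [← h]
        calc x * s0 * x⁻¹ * (x * v ^ m * x⁻¹) = x * (s0 * v ^ m) * x⁻¹ := by group
          _ = x * (v ^ m * s0) * x⁻¹ := by rw [(D.hvs.symm.pow_right m).eq]
          _ = _ := by group
      · exact ⟨s0, ho, by rw [h, mul_one]; exact D.hvs.symm.pow_right k⟩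
    obtain ⟨y, hy, hyc⟩ := hs
    exact even_iff_two_dvd.2 (hy ▸ Subgroup.orderOf_dvd_natCard _
      (Subgroup.mem_centralizer_singleton_iff.2 hyc.eq))
  -- the normaliser preserves I
  have hI : ∀ h ∈ H, ∀ w ∈ I, h * w * h⁻¹ ∈ I := by
    intro h hh w hw
    by_cases hw1 : w = 1
    · rw [hw1, mul_one, mul_inv_cancel]; exact I.one_mem
    have hwR : h * w * h⁻¹ ∈ R := (Subgroup.mem_normalizer_iff.1 hh w).1 hw.1
    obtain ⟨k, w', hw', e'⟩ := hdec _ hwR
    by_cases hk : q ∣ k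
    · have hvk : v ^ k = 1 := orderOf_dvd_iff_pow_eq_one.1 (D.hvq.symm ▸ hk)
      rw [e', hvk, one_mul]; exact hw'
    exfalso
    have h1 := heven k w' hw' hk
    rw [← e'] at h1
    have h2 : Nat.card (Subgroup.centralizer ({h * w * h⁻¹} : Set G)) =
        Nat.card (Subgroup.centralizer ({w} : Set G)) := by
      refine Nat.card_congr
        { toFun := fun x => ⟨h⁻¹ * x * h, Subgroup.mem_centralizer_singleton_iff.2 ?_⟩
          invFun := fun x => ⟨h * x * h⁻¹, Subgroup.mem_centralizer_singleton_iff.2 ?_⟩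
          left_inv := fun x => Subtype.ext (by show h * (h⁻¹ * (x : G) * h) * h⁻¹ = x; group)
          right_inv := fun x => Subtype.ext (by show h⁻¹ * (h * (x : G) * h⁻¹) * h = x; group) }
      · have hx := Subgroup.mem_centralizer_singleton_iff.1 x.2
        calc h⁻¹ * (x : G) * h * w = h⁻¹ * ((x : G) * (h * w * h⁻¹)) * h := by group
          _ = h⁻¹ * ((h * w * h⁻¹) * x) * h := by rw [hx]
          _ = _ := by group
      · have hx := Subgroup.mem_centralizer_singleton_iff.1 x.2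
        calc h * (x : G) * h⁻¹ * (h * w * h⁻¹) = h * ((x : G) * w) * h⁻¹ := by group
          _ = h * (w * x) * h⁻¹ := by rw [hx]
          _ = _ := by group
    rw [h2] at h1
    exact Nat.not_even_iff_odd.2
      (D.hinv w hw1 (CfsgLib.RankOneInvol.odd_orderOf_of_mem hRo hw.1) hw.2) h1
  -- k0 = 1
  have hiter : ∀ j : ℕ, ∃ w ∈ I, g ^ j * v * (g ^ j)⁻¹ = v ^ k0 ^ j * w := by
    intro j
    induction j with
    | zero => exact ⟨1, I.one_mem, by simp⟩
    | succ j ih =>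
      obtain ⟨w, hw, e'⟩ := ih
      refine ⟨w0 ^ k0 ^ j * (g * w * g⁻¹), I.mul_mem (I.pow_mem hw0 _) (hI g (hWH hgW) w hw), ?_⟩
      calc g ^ (j + 1) * v * (g ^ (j + 1))⁻¹ = g * (g ^ j * v * (g ^ j)⁻¹) * g⁻¹ := by
            rw [pow_succ']; group
        _ = (g * v * g⁻¹) ^ k0 ^ j * (g * w * g⁻¹) := by rw [e', conj_pow]; group
        _ = v ^ k0 ^ (j + 1) * (w0 ^ k0 ^ j * (g * w * g⁻¹)) := by
            rw [he0, ((hRv w0 hw0.1).symm.pow_left k0).mul_pow, ← pow_mul, ← pow_succ', mul_assoc]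
  have hk01 : v ^ k0 = v := by
    obtain ⟨l, hl⟩ := hWq ⟨g, hgW⟩
    have hgl : g ^ q ^ l = 1 := by simpa using congrArg Subtype.val hl
    obtain ⟨w, hw, e'⟩ := hiter (q ^ l)
    rw [hgl, one_mul, inv_one, mul_one] at e'
    have hw2 : w = (v ^ k0 ^ q ^ l)⁻¹ * v :=
      calc w = (v ^ k0 ^ q ^ l)⁻¹ * (v ^ k0 ^ q ^ l * w) := (inv_mul_cancel_left _ _).symm
        _ = _ := by rw [← e']
    have hwV : w ∈ Subgroup.zpowers v := hw2 ▸ Subgroup.mul_mem _
      (Subgroup.inv_mem _ (Subgroup.pow_mem _ (Subgroup.mem_zpowers v) _)) (Subgroup.mem_zpowers v)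
    rw [hIV w hw hwV, mul_one] at e'
    exact pow_eq_self_of_pow D.hvq e'.symm
  rw [hk01] at he0 hconj0
  have hconj1 : ∀ w ∈ I, ∃ x : G, x * v * x⁻¹ = v * w := fun w hw => by
    by_cases hw1 : w = 1
    · exact ⟨1, by rw [hw1]; group⟩
    obtain ⟨j, hj⟩ := hItrans w hw hw1
    obtain ⟨x, hx⟩ := hconj0 j
    exact ⟨x, hj ▸ hx⟩
  have hvconj : ∀ h ∈ H, ∃ w ∈ I, h * v * h⁻¹ = v * w := by
    intro h hh
    obtain ⟨k, w, hw, e'⟩ := hdec _ ((Subgroup.mem_normalizer_iff.1 hh v).1 hvR)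
    by_cases hk : q ∣ k
    · exfalso
      have hvk : v ^ k = 1 := orderOf_dvd_iff_pow_eq_one.1 (D.hvq.symm ▸ hk)
      rw [hvk, one_mul] at e'
      exact D.not_inverted_conj (h := h) (by rw [e']; exact hw.2)
    by_cases hw1 : w = 1
    · rw [hw1, mul_one] at e'
      exact ⟨1, I.one_mem, by rw [D.hfus h k e', mul_one]⟩
    obtain ⟨w', hw', hwk⟩ : ∃ w' ∈ I, w' ^ k = w := by
      obtain ⟨n, hn⟩ := exists_pow_eq_self_of_coprime (x := w) (n := k)
        ((Nat.Coprime.pow_right 2 ((D.hq.coprime_iff_not_dvd.2 hk).symm)).coprime_dvd_right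
          (hRc ▸ Subgroup.orderOf_dvd_natCard R hw.1))
      exact ⟨w ^ n, I.pow_mem hw n, by rw [← pow_mul, mul_comm, pow_mul]; exact hn⟩
    obtain ⟨x, hx⟩ := hconj1 w' hw'
    have hxk : x * v ^ k * x⁻¹ = v ^ k * w := by
      rw [← conj_pow, hx, ((hRv w' hw'.1).symm).mul_pow, hwk]
    have hf := D.hfus (x⁻¹ * h) k (by
      calc x⁻¹ * h * v * (x⁻¹ * h)⁻¹ = x⁻¹ * (h * v * h⁻¹) * x := by group
        _ = x⁻¹ * (x * v ^ k * x⁻¹) * x := by rw [e', ← hxk]
        _ = v ^ k := by group)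
    have hvk : v ^ k = v := by
      calc v ^ k = x⁻¹ * (x * v ^ k * x⁻¹) * x := by group
        _ = x⁻¹ * (h * v * h⁻¹) * x := by rw [hxk, e']
        _ = x⁻¹ * h * v * (x⁻¹ * h)⁻¹ := by group
        _ = v := hf
    exact ⟨w, hw, by rw [e', hvk]⟩
  -- the order of H
  set Hv := X1.subgroupOf H with hHv
  have hHle : Nat.card H ≤ q * (2 ^ B * ((2 ^ B + 1) * q)) := by
    have h1 : Hv.index ≤ q := by
      refine le_trans ?_ hIc
      rw [Subgroup.index_eq_card]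
      let F' : H ⧸ Hv → I := fun c => ⟨v⁻¹ * ((c.out : G) * v * (c.out : G)⁻¹), by
        obtain ⟨w, hw, e'⟩ := hvconj _ c.out.2
        rw [e', inv_mul_cancel_left]; exact hw⟩
      refine Nat.card_le_card_of_injective F' fun c c' h => ?_
      rw [← c.out_eq', ← c'.out_eq', QuotientGroup.eq]
      have h2 : (c.out : G) * v * (c.out : G)⁻¹ = (c'.out : G) * v * (c'.out : G)⁻¹ :=
        mul_left_cancel (congrArg Subtype.val h :)
      refine Subgroup.mem_subgroupOf.2 (Subgroup.mem_centralizer_singleton_iff.2 ?_)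
      show (c.out : G)⁻¹ * (c'.out : G) * v = v * ((c.out : G)⁻¹ * (c'.out : G))
      calc (c.out : G)⁻¹ * (c'.out : G) * v
          = (c.out : G)⁻¹ * ((c'.out : G) * v * (c'.out : G)⁻¹) * (c'.out : G) := by group
        _ = (c.out : G)⁻¹ * ((c.out : G) * v * (c.out : G)⁻¹) * (c'.out : G) := by rw [h2]
        _ = _ := by group
    rw [← Hv.card_mul_index, mul_comm, ← D.hcardX]
    exact Nat.mul_le_mul h1 (Nat.card_le_card_of_injective
      (fun x : Hv => (⟨((x : H) : G), x.2⟩ : X1))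
      fun x y h => Subtype.ext (Subtype.ext (congrArg Subtype.val h :)))
  refine ⟨R, W, ⟨hq5, hvR, hRv, hRc, hWc', hRW, hsyl, hzR, hzW, ⟨g, hgW, hgv⟩, fun h hh => ?_,
    fun h hh => ?_, hWH⟩⟩
  · obtain ⟨w, hw, e'⟩ := hvconj h hh
    exact ⟨w, hw.1, e', hw.2⟩
  · let T : P × W → H := fun p => ⟨(p.1 : G) * p.2, H.mul_mem (hPH p.1.2) (hWH p.2.2)⟩
    have hTinj : Function.Injective T := by
      intro p p' h
      have h1 : (p'.1 : G)⁻¹ * p.1 = (p'.2 : G) * (p.2 : G)⁻¹ := by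
        have h2 : (p.1 : G) * p.2 = (p'.1 : G) * p'.2 := congrArg Subtype.val h
        calc (p'.1 : G)⁻¹ * p.1 = (p'.1 : G)⁻¹ * ((p.1 : G) * p.2) * (p.2 : G)⁻¹ := by group
          _ = _ := by rw [h2]; group
      have h3 : (p'.1 : G)⁻¹ * p.1 = 1 := orderOf_eq_one_iff.1 (Nat.eq_one_of_dvd_coprimes
        (Nat.Coprime.pow_left B (Nat.coprime_two_left.2 (hWc' ▸ D.odd_q.pow)))
        (hPc ▸ Subgroup.orderOf_dvd_natCard P (P.mul_mem (P.inv_mem p'.1.2) p.1.2))
        (h1 ▸ Subgroup.orderOf_dvd_natCard W (W.mul_mem p'.2.2 (W.inv_mem p.2.2))))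
      exact Prod.ext (Subtype.ext (inv_mul_eq_one.1 h3).symm)
        (Subtype.ext (mul_inv_eq_one.1 (h1 ▸ h3)).symm)
    have hb := (Nat.bijective_iff_injective_and_card T).2 ⟨hTinj,
      le_antisymm (Nat.card_le_card_of_injective T hTinj) (hHle.trans (le_of_eq (by
        rw [Nat.card_prod, hPc, hWc', hq5]; ring)))⟩
    obtain ⟨⟨p, x⟩, hpx⟩ := hb.2 ⟨h, hh⟩
    obtain ⟨j, hj⟩ := (isOfFinOrder_of_finite z).mem_zpowers_iff_mem_range_orderOf.1 p.2 |> Finset.mem_image.1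
    exact ⟨x, x.2, j, by rw [hj.2]; exact (congrArg Subtype.val hpx).symm⟩

end CentData

end CfsgLib.SylTwoAbel
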