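import Mathlib
import Cfsg.Agent.Lib.SylTwoAbel.Sylow
import Cfsg.Agent.Lib.H82.TransferFix
import Cfsg.Agent.Lib.Coprime.Action

/-!
The transfer into a quotient of order `q` of the Sylow `q`-subgroup of the configuration is not
trivial on `v`.
-/

set_option autoImplicit false
set_option linter.style.haveILetI false
set_option linter.unusedSectionVars false

namespace CfsgLib.SylTwoAbel

universe u

variable {G : Type u} [Group G] [Finite G] {v s0 z : G} {q B : ℕ} [hqF : Fact q.Prime]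

theorem CentData.exists_hom (D : CentData v s0 z q B) :
    ∃ (K : Subgroup G), K.Normal ∧ v ∉ K ∧ ∀ (x : G) (k : ℕ), x ^ 2 ^ k = 1 → x ∈ K := by
  classical
  obtain ⟨R, W, S⟩ := D.exists_sylData
  set H := Subgroup.normalizer (R : Set G) with hH
  set N := Subgroup.normalizer (W : Set G) with hN
  have hodd := D.odd_q
  have hs0i := D.s0_inv
  have hs0z : ∃ m : ℕ, z ^ m = s0 := by
    have hz1 : z ^ 1 ≠ 1 := fun h => by
      have h1 := D.hzo
      rw [pow_one] at h
      rw [h, orderOf_one] at h1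
      have := Nat.one_lt_two_pow (n := B) (by have := D.hB; omega)
      omega
    obtain ⟨m, hm⟩ := D.hpow 1 hz1
    exact ⟨m, by rwa [pow_one] at hm⟩
  obtain ⟨mz, hmz⟩ := hs0z
  have hs0N : s0 ∈ N := hmz ▸ N.pow_mem S.hzW mz
  have hσW : ∀ x ∈ W, s0 * x * s0 ∈ W := fun x hx => by
    have h1 := (Subgroup.mem_normalizer_iff.1 hs0N x).1 hx
    rwa [hs0i] at h1
  have hσmul : ∀ x y : G, s0 * (x * y) * s0 = (s0 * x * s0) * (s0 * y * s0) := fun x y => by
    rw [show (s0 * x * s0) * (s0 * y * s0) = s0 * x * (s0 * s0) * y * s0 by group, D.hss]; group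
  have hσσ : ∀ x : G, s0 * (s0 * x * s0) * s0 = x := fun x => by
    rw [show s0 * (s0 * x * s0) * s0 = (s0 * s0) * x * (s0 * s0) by group, D.hss, one_mul, mul_one]
  have hWq : IsPGroup q W := IsPGroup.of_card S.hWc
  have hWodd : Odd (Nat.card W) := S.hWc ▸ hodd.pow
  have hov : Odd (orderOf v) := D.hvq.symm ▸ hodd
  -- the centraliser of `v` in `W`
  have hWv : ∀ x ∈ W, Commute x v → x ∈ R := by
    intro x hx hxv
    by_contra hxR
    have h1 : W ⊓ Subgroup.centralizer ({v} : Set G) = W := by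
      refine Subgroup.eq_of_le_of_card_ge inf_le_left ?_
      have hle : R ≤ W ⊓ Subgroup.centralizer ({v} : Set G) := fun r hr =>
        ⟨S.hRW hr, Subgroup.mem_centralizer_singleton_iff.2 (S.hRv r hr).eq⟩
      obtain ⟨i, hi, hic⟩ := (Nat.dvd_prime_pow D.hq).1 (S.hWc ▸ Subgroup.card_dvd_of_le
        (inf_le_left : W ⊓ Subgroup.centralizer ({v} : Set G) ≤ W))
      rcases (show i ≤ 2 ∨ i = 3 by omega) with h | h
      · exfalso
        refine hxR ?_
        rw [Subgroup.eq_of_le_of_card_ge hle (by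
          rw [hic, S.hRc]; exact Nat.pow_le_pow_right D.hq.pos h)]
        exact ⟨hx, Subgroup.mem_centralizer_singleton_iff.2 hxv.eq⟩
      · rw [hic, h, S.hWc]
    obtain ⟨g, hg, hgv⟩ := S.hmove
    rw [← h1] at hg
    exact hgv (Subgroup.mem_centralizer_singleton_iff.1 hg.2)
  -- the centre
  haveI : Nontrivial W := by
    rw [← Finite.one_lt_card_iff_nontrivial, S.hWc]
    exact Nat.one_lt_pow (by norm_num) D.hq.one_lt
  set Z := Subgroup.center W with hZ
  have hZv : (⟨v, S.hRW S.hvR⟩ : W) ∉ Z := fun h => by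
    obtain ⟨g, hg, hgv⟩ := S.hmove
    exact hgv (congrArg Subtype.val (Subgroup.mem_center_iff.1 h ⟨g, hg⟩))
  have hZR : ∀ c ∈ Z, (c : G) ∈ R := fun c hc =>
    hWv c c.2 (congrArg Subtype.val (Subgroup.mem_center_iff.1 hc ⟨v, S.hRW S.hvR⟩)).symm
  have hZc : Nat.card Z = q := by
    haveI := hWq.center_nontrivial
    have hne : Z ≠ ⊥ := (Subgroup.nontrivial_iff_ne_bot _).1 inferInstance
    obtain ⟨i, hi, hic⟩ := (Nat.dvd_prime_pow D.hq).1
      (S.hWc ▸ Z.card_subgroup_dvd_card : Nat.card Z ∣ q ^ 3)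
    have hi0 : i ≠ 0 := fun h => hne (Subgroup.card_eq_one.1 (by rw [hic, h, pow_zero]))
    have hle : Nat.card Z ≤ q ^ 2 := S.hRc ▸ Nat.card_le_card_of_injective
      (fun c : Z => (⟨((c : W) : G), hZR c c.2⟩ : R))
      fun c d h => Subtype.ext (Subtype.ext (congrArg Subtype.val h :))
    have hi2 : i ≤ 2 := (Nat.pow_le_pow_iff_right D.hq.one_lt).1 (hic ▸ hle)
    rcases (show i = 1 ∨ i = 2 by omega) with h | h
    · rw [hic, h, pow_one]
    · exfalso
      haveI : IsCyclic (W ⧸ Z) := by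
        refine isCyclic_of_prime_card (p := q) ?_
        have h1 := Z.card_eq_card_quotient_mul_card_subgroup
        rw [S.hWc, hic, h, pow_succ'] at h1
        exact Nat.eq_of_mul_eq_mul_right (pow_pos D.hq.pos 2) h1.symm
      have hc := commutative_of_cyclic_center_quotient (QuotientGroup.mk' Z)
        (le_of_eq (QuotientGroup.ker_mk' Z))
      exact hZv (Subgroup.mem_center_iff.2 fun y => hc y _)
  have hVZ : ∀ c ∈ Z, (c : G) ∈ Subgroup.zpowers v → c = 1 := fun c hc hcv => by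
    by_contra hc1
    refine hZv ?_
    have ho : orderOf (c : G) = q := by
      rcases (Nat.dvd_prime D.hq).1 (D.hvq ▸ Nat.card_zpowers v ▸
        Subgroup.orderOf_dvd_natCard (Subgroup.zpowers v) hcv) with h | h
      · exact absurd (Subtype.ext (orderOf_eq_one_iff.1 h)) hc1
      · exact h
    have h1 : Subgroup.zpowers (c : G) = Subgroup.zpowers v := Subgroup.eq_of_le_of_card_ge
      (Subgroup.zpowers_le.2 hcv) (by rw [Nat.card_zpowers, Nat.card_zpowers, ho, D.hvq])
    obtain ⟨i, hi⟩ := (h1 ▸ Subgroup.mem_zpowers v : v ∈ Subgroup.zpowers (c : G))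
    rw [show (⟨v, S.hRW S.hvR⟩ : W) = c ^ i from Subtype.ext (by rw [SubgroupClass.coe_zpow]; exact hi.symm)]
    exact Z.zpow_mem hc i
  let σ : W →* W :=
    { toFun := fun x => ⟨s0 * x * s0, hσW x x.2⟩
      map_one' := Subtype.ext (by show s0 * ((1 : W) : G) * s0 = 1; rw [Subgroup.coe_one, mul_one, D.hss])
      map_mul' := fun x y => Subtype.ext (hσmul x y) }
  have hσv : ∀ x : W, ((σ x : W) : G) = s0 * x * s0 := fun x => rfl
  have hσinv : ∀ x, σ (σ x) = x := fun x => Subtype.ext (hσσ x)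
  have hσZ : ∀ c ∈ Z, σ c ∈ Z := fun c hc => Subgroup.mem_center_iff.2 fun y => by
    have h1 := congrArg σ (Subgroup.mem_center_iff.1 hc (σ y))
    rwa [map_mul, map_mul, hσinv] at h1
  -- elements fixed modulo the centre lie in R
  have hfixR : ∀ x : W, σ x = x → (x : G) ∈ Subgroup.zpowers v := fun x hx => by
    have h1 : s0 * (x : G) * s0 = x := congrArg Subtype.val hx
    have hxs : Commute (x : G) s0 := by
      show (x : G) * s0 = s0 * x
      calc (x : G) * s0 = s0 * x * s0 * s0 := by rw [h1]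
        _ = s0 * x := by rw [mul_assoc, D.hss, mul_one]
    -- `[x, v]` lies in R, is inverted and fixed
    have hxv : Commute (x : G) v := by
      obtain ⟨w, hw, e, hwi⟩ := S.hconj x (S.hWR x.2)
      have h2 : s0 * w * s0 = w := by
        have hwe : w = v⁻¹ * ((x : G) * v * (x : G)⁻¹) := by rw [e, inv_mul_cancel_left]
        rw [hwe, hσmul, hσmul, hσmul, h1]
        rw [show s0 * v⁻¹ * s0 = v⁻¹ by rw [D.hvs.symm.inv_right.eq, mul_assoc, D.hss, mul_one],
          show s0 * v * s0 = v by rw [D.hvs.symm.eq, mul_assoc, D.hss, mul_one],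
          show s0 * (x : G)⁻¹ * s0 = (x : G)⁻¹ by rw [hxs.symm.inv_right.eq, mul_assoc, D.hss, mul_one]]
      have hw1 : w = 1 := CfsgLib.RankOneInvol.eq_one_of_sq_of_odd
        (CfsgLib.RankOneInvol.odd_orderOf_of_mem (S.hRc ▸ hodd.pow) hw)
        (eq_inv_iff_mul_eq_one.1 (h2.symm.trans hwi))
      rw [hw1, mul_one] at e
      exact mul_inv_eq_iff_eq_mul.1 e
    exact D.hfix x hxv (CfsgLib.RankOneInvol.odd_orderOf_of_mem hWodd x.2) hxs
  have hσc : ∀ c ∈ Z, σ c = c⁻¹ := fun c hc => by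
    refine eq_inv_of_mul_eq_one_left ?_
    have h1 : σ (σ c * c) = σ c * c := by
      rw [map_mul, hσinv]
      exact Subgroup.mem_center_iff.1 (hσZ c hc) c
    exact hVZ _ (Z.mul_mem (hσZ c hc) hc) (hfixR _ h1)
  -- the quotient modulo the centre
  have hQc : Nat.card (W ⧸ Z) = q ^ 2 := by
    have h1 := Z.card_eq_card_quotient_mul_card_subgroup
    rw [S.hWc, hZc, pow_succ] at h1
    exact Nat.eq_of_mul_eq_mul_right D.hq.pos h1.symm
  haveI := IsPGroup.isMulCommutative_of_card_eq_prime_sq (p := q) hQc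
  letI : CommGroup (W ⧸ Z) := { mul_comm := fun x y => mul_comm' x y }
  let ψ : W →* W ⧸ Z :=
    { toFun := fun x => (QuotientGroup.mk x : W ⧸ Z) * QuotientGroup.mk (σ x)
      map_one' := by rw [map_one, QuotientGroup.mk_one, one_mul]
      map_mul' := fun x y => by rw [map_mul, QuotientGroup.mk_mul, QuotientGroup.mk_mul, mul_mul_mul_comm] }
  have hψ : ∀ x, ψ x = QuotientGroup.mk (x * σ x) := fun x => (QuotientGroup.mk_mul Z x (σ x)).symm
  let vW : W := ⟨v, S.hRW S.hvR⟩
  have hσvW : σ vW = vW := Subtype.ext (by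
    show s0 * v * s0 = v
    rw [D.hvs.symm.eq, mul_assoc, D.hss, mul_one])
  have hψv : ψ vW ≠ 1 := by
    rw [hψ, Ne, QuotientGroup.eq_one_iff, hσvW]
    intro h
    have h1 := hVZ _ h (Subgroup.mul_mem _ (Subgroup.mem_zpowers v) (Subgroup.mem_zpowers v))
    exact D.hq.ne_one (by
      rw [← D.hvq, CfsgLib.RankOneInvol.eq_one_of_sq_of_odd hov (congrArg Subtype.val h1), orderOf_one])
  have hrange : Nat.card ψ.range ∣ q := by
    -- `ψ x` is fixed by the involution, so lies in the image of `R`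
    have hle : ψ.range ≤ (R.subgroupOf W).map (QuotientGroup.mk' Z) := by
      rintro _ ⟨x, rfl⟩
      rw [hψ]
      set y := x * σ x with hy
      have hd : σ y * y⁻¹ ∈ Z := by
        rw [← QuotientGroup.eq_one_iff, QuotientGroup.mk_mul, QuotientGroup.mk_inv, hy, map_mul, hσinv,
          QuotientGroup.mk_mul, QuotientGroup.mk_mul, mul_comm (QuotientGroup.mk (σ x)), mul_inv_cancel]
      obtain ⟨c, hcc⟩ := CfsgLib.RankOneInvol.exists_pow_sq_eq
        (hWodd.of_dvd_nat (orderOf_dvd_natCard (σ y * y⁻¹)))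
      set d := (σ y * y⁻¹) ^ c with hd'
      have hdZ : d ∈ Z := Z.pow_mem hd _
      have hfy : σ (y * d) = y * d := by
        have hcd := Subgroup.mem_center_iff.1 hdZ y
        rw [map_mul, hσc d hdZ, show σ y = σ y * y⁻¹ * y by group]
        rw [show σ y * y⁻¹ = d * d from hcc.symm]
        calc d * d * y * d⁻¹ = d * (d * y) * d⁻¹ := by group
          _ = d * (y * d) * d⁻¹ := by rw [hcd]
          _ = y * d := by rw [mul_assoc, mul_inv_cancel_right, hcd]
      refine ⟨y * d, Subgroup.mem_subgroupOf.2 ?_, ?_⟩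
      · exact Subgroup.zpowers_le.2 S.hvR (hfixR _ hfy)
      · rw [QuotientGroup.mk'_apply, QuotientGroup.mk_mul_of_mem _ hdZ]
    refine (Subgroup.card_dvd_of_le hle).trans ?_
    have hle2 : Z ≤ R.subgroupOf W := fun c hc => hZR c hc
    have h1 : Nat.card ((R.subgroupOf W).map (QuotientGroup.mk' Z)) * q = q ^ 2 := by
      rw [← S.hRc, ← Nat.card_congr (Subgroup.subgroupOfEquivOfLe S.hRW).toEquiv]
      have h2 := (Z.subgroupOf (R.subgroupOf W)).card_eq_card_quotient_mul_card_subgroup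
      rw [h2, Nat.card_congr (Subgroup.subgroupOfEquivOfLe hle2).toEquiv, hZc]
      congr 1
      rw [← MonoidHom.domRestrict_range, ← Subgroup.index_ker, MonoidHom.ker_domRestrict, QuotientGroup.ker_mk',
        Subgroup.index_eq_card]
    rw [sq] at h1
    rw [Nat.eq_of_mul_eq_mul_right D.hq.pos h1]
  let φ : W →* ψ.range := ψ.rangeRestrict
  letI : CommGroup ψ.range := { mul_comm := fun x y => Subtype.ext (mul_comm (x : W ⧸ Z) y) }
  have hexp : ∀ c : ψ.range, c ^ q = 1 := fun c =>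
    orderOf_dvd_iff_pow_eq_one.1 ((orderOf_dvd_natCard c).trans hrange)
  have hφv : φ vW ≠ 1 := fun h => hψv (congrArg Subtype.val h)
  have hH_W : ∀ x : G, x ∈ H → x ∈ N := fun x hx => by
    obtain ⟨g, hg, j, rfl⟩ := S.hH x hx
    exact N.mul_mem (N.pow_mem S.hzW j) (Subgroup.le_normalizer hg)
  have hqH : ∀ x : G, x ∈ H → Odd (orderOf x) → x ∈ W := by
    intro x hx hxo
    obtain ⟨g, hg, j, rfl⟩ := S.hH x hx
    haveI : (W.subgroupOf N).Normal := Subgroup.normal_in_normalizer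
    let π := QuotientGroup.mk' (W.subgroupOf N)
    let zj : N := ⟨z ^ j, N.pow_mem S.hzW j⟩
    let gN : N := ⟨g, Subgroup.le_normalizer hg⟩
    have hπg : π gN = 1 := (QuotientGroup.eq_one_iff gN).2 hg
    have hπz : π zj = 1 := by
      refine orderOf_eq_one_iff.1 (Nat.eq_one_of_dvd_coprimes
        (Nat.Coprime.pow_left B (Nat.coprime_two_left.2 hxo)) ?_ ?_)
      · refine (orderOf_map_dvd π zj).trans ?_
        rw [← Subgroup.orderOf_coe]
        exact D.hzo ▸ orderOf_pow_dvd j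
      · have h1 : π zj = π ⟨z ^ j * g, N.mul_mem zj.2 gN.2⟩ := by
          rw [show (⟨z ^ j * g, N.mul_mem zj.2 gN.2⟩ : N) = zj * gN from rfl, map_mul, hπg, mul_one]
        rw [h1]
        refine (orderOf_map_dvd π _).trans ?_
        rw [← Subgroup.orderOf_coe]
    exact W.mul_mem (Subgroup.mem_subgroupOf.1 ((QuotientGroup.eq_one_iff zj).1 hπz)) hg
  -- conjugates of v in W outside the kernel
  have hvker : ∀ (h : G) (hh : h * v * h⁻¹ ∈ W), ψ ⟨_, hh⟩ ≠ 1 := by
    intro h hh he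
    rw [hψ, QuotientGroup.eq_one_iff] at he
    set y : W := ⟨_, hh⟩ with hy
    have h1 : σ (y * σ y) = y * σ y := by
      rw [map_mul, hσinv]
      calc σ y * y = y⁻¹ * (y * σ y) * y := by group
        _ = y * σ y := by rw [mul_assoc, ← Subgroup.mem_center_iff.1 he y, inv_mul_cancel_left]
    have h2 := hVZ _ he (hfixR _ h1)
    exact D.not_inverted_conj (h := h) (congrArg Subtype.val (eq_inv_of_mul_eq_one_right h2))
  -- the normaliser of W
  have hNH : ∀ h : G, h ∈ N → h ∈ H := by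
    by_contra hcon
    push Not at hcon
    obtain ⟨h0, hh0N, hh0H⟩ := hcon
    set Hs := H.subgroupOf N with hHs
    have hidx : ¬ q ∣ Hs.index := fun h => by
      refine S.hsyl (h.trans ?_)
      have h1 : Hs.index ∣ (W.subgroupOf N).index :=
        Subgroup.index_dvd_of_le fun x hx => Subgroup.mem_subgroupOf.2 (S.hWR (Subgroup.mem_subgroupOf.1 hx))
      exact h1.trans (Subgroup.relIndex_dvd_index_of_le Subgroup.le_normalizer)
    have hhR : ∀ h : G, h ∈ N → ∀ r ∈ R, h * r * h⁻¹ ∈ W := fun h hh r hr =>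
      (Subgroup.mem_normalizer_iff.1 hh r).1 (S.hRW hr)
    let e : N → W := fun h => ⟨(h : G) * v * (h : G)⁻¹, hhR h h.2 v S.hvR⟩
    have hgen : ∀ x : W, ψ x = 1 ∨ ∃ n : ℕ, ψ x ^ n = ψ vW := by
      intro x
      by_cases hx : ψ x = 1
      · exact Or.inl hx
      refine Or.inr ?_
      haveI : IsCyclic ψ.range := by
        rcases (Nat.dvd_prime D.hq).1 hrange with h | h
        · exact absurd (congrArg Subtype.val ((Nat.card_eq_one_iff_unique.1 h).1.elim (φ x) 1)) hx
        · exact isCyclic_of_prime_card h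
      have hcard : Nat.card ψ.range = q := by
        rcases (Nat.dvd_prime D.hq).1 hrange with h | h
        · exact absurd (congrArg Subtype.val ((Nat.card_eq_one_iff_unique.1 h).1.elim (φ x) 1)) hx
        · exact h
      obtain ⟨n, hn⟩ := mem_powers_of_prime_card (g := φ x) (g' := φ vW) hcard
        fun h => hx (congrArg Subtype.val h)
      exact ⟨n, congrArg Subtype.val hn⟩
    have hN' : ∀ h : N, ∃ n : ℕ, ψ (e h) ^ n = ψ vW := fun h =>
      (hgen (e h)).resolve_left (hvker h (e h).2)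
    choose n hn using hN'
    -- the slot of a conjugate of R
    let slot : N → W ⧸ Z := fun h => QuotientGroup.mk (e h ^ n h * vW⁻¹)
    have hZN : ∀ h : N, ∀ c ∈ Z, ∃ c' ∈ Z, (h : G) * (c : G) * (h : G)⁻¹ = c' := by
      intro h c hc
      refine ⟨⟨_, (Subgroup.mem_normalizer_iff.1 h.2 c).1 c.2⟩, Subgroup.mem_center_iff.2 fun y => ?_, rfl⟩
      have hy : (h : G)⁻¹ * y * h ∈ W := (Subgroup.mem_normalizer_iff''.1 h.2 y).1 y.2
      have h1 := congrArg Subtype.val (Subgroup.mem_center_iff.1 hc ⟨_, hy⟩)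
      refine Subtype.ext ?_
      show (y : G) * ((h : G) * c * (h : G)⁻¹) = (h : G) * c * (h : G)⁻¹ * y
      calc (y : G) * ((h : G) * c * (h : G)⁻¹) = h * (((h : G)⁻¹ * y * h) * c) * (h : G)⁻¹ := by group
        _ = h * ((c : G) * ((h : G)⁻¹ * y * h)) * (h : G)⁻¹ := by
          rw [show (h : G)⁻¹ * (y : G) * h * c = c * ((h : G)⁻¹ * (y : G) * h) from h1]
        _ = _ := by group
    have hmem : ∀ (h : G) (x : G), h ∈ N → (h⁻¹ * x * h ∈ R) → ∀ k : ℕ, h⁻¹ * x ^ k * h ∈ R := by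
      intro h x _ hx k
      rw [show h⁻¹ * x ^ k * h = (h⁻¹ * x * h) ^ k by
        simpa using (conj_pow (i := k) (a := h⁻¹) (b := x)).symm]
      exact R.pow_mem hx k
    have hZinR : ∀ (h : N) (c : W), c ∈ Z → (h : G)⁻¹ * c * h ∈ R := fun h c hc => by
      obtain ⟨c', hc', e'⟩ := hZN h⁻¹ c hc
      rw [Subgroup.coe_inv, inv_inv] at e'
      rw [e']
      exact hZR c' hc'
    have hgenR : ∀ r ∈ R, ∃ (k : ℕ) (c : W), c ∈ Z ∧ r = v ^ k * c := by
      intro r hr
      let T : Fin q × Z → R := fun p =>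
        ⟨v ^ (p.1 : ℕ) * ((p.2 : W) : G), R.mul_mem (R.pow_mem S.hvR _) (hZR _ p.2.2)⟩
      have hT : Function.Injective T := by
        intro p p' hp
        have h1 : v ^ (p.1 : ℕ) * ((p.2 : W) : G) = v ^ (p'.1 : ℕ) * ((p'.2 : W) : G) :=
          congrArg Subtype.val hp
        have h2 : ((p.2 * p'.2⁻¹ : Z) : W) = 1 := hVZ _ (p.2 * p'.2⁻¹).2 (by
          show ((p.2 : W) : G) * ((p'.2 : W) : G)⁻¹ ∈ _
          rw [show ((p.2 : W) : G) * ((p'.2 : W) : G)⁻¹ = (v ^ (p.1 : ℕ))⁻¹ *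
            (v ^ (p.1 : ℕ) * ((p.2 : W) : G)) * ((p'.2 : W) : G)⁻¹ by group, h1, mul_assoc,
            mul_inv_cancel_right]
          exact Subgroup.mul_mem _ (Subgroup.inv_mem _ (Subgroup.pow_mem _ (Subgroup.mem_zpowers v) _))
            (Subgroup.pow_mem _ (Subgroup.mem_zpowers v) _))
        have h4 : p.2 = p'.2 := mul_inv_eq_one.1 (Subtype.ext h2)
        rw [h4] at h1
        refine Prod.ext (Fin.ext ?_) h4
        exact pow_injOn_Iio_orderOf (by rw [D.hvq]; exact p.1.2) (by rw [D.hvq]; exact p'.1.2)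
          (mul_right_cancel h1)
      have hb := (Nat.bijective_iff_injective_and_card T).2
        ⟨hT, by rw [Nat.card_prod, Nat.card_fin, hZc, S.hRc, sq]⟩
      obtain ⟨⟨k, c⟩, hkc⟩ := hb.2 ⟨r, hr⟩
      exact ⟨k, c, c.2, (congrArg Subtype.val hkc).symm⟩
    have hnorm : ∀ h : G, h ∈ N → h * v * h⁻¹ ∈ R → h ∈ H := by
      intro h hh hv
      refine CfsgLib.Coprime.mem_normalizer_of_forall_conj fun r hr => ?_
      obtain ⟨k, c, hc, rfl⟩ := hgenR r hr
      obtain ⟨c', hc', e'⟩ := hZN ⟨h, hh⟩ c hc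
      rw [show h * (v ^ k * (c : G)) * h⁻¹ = (h * v * h⁻¹) ^ k * (h * (c : G) * h⁻¹) by
        rw [conj_pow]; group, show h * (c : G) * h⁻¹ = c' from e']
      exact R.mul_mem (R.pow_mem hv k) (hZR c' hc')
    have hLeq : ∀ h h' : N, slot h = slot h' → (h : G)⁻¹ * h' ∈ H := by
      intro h h' hs
      have hd : (e h ^ n h)⁻¹ * e h' ^ n h' ∈ Z := by
        rw [← QuotientGroup.eq]
        have h1 : (QuotientGroup.mk (e h ^ n h) : W ⧸ Z) * QuotientGroup.mk vW⁻¹ =
            QuotientGroup.mk (e h' ^ n h') * QuotientGroup.mk vW⁻¹ := by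
          rw [← QuotientGroup.mk_mul, ← QuotientGroup.mk_mul]; exact hs
        exact mul_right_cancel h1
      have hx : (h : G)⁻¹ * ((e h' : W) : G) ^ n h' * h ∈ R := by
        have h1 : (h : G)⁻¹ * ((e h : W) : G) ^ n h * h ∈ R :=
          hmem h _ h.2 (by show (h : G)⁻¹ * ((h : G) * v * (h : G)⁻¹) * h ∈ R; group; exact S.hvR) _
        have h2 := hZinR h _ hd
        have h3 := R.mul_mem h1 h2
        convert h3 using 1
        simp only [Subgroup.coe_mul, Subgroup.coe_inv, SubgroupClass.coe_pow]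
        group
      have hq' : ¬ q ∣ n h' := fun hd' => by
        obtain ⟨c, hc⟩ := hd'
        refine hψv ?_
        have h4 : φ (e h') ^ q = 1 := hexp _
        rw [← hn h', hc, pow_mul]
        rw [show ψ (e h') ^ q = 1 from congrArg Subtype.val h4, one_pow]
      have hev : (h : G)⁻¹ * ((e h' : W) : G) * h ∈ R := by
        obtain ⟨m, hm⟩ := exists_pow_eq_self_of_coprime (x := ((e h' : W) : G)) (n := n h') (by
          show Nat.Coprime _ (orderOf ((h' : G) * v * (h' : G)⁻¹))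
          rw [← MulAut.conj_apply, MulEquiv.orderOf_eq, D.hvq]
          exact (D.hq.coprime_iff_not_dvd.2 hq').symm)
        rw [← hm]
        exact hmem h _ h.2 hx m
      refine hnorm ((h : G)⁻¹ * h') (N.mul_mem (N.inv_mem h.2) h'.2) ?_
      have e1 : (h : G)⁻¹ * ((e h' : W) : G) * h = ((h : G)⁻¹ * h') * v * ((h : G)⁻¹ * h')⁻¹ := by
        show (h : G)⁻¹ * ((h' : G) * v * (h' : G)⁻¹) * h = _
        group
      rwa [e1] at hev
    -- ψ kills the slot
    have hker : ∀ h : N, ψ (e h ^ n h * vW⁻¹) = 1 := fun h => by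
      rw [map_mul, map_pow, hn, map_inv, mul_inv_cancel]
    set J := ψ.ker with hJ
    have hJc : Nat.card J = q ^ 2 := by
      have h1 := J.card_mul_index
      rw [hJ, Subgroup.index_ker, S.hWc] at h1
      have h2 : Nat.card ψ.range = q := ((Nat.dvd_prime D.hq).1 hrange).resolve_left fun h =>
        hψv (congrArg Subtype.val ((Nat.card_eq_one_iff_unique.1 h).1.elim (φ vW) 1))
      rw [h2, pow_succ] at h1
      exact Nat.eq_of_mul_eq_mul_right D.hq.pos h1
    have hJZ : Z ≤ J := fun c hc => by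
      rw [hJ, MonoidHom.mem_ker, hψ, QuotientGroup.eq_one_iff]
      exact Z.mul_mem hc (hσZ c hc)
    have himg : (J.map (QuotientGroup.mk' Z) : Set (W ⧸ Z)).ncard = q := by
      rw [← Nat.card_coe_set_eq]
      have h1 := (Z.subgroupOf J).card_eq_card_quotient_mul_card_subgroup
      rw [Nat.card_congr (Subgroup.subgroupOfEquivOfLe hJZ).toEquiv, hZc, hJc, sq] at h1
      show Nat.card (J.map (QuotientGroup.mk' Z)) = q
      rw [← MonoidHom.domRestrict_range, ← Subgroup.index_ker, MonoidHom.ker_domRestrict, QuotientGroup.ker_mk',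
        Subgroup.index_eq_card]
      exact (Nat.eq_of_mul_eq_mul_right D.hq.pos h1).symm
    have hup : Hs.index ≤ q := by
      rw [Subgroup.index_eq_card, ← himg, ← Nat.card_coe_set_eq]
      refine Nat.card_le_card_of_injective
        (fun c => (⟨slot c.out, ⟨_, MonoidHom.mem_ker.2 (hker c.out), rfl⟩⟩ :
          (J.map (QuotientGroup.mk' Z) : Set (W ⧸ Z)))) fun c c' h => ?_
      rw [← c.out_eq', ← c'.out_eq', QuotientGroup.eq]
      exact Subgroup.mem_subgroupOf.2 (hLeq _ _ (congrArg Subtype.val h))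
    have hlow : q ≤ Hs.index := by
      rw [Subgroup.index_eq_card, S.hq5,
        show 2 ^ B + 1 = Nat.card (Option (Fin (2 ^ B))) by rw [Finite.card_option, Nat.card_fin]]
      let F : Option (Fin (2 ^ B)) → N ⧸ Hs := fun o => o.elim (QuotientGroup.mk 1) fun i =>
        QuotientGroup.mk (⟨z ^ (i : ℕ) * h0, N.mul_mem (N.pow_mem S.hzW _) hh0N⟩ : N)
      refine Nat.card_le_card_of_injective F ?_
      have hne1 : ∀ i : ℕ, z ^ i * h0 ∉ H := fun i h => hh0H (by
        simpa using H.mul_mem (H.inv_mem (H.pow_mem S.hzR i)) h)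
      rintro (_ | i) (_ | j) hij
      · rfl
      · exact absurd (Subgroup.mem_subgroupOf.1 (QuotientGroup.eq.1 hij)) (by simpa using hne1 j)
      · exact absurd (Subgroup.mem_subgroupOf.1 (QuotientGroup.eq.1 hij.symm)) (by simpa using hne1 i)
      · by_contra hne
        have hij' : (z ^ (i : ℕ) * h0)⁻¹ * (z ^ (j : ℕ) * h0) ∈ H :=
          Subgroup.mem_subgroupOf.1 (QuotientGroup.eq.1 hij)
        have hne' : (i : ℕ) ≠ j := fun e' => hne (congrArg some (Fin.ext e'))
        obtain ⟨d, hd0, hd⟩ : ∃ d : ℕ, z ^ d ≠ 1 ∧ h0⁻¹ * z ^ d * h0 ∈ H := by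
          have hlt : ∀ m : ℕ, 0 < m → m < 2 ^ B → z ^ m ≠ 1 := fun m hm0 hm e' =>
            absurd (Nat.le_of_dvd hm0 (D.hzo ▸ orderOf_dvd_of_pow_eq_one e')) (not_le.2 hm)
          rcases le_total (i : ℕ) j with hle | hle
          · refine ⟨j - i, hlt _ (by omega) (by omega), ?_⟩
            rw [pow_sub _ hle]
            rw [((Commute.pow_pow_self z (j : ℕ) i).inv_right).eq]
            rwa [mul_inv_rev, mul_assoc, ← mul_assoc (z ^ (i : ℕ))⁻¹, ← mul_assoc] at hij'
          · refine ⟨i - j, hlt _ (by omega) (by omega), ?_⟩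
            have h8 := H.inv_mem hij'
            rw [pow_sub _ hle, ((Commute.pow_pow_self z (i : ℕ) j).inv_right).eq]
            simpa [mul_assoc] using h8
        obtain ⟨m, hm⟩ := D.hpow d hd0
        have hs : h0⁻¹ * s0 * h0 ∈ H := by
          rw [← hm, show h0⁻¹ * (z ^ d) ^ m * h0 = (h0⁻¹ * z ^ d * h0) ^ m by
            simpa using (conj_pow (i := m) (a := h0⁻¹) (b := z ^ d)).symm]
          exact H.pow_mem hd m
        -- the involution normalises the conjugate of R, so it contains v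
        let hN0 : N := ⟨h0, hh0N⟩
        set x := e hN0 ^ n hN0 with hx
        have hxc : h0⁻¹ * (x : G) * h0 = v ^ n hN0 := by
          rw [hx, SubgroupClass.coe_pow]
          show h0⁻¹ * (h0 * v * h0⁻¹) ^ n hN0 * h0 = _
          rw [conj_pow]; group
        have hσx : h0⁻¹ * (s0 * x * s0) * h0 ∈ R := by
          have h9 : h0⁻¹ * (s0 * x * s0) * h0 =
              (h0⁻¹ * s0 * h0) * (h0⁻¹ * (x : G) * h0) * (h0⁻¹ * s0 * h0)⁻¹ := by
            rw [mul_inv_rev, mul_inv_rev, hs0i]; group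
          rw [h9, hxc]
          exact (Subgroup.mem_normalizer_iff.1 hs _).1 (R.pow_mem S.hvR _)
        have hprod : h0⁻¹ * ((x * σ x : W) : G) * h0 ∈ R := by
          rw [Subgroup.coe_mul, hσv, show h0⁻¹ * ((x : G) * (s0 * x * s0)) * h0 =
            (h0⁻¹ * (x : G) * h0) * (h0⁻¹ * (s0 * x * s0) * h0) by group, hxc]
          exact R.mul_mem (R.pow_mem S.hvR _) hσx
        have heq : (QuotientGroup.mk (x * σ x) : W ⧸ Z) = QuotientGroup.mk (vW * σ vW) := by
          rw [← hψ, ← hψ, hx, map_pow, hn]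
        have hv2 : h0⁻¹ * (v * v) * h0 ∈ R := by
          have h10 := R.mul_mem hprod (hZinR hN0 _ (QuotientGroup.eq.1 heq))
          rw [hσvW] at h10
          convert h10 using 1
          simp only [Subgroup.coe_mul, Subgroup.coe_inv]
          show h0⁻¹ * (v * v) * h0 = h0⁻¹ * ((x : G) * (σ x : W)) * h0 * (h0⁻¹ *
            (((x : G) * (σ x : W))⁻¹ * (v * v)) * h0)
          group
        have hvh : h0⁻¹ * v * h0 ∈ R := by
          obtain ⟨m', hm'⟩ := exists_pow_eq_self_of_coprime (x := v) (n := 2)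
            (by rw [D.hvq]; exact Nat.coprime_two_left.2 hodd)
          rw [← hm', pow_two]
          exact hmem h0 _ hh0N hv2 m'
        -- then `h0` normalises R
        exact hh0H (inv_mem_iff.1 (hnorm h0⁻¹ (N.inv_mem hh0N) (by rwa [inv_inv])))
    exact hidx ⟨1, by omega⟩
  -- the transfer
  haveI : Fintype (G ⧸ W) := Fintype.ofFinite _
  set τ := MonoidHom.transfer φ with hτ
  have hodd2 : Odd (Nat.card ψ.range) := hodd.of_dvd_nat hrange
  refine ⟨τ.ker, inferInstance, fun hmem => ?_, fun x k hx => ?_⟩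
  swap
  · refine MonoidHom.mem_ker.2 (orderOf_eq_one_iff.1 (Nat.eq_one_of_dvd_coprimes
      (Nat.Coprime.pow_left _ (Nat.coprime_two_left.2 hodd2))
      (orderOf_dvd_of_pow_eq_one (by rw [← map_pow, hx, map_one])) (orderOf_dvd_natCard _)))
  rw [MonoidHom.mem_ker, hτ, CfsgLib.TransferFix82.transfer_eq_prod_fixVal φ v (fun r g h hr hrd => by
    rw [D.hvq] at hrd
    have hrq : r = q := ((Nat.dvd_prime D.hq).1 hrd).resolve_left (by omega)
    have : (⟨_, h⟩ : W) = 1 := Subtype.ext (by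
      show g⁻¹ * v ^ r * g = 1
      rw [hrq, ← D.hvq, pow_orderOf_eq_one]; group)
    rw [this, map_one])] at hmem
  haveI : Fintype (MulAction.fixedPoints R (G ⧸ W)) := Fintype.ofFinite _
  rw [prod_eq_prod_fixedPoints (P := R) (q := q) (IsPGroup.of_card S.hRc) _ (fun r c => by
    show CfsgLib.TransferFix82.fixVal φ v ((r : G) • c) = _
    rw [CfsgLib.TransferFix82.fixVal_smul, mul_assoc, ← (S.hRv r r.2).eq, inv_mul_cancel_left]) hexp] at hmem
  have hfix : ∀ c : G ⧸ W, c ∈ MulAction.fixedPoints R (G ⧸ W) ↔ ∃ j : ℕ, c = ((z ^ j : G) : G ⧸ W) := by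
    intro c
    constructor
    · intro hc
      induction c using QuotientGroup.induction_on with
      | H g =>
      set W' := W.map (MulAut.conj g).toMonoidHom with hW'
      have hRW' : R ≤ W' := fun r hr => ⟨g⁻¹ * r * g, CfsgLib.TransferFix82.conj_mem_of_smul_eq (hc ⟨r, hr⟩),
        by simp [MulAut.conj_apply, mul_assoc]⟩
      have hW'c : Nat.card W' = q ^ 3 := by
        rw [hW', Subgroup.card_map_of_injective (MulAut.conj g).injective, S.hWc]
      have hn : (R.subgroupOf W').Normal := Subgroup.normal_of_index_eq_minFac_card (by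
        rw [hW'c, Nat.pow_minFac (by norm_num), D.hq.minFac_eq]
        have h := (R.subgroupOf W').card_mul_index
        rw [Nat.card_congr (Subgroup.subgroupOfEquivOfLe hRW').toEquiv, S.hRc, hW'c, pow_succ q 2] at h
        exact Nat.eq_of_mul_eq_mul_left (pow_pos D.hq.pos 2) h)
      have hW'H : W' ≤ H := (Subgroup.normal_subgroupOf_iff_le_normalizer hRW').1 hn
      have hW'W : W' ≤ W := fun x hx =>
        hqH x (hW'H hx) ((hW'c ▸ hodd.pow : Odd (Nat.card W')).of_dvd_nat (Subgroup.orderOf_dvd_natCard W' hx))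
      have hgN : g ∈ N := CfsgLib.Coprime.mem_normalizer_of_forall_conj fun x hx =>
        hW'W ⟨x, hx, rfl⟩
      obtain ⟨w, hw, j, rfl⟩ := S.hH g (hNH g hgN)
      exact ⟨j, QuotientGroup.eq.2 (by simpa using W.inv_mem hw)⟩
    · rintro ⟨j, rfl⟩ r
      refine CfsgLib.TransferFix82.smul_eq_of_conj_mem ?_
      exact S.hRW ((Subgroup.mem_normalizer_iff''.1 (H.pow_mem S.hzR j) r).1 r.2)
  let T : Fin (2 ^ B) → MulAction.fixedPoints R (G ⧸ W) := fun i =>
    ⟨((z ^ (i : ℕ) : G) : G ⧸ W), (hfix _).2 ⟨i, rfl⟩⟩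
  have hT : Function.Bijective T := by
    refine ⟨fun i j h => Fin.ext ?_, fun ⟨c, hc⟩ => ?_⟩
    · have h1 : (z ^ (i : ℕ))⁻¹ * z ^ (j : ℕ) ∈ W := QuotientGroup.eq.1 (congrArg Subtype.val h :)
      have h2 : (z ^ (i : ℕ))⁻¹ * z ^ (j : ℕ) = 1 := orderOf_eq_one_iff.1 (Nat.eq_one_of_dvd_coprimes
        (Nat.Coprime.pow_left B (Nat.coprime_two_left.2 hWodd))
        ((Subgroup.orderOf_dvd_natCard (Subgroup.zpowers z)
          (Subgroup.mul_mem _ (Subgroup.inv_mem _ (Subgroup.pow_mem _ (Subgroup.mem_zpowers z) _))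
            (Subgroup.pow_mem _ (Subgroup.mem_zpowers z) _))).trans
              (dvd_of_eq ((Nat.card_zpowers z).trans D.hzo)))
        (Subgroup.orderOf_dvd_natCard W h1))
      exact pow_injOn_Iio_orderOf (by rw [D.hzo]; exact i.2) (by rw [D.hzo]; exact j.2)
        (inv_mul_eq_one.1 h2)
    · obtain ⟨j, rfl⟩ := (hfix c).1 hc
      exact ⟨⟨j % 2 ^ B, Nat.mod_lt _ (pow_pos two_pos B)⟩, Subtype.ext (by
        show ((z ^ (j % 2 ^ B) : G) : G ⧸ W) = _
        rw [← D.hzo, pow_mod_orderOf])⟩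
  have hval : ∀ c : MulAction.fixedPoints R (G ⧸ W), CfsgLib.TransferFix82.fixVal φ v c.1 = φ vW := by
    rintro ⟨c, hc⟩
    obtain ⟨j, rfl⟩ := (hfix c).1 hc
    have e' : (z ^ j)⁻¹ * v * z ^ j = v := by
      rw [((D.hzv.pow_left j).inv_left).eq, inv_mul_cancel_right]
    rw [CfsgLib.TransferFix82.fixVal_mk φ v _ (by rw [e']; exact S.hRW S.hvR)]
    exact congrArg φ (Subtype.ext e')
  rw [Finset.prod_congr rfl (fun c _ => hval c), Finset.prod_const, Finset.card_univ,
    ← Nat.card_eq_fintype_card, ← Nat.card_eq_of_bijective T hT, Nat.card_fin] at hmem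
  have h1 := orderOf_dvd_of_pow_eq_one hmem
  rw [orderOf_eq_prime (hexp _) hφv] at h1
  have h2 := Nat.le_of_dvd two_pos ((D.hq.dvd_of_dvd_pow h1))
  have := S.hq5
  have := Nat.one_lt_two_pow (n := B) (by have := D.hB; omega)
  omega

end CfsgLib.SylTwoAbel
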