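import Mathlib
import Cfsg.Agent.Lib.SylTwoAbel.Transfer
import Cfsg.Agent.Lib.PermSmall.OddRecognition

/-!
In a rank-one set-up with an abelian 2-group `Q` containing a four-group, `Q` is elementary abelian.
-/

set_option autoImplicit false
set_option linter.style.haveILetI false
set_option linter.unusedSectionVars false

namespace CfsgLib.SylTwoAbel

open CfsgLib.RankOneInvol
open MulAction (stabilizer)

universe u

variable {G : Type u} [Group G] {Ω : Type u} [MulAction G Ω] {a : Ω} {t : G} {Q : Subgroup G}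
variable [Finite G] (C : Ctx G a t Q)
include C

/-- With trivial `C_D(t)`, the group is a Zassenhaus group and `Q` is elementary. -/
theorem Ctx.elementary_of_fixTwo_eq_bot (hV : fixTwo G a t = ⊥) : ∀ x ∈ Q, x * x = 1 := by
  classical
  have hS := C.setup
  haveI := C.faithful
  haveI := finite_omega hS
  haveI := Fintype.ofFinite Ω
  obtain ⟨s0, r0, h0⟩ := exists_paired_right hS (isSwap_t hS)
  have hDK : ∀ d ∈ twoPt G a t, d ∈ invSet G a t := fun d hd => by
    obtain ⟨k, w, hk, hw, hwt, rfl⟩ := decomp_V' hS hd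
    have hw1 : w ∈ fixTwo G a t := (mem_fixTwo hS.mul_self).2 ⟨hw, hwt⟩
    rw [hV, Subgroup.mem_bot] at hw1
    rwa [hw1, mul_one]
  have hthree : ∀ g : G, ∀ x y w : Ω, x ≠ y → y ≠ w → x ≠ w → g • x = x → g • y = y → g • w = w →
      g = 1 := by
    intro g x y w hxy hyw hxw hx hy hw
    obtain ⟨h, hha, hhb⟩ := two_trans hS (ta_ne hS).symm hxy
    set d := h⁻¹ * g * h with hd
    have hfd : ∀ p : Ω, g • p = p → d • h⁻¹ • p = h⁻¹ • p := fun p hp => by
      rw [hd, mul_smul, mul_smul, smul_inv_smul, hp]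
    have ha : h⁻¹ • x = a := by rw [← hha, inv_smul_smul]
    have hb : h⁻¹ • y = t • a := by rw [← hhb, inv_smul_smul]
    have hdD : d ∈ twoPt G a t := mem_twoPt.2 ⟨ha ▸ hfd x hx, hb ▸ hfd y hy⟩
    have hX : ({d} : Set G) ⊆ (twoPt G a t : Set G) := by rintro _ rfl; exact hdD
    obtain ⟨u, hu, hsw⟩ := exists_swap_centralizing hS hX ⟨h⁻¹ • x, h⁻¹ • y, h⁻¹ • w,
      fun e => hxy (smul_left_cancel _ e), fun e => hxw (smul_left_cancel _ e),
      fun e => hyw (smul_left_cancel _ e), by rintro _ rfl; exact ⟨hfd x hx, hfd y hy, hfd w hw⟩⟩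
    obtain ⟨k, hk, rfl⟩ := swap_eq_conj_t hS hsw
    have hdu : d * (k⁻¹ * t * k) = k⁻¹ * t * k * d := Subgroup.mem_centralizer_iff.1 hu d rfl
    have h1 : k * d * k⁻¹ ∈ fixTwo G a t := by
      refine ⟨Subgroup.mul_mem _ (Subgroup.mul_mem _ ((mem_invSet hS).1 hk).1 hdD)
        (Subgroup.inv_mem _ ((mem_invSet hS).1 hk).1), Subgroup.mem_centralizer_singleton_iff.2 ?_⟩
      calc k * d * k⁻¹ * t = k * (d * (k⁻¹ * t * k)) * k⁻¹ := by group
        _ = k * (k⁻¹ * t * k * d) * k⁻¹ := by rw [hdu]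
        _ = t * (k * d * k⁻¹) := by group
    rw [hV, Subgroup.mem_bot] at h1
    calc g = h * k⁻¹ * (k * d * k⁻¹) * k * h⁻¹ := by rw [hd]; group
      _ = 1 := by rw [h1]; group
  have hZ : Cfsg.IsZassenhausGroup G Ω := by
    refine ⟨C.faithful, hS.two_transitive, hthree, ?_, fun N hN htr => ?_⟩
    · obtain ⟨k, hk, hk1⟩ := exists_invSet_ne_one hS C.h2
      exact ⟨k, hk1, a, t • a, (ta_ne hS).symm, mem_twoPt.1 ((mem_invSet hS).1 hk).1⟩
    · by_contra hcon
      push Not at hcon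
      haveI := htr
      have hN1 : Nat.card N = Nat.card Ω := by
        have h1 := (MulAction.stabilizer N a).card_mul_index
        rw [hcon a, Subgroup.card_bot, one_mul] at h1
        rw [← h1, ← hcon a, MulAction.index_stabilizer_of_transitive]
      have hNodd : Odd (Nat.card N) := by
        rw [hN1, (Cfsg.Agent.S1119.result hS).2.1]
        exact hS.even_card.add_one
      obtain ⟨x, hx, y, hy, hx1, hy1, hxy, hxx, hyy⟩ := C.four
      have hfix : ∀ s ∈ Q, s ≠ 1 → s * s = 1 → ∀ g ∈ N, s * g = g * s → g ∈ (⊥ : Subgroup G) := by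
        intro s hs hs1 hss g hg hc
        have hga : g • a = a := commute_fixed hS hs1 hss hc.symm (Q_smul hS hs)
        have hm : (⟨g, hg⟩ : N) ∈ MulAction.stabilizer N a := hga
        rw [hcon a, Subgroup.mem_bot] at hm
        rw [Subgroup.mem_bot]
        exact congrArg Subtype.val hm
      have hn : ∀ s : G, s * s = 1 → ∀ g ∈ N, s * g * s ∈ N := fun s hss g hg => by
        have := hN.conj_mem g hg s
        rwa [inv_eq_of_mul_eq_one_right hss] at this
      have hxy1 : x * y ≠ 1 := fun e => hxy (by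
        rw [eq_inv_of_mul_eq_one_left e, inv_eq_of_mul_eq_one_right hyy])
      have hxyy : x * y * (x * y) = 1 := by
        rw [(show Commute y x from C.comm y hy x hx).mul_mul_mul_comm x y, hxx, hyy, mul_one]
      have hle : N ≤ (⊥ : Subgroup G) := le_of_fourGroup_fixed hNodd hxx hyy (C.comm x hx y hy)
        (hn x hxx) (hn y hyy)
        (fun g hg e => hfix x hx hx1 hxx g hg (by
          calc x * g = x * g * (x * x) := by rw [hxx, mul_one]
            _ = (x * g * x) * x := by group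
            _ = g * x := by rw [e]))
        (fun g hg e => hfix y hy hy1 hyy g hg (by
          calc y * g = y * g * (y * y) := by rw [hyy, mul_one]
            _ = (y * g * y) * y := by group
            _ = g * y := by rw [e]))
        (fun g hg e => hfix (x * y) (Q.mul_mem hx hy) hxy1 hxyy g hg (by
          calc x * y * g = x * y * g * (x * y * (x * y)) := by rw [hxyy, mul_one]
            _ = (x * y * g * (x * y)) * (x * y) := by group
            _ = g * (x * y) := by rw [e]))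
      have h1 : Nat.card N = 1 := Subgroup.card_eq_one.2 (le_bot_iff.1 hle)
      rw [hN1, (Cfsg.Agent.S1119.result hS).2.1] at h1
      have := Nat.card_pos (α := Q)
      omega
  have hcΩ : Fintype.card Ω = Nat.card Q + 1 := by
    rw [← Nat.card_eq_fintype_card, (Cfsg.Agent.S1119.result hS).2.1]
  have hrec := CfsgLib.PermSmall.OddRecognition.card_and_recognition hZ (ta_ne hS).symm Q hS.le
    ⟨fun x hx g => Subgroup.mem_subgroupOf.2 (hS.conj_mem _ g.2 _ (Subgroup.mem_subgroupOf.1 hx))⟩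
    ⟨⟨fun x y => Subtype.ext (C.comm _ x.2 _ y.2)⟩⟩ (Cfsg.Agent.S1119.result hS).1
  have hd : Nat.card (twoPt G a t) = Nat.card Q - 1 := by
    rcases hrec with h | ⟨h, -⟩
    · rw [show Nat.card (twoPt G a t) = _ from h, hcΩ]; omega
    · exfalso
      obtain ⟨m, hm⟩ := hS.even_card
      have := Nat.card_pos (α := Q)
      omega
  obtain ⟨e, he⟩ := conj_invol_bijective hS h0.1
  have hI : (Cfsg.involutionsIn (stabilizer G a : Set G)).ncard = Nat.card Q - 1 := by
    rw [← hd, ← Nat.card_coe_set_eq]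
    refine (Nat.card_congr e).symm.trans (Nat.card_congr (Equiv.subtypeEquivRight fun d => ?_))
    exact ⟨fun h => ((mem_invSet hS).1 h).1, hDK d⟩
  intro x hx
  by_cases hx1 : x = 1
  · rw [hx1, mul_one]
  by_contra hxx
  have hsub : Cfsg.involutionsIn (stabilizer G a : Set G) ⊆ (Q : Set G) \ {1, x} := fun s hs => by
    obtain ⟨h1, h2, h3⟩ := C.invol_mem_iff.1 hs
    exact ⟨h1, by rintro (rfl | rfl); exacts [h2 rfl, hxx h3]⟩
  have h1 := Set.ncard_le_ncard hsub (Set.toFinite _)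
  rw [Set.ncard_sdiff (by rintro _ (rfl | rfl); exacts [Q.one_mem, hx]),
    Set.ncard_pair (Ne.symm hx1), hI, ← Nat.card_coe_set_eq] at h1
  have h2 : 1 < Nat.card Q := (Subgroup.one_lt_card_iff_ne_bot Q).2 fun e => hx1 (by
    rw [e] at hx; exact Subgroup.mem_bot.1 hx)
  simp only [SetLike.coe_sort_coe] at h1
  omega

/-- `Q` is elementary abelian. -/
theorem Ctx.elementary : ∀ x ∈ Q, x * x = 1 := by
  suffices key : ∀ (n : ℕ) (X : Type u) [Group X] [Finite X] (Ω' : Type u) [MulAction X Ω'] (a' : Ω')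
      (t' : X) (Q' : Subgroup X), Nat.card X = n → Ctx X a' t' Q' → ∀ x ∈ Q', x * x = 1 from
    key _ G Ω a t Q rfl C
  intro n
  induction n using Nat.strong_induction_on with
  | _ n ih =>
  intro G _ _ Ω _ a t Q hn C
  classical
  have hS := C.setup
  have IH : ∀ (X : Type u) [Group X] [Finite X] (Ω' : Type u) [MulAction X Ω'] (a' : Ω') (t' : X)
      (Q' : Subgroup X), Nat.card X < Nat.card G → Ctx X a' t' Q' → ∀ x ∈ Q', x * x = 1 :=
    fun X _ _ Ω' _ a' t' Q' h => ih _ (hn ▸ h) X Ω' a' t' Q' rfl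
  have hstep : ∀ (K : Subgroup G) (v : G), v ∉ K → Q ≤ K → t ∈ K → ∀ x ∈ Q, x * x = 1 := by
    intro K v hv hQ ht x hx
    have hlt : Nat.card K < Nat.card G := by
      rcases lt_or_eq_of_le (Nat.le_of_dvd Nat.card_pos K.card_subgroup_dvd_card) with h | h
      · exact h
      · exact absurd (Subgroup.eq_top_of_card_eq K h ▸ Subgroup.mem_top v) hv
    have := IH K Ω a ⟨t, ht⟩ (Q.subgroupOf K) hlt (C.restrict K hQ ht) ⟨x, hQ hx⟩ hx
    exact congrArg Subtype.val this
  by_cases hne : ∃ x ∈ Q, x * x ≠ 1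
  swap
  · push Not at hne; exact hne
  by_cases hV : fixTwo G a t = ⊥
  · exact C.elementary_of_fixTwo_eq_bot hV
  by_cases hpow : ∃ w ∈ fixTwo G a t, w ^ Nat.card Ω ≠ 1
  · obtain ⟨w, hw, hw'⟩ := hpow
    obtain ⟨K, -, hwK, hQ, ht⟩ := C.exists_normal_of_pow_ne hw hw'
    exact hstep K w hwK hQ ht
  push Not at hpow
  obtain ⟨q, hq, hqd⟩ := Nat.exists_prime_and_dvd
    (fun e => hV (Subgroup.card_eq_one.1 e) : Nat.card (fixTwo G a t) ≠ 1)
  haveI : Fact q.Prime := ⟨hq⟩
  obtain ⟨⟨v, hv⟩, hvo⟩ := exists_prime_orderOf_dvd_card' q hqd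
  have hvq : orderOf v = q := by rw [← hvo]; exact Subgroup.orderOf_coe (⟨v, hv⟩ : fixTwo G a t)
  have hvd : q ∣ Nat.card Ω := hvq ▸ orderOf_dvd_of_pow_eq_one (hpow v hv)
  obtain ⟨s0, r0, h0⟩ := exists_paired_right hS (isSwap_t hS)
  obtain ⟨hs0Q, hs01, hs02⟩ := C.invol_mem_iff.1 h0.1
  obtain ⟨hvD, hvt⟩ := (mem_fixTwo hS.mul_self).1 hv
  have hvs0 : v * s0 = s0 * v := (centralizer_base hS h0 hvD).2 hvt
  by_cases hone : ∀ s ∈ omegaOne C, v * s = s * v → s = 1 ∨ s = s0
  · obtain ⟨z, B, D⟩ := C.centData h0 hv hvq hvd hone hne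
    obtain ⟨K, -, hvK, hK⟩ := D.exists_hom
    refine hstep K v hvK (fun x hx => ?_) (hK t 1 (by rw [pow_one, pow_two, hS.mul_self]))
    obtain ⟨k, hk⟩ := C.two ⟨x, hx⟩
    exact hK x k (by simpa using congrArg Subtype.val hk)
  · exfalso
    push Not at hone
    obtain ⟨s, hs, hvs, hs1, hss0⟩ := hone
    have hall := C.cent_step hv (fun e => hq.ne_one (by rw [← hvq, e, orderOf_one])) IH
      (x := s0) (y := s) ⟨hs0Q, Subgroup.mem_centralizer_singleton_iff.2 hvs0.symm⟩
      ⟨hs.1, Subgroup.mem_centralizer_singleton_iff.2 hvs.symm⟩ hs01 hs1 (Ne.symm hss0) hs02 hs.2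
    -- an element of order four
    obtain ⟨x, hx, hxx⟩ := hne
    obtain ⟨k, hk⟩ := C.two ⟨x, hx⟩
    have hk' : x ^ 2 ^ k = 1 := by simpa using congrArg Subtype.val hk
    obtain ⟨y, hy, hyy, hy4⟩ : ∃ y ∈ Q, y ^ 2 ^ 1 ≠ 1 ∧ y ^ 2 ^ (1 + 1) = 1 := by
      have hex : ∃ j, x ^ 2 ^ j = 1 := ⟨k, hk'⟩
      set j := Nat.find hex with hj
      have hj2 : 2 ≤ j := by
        by_contra h
        have hspec := Nat.find_spec hex
        rw [← hj] at hspec
        have h2 : x ^ 2 ^ 1 = 1 :=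
          orderOf_dvd_iff_pow_eq_one.1 ((orderOf_dvd_of_pow_eq_one hspec).trans
            (pow_dvd_pow 2 (by omega)))
        rw [pow_one, pow_two] at h2
        exact hxx h2
      refine ⟨x ^ 2 ^ (j - 2), Q.pow_mem hx _, ?_, ?_⟩
      · rw [← pow_mul, ← pow_add]
        exact Nat.find_min hex (show j - 2 + 1 < j by omega)
      · rw [← pow_mul, ← pow_add, show j - 2 + (1 + 1) = j by omega]
        exact Nat.find_spec hex
    obtain ⟨y', hy', hys⟩ := C.exists_root hy hyy hy4 hs0Q hs01 hs02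
    have hq2 : q ≠ 2 := by
      rintro rfl
      exact Nat.not_even_iff_odd.2 (hvq ▸ odd_twoPt hS hvD : Odd 2) even_two
    obtain ⟨z, hz, hzs, hvz⟩ := C.exists_root_fixed (mem_twoPt.1 hvD).1 hvq hq2 hvs0 hy' hys
    have := hall z ⟨hz, Subgroup.mem_centralizer_singleton_iff.2 hvz.symm⟩
    rw [pow_one, pow_two, this] at hzs
    exact hs01 hzs.symm

end CfsgLib.SylTwoAbel
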